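import Groth.Agent.H24Art.Completion
import Mathlib.RingTheory.MvPowerSeries.Equiv
import Mathlib.RingTheory.MvPowerSeries.Inverse
import Mathlib.RingTheory.AdicCompletion.Completeness

/-!
Power series rings over coefficient rings, and their functors of points.
-/

universe u v

open CategoryTheory Finsupp

namespace Groth.Agent.H24Art

open ArtFun ArtFun.Art IsLocalRing

variable {Λ : Type u} {k : Type u} [CommRing Λ] [Field k] [Algebra Λ k]

section Coeff

variable {R : Type u} [CommRing R] [IsLocalRing R] {n : ℕ}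

/-- Power series whose coefficient of degree `d` lies in `m ^ (N - |d|)`. -/
noncomputable def coeffIdeal (R : Type u) [CommRing R] [IsLocalRing R] (n N : ℕ) :
    Ideal (MvPowerSeries (Fin n) R) where
  carrier := {g | ∀ d, MvPowerSeries.coeff d g ∈ maximalIdeal R ^ (N - degree d)}
  add_mem' {a b} ha hb d := by rw [map_add]; exact add_mem (ha d) (hb d)
  zero_mem' d := by rw [map_zero]; exact zero_mem _
  smul_mem' c x hx d := by
    classical
    rw [smul_eq_mul, MvPowerSeries.coeff_mul]
    refine Submodule.sum_mem _ fun p hp => Ideal.mul_mem_left _ _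
      (Ideal.pow_le_pow_right ?_ (hx p.2))
    have : degree p.2 ≤ degree d := by
      rw [← Finset.mem_antidiagonal.mp hp, map_add]; omega
    omega

theorem coeffIdeal_mul_le (a b : ℕ) :
    coeffIdeal R n a * coeffIdeal R n b ≤ coeffIdeal R n (a + b) := by
  classical
  rw [Ideal.mul_le]
  intro x hx y hy d
  rw [MvPowerSeries.coeff_mul]
  refine Submodule.sum_mem _ fun p hp => ?_
  have h : degree d = degree p.1 + degree p.2 := by
    rw [← Finset.mem_antidiagonal.mp hp, map_add]
  refine Ideal.pow_le_pow_right ?_ (show MvPowerSeries.coeff p.1 x * MvPowerSeries.coeff p.2 y ∈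
    maximalIdeal R ^ ((a - degree p.1) + (b - degree p.2)) from by
      rw [pow_add]; exact Ideal.mul_mem_mul (hx p.1) (hy p.2))
  omega

theorem mem_maximalIdeal_mvPowerSeries (g : MvPowerSeries (Fin n) R) :
    g ∈ maximalIdeal (MvPowerSeries (Fin n) R) ↔
      MvPowerSeries.constantCoeff g ∈ maximalIdeal R := by
  rw [IsLocalRing.mem_maximalIdeal, IsLocalRing.mem_maximalIdeal, mem_nonunits_iff,
    mem_nonunits_iff, MvPowerSeries.isUnit_iff_constantCoeff]

theorem coeff_mem_of_mem_pow (N : ℕ) :
    maximalIdeal (MvPowerSeries (Fin n) R) ^ N ≤ coeffIdeal R n N := by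
  induction N with
  | zero =>
    intro g _ d
    simp
  | succ N ih =>
    rw [pow_succ]
    refine (Ideal.mul_mono ih (show maximalIdeal (MvPowerSeries (Fin n) R) ≤ coeffIdeal R n 1 from
      fun g hg d => ?_)).trans (coeffIdeal_mul_le N 1)
    by_cases hd : d = 0
    · subst hd
      rw [MvPowerSeries.coeff_zero_eq_constantCoeff_apply]
      simpa using (mem_maximalIdeal_mvPowerSeries g).mp hg
    · have hpos : degree d ≠ 0 := fun h => hd ((Finsupp.degree_eq_zero_iff d).mp h)
      rw [show 1 - degree d = 0 by omega]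
      simp

theorem coe_mem_pow {N : ℕ} {p : MvPolynomial (Fin n) R}
    (hp : p ∈ MvPolynomial.idealOfVars (Fin n) R ^ N) :
    (p : MvPowerSeries (Fin n) R) ∈ maximalIdeal (MvPowerSeries (Fin n) R) ^ N := by
  have h : (MvPolynomial.idealOfVars (Fin n) R).map MvPolynomial.coeToMvPowerSeries.ringHom ≤
      maximalIdeal (MvPowerSeries (Fin n) R) := by
    rw [Ideal.map_le_iff_le_comap]; refine Ideal.span_le.mpr ?_
    rintro _ ⟨i, rfl⟩
    rw [SetLike.mem_coe, Ideal.mem_comap, mem_maximalIdeal_mvPowerSeries]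
    simp
  have h2 := Ideal.mem_map_of_mem MvPolynomial.coeToMvPowerSeries.ringHom hp
  rw [Ideal.map_pow] at h2
  exact Ideal.pow_right_mono h N h2

theorem sub_truncTotal_mem (g : MvPowerSeries (Fin n) R) (N : ℕ) :
    g - (MvPowerSeries.truncTotal N g : MvPowerSeries (Fin n) R) ∈
      maximalIdeal (MvPowerSeries (Fin n) R) ^ N := by
  set I := MvPolynomial.idealOfVars (Fin n) R
  set g' := g - (MvPowerSeries.truncTotal N g : MvPowerSeries (Fin n) R)
  have hzero : (MvPowerSeries.truncTotal N g') = 0 := by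
    ext d
    rcases lt_or_ge (degree d) N with h | h
    · rw [MvPowerSeries.coeff_truncTotal _ h, MvPolynomial.coeff_zero, map_sub,
        MvPolynomial.coeff_coe, MvPowerSeries.coeff_truncTotal _ h, sub_self]
    · rw [MvPolynomial.coeff_zero]
      exact MvPowerSeries.coeff_truncTotal_eq_zero _ h
  have h1 : MvPowerSeries.toAdicCompletion (Fin n) R g' ∈
      (I ^ N • ⊤ : Submodule (MvPolynomial (Fin n) R)
        (AdicCompletion I (MvPolynomial (Fin n) R))) := by
    rw [AdicCompletion.pow_smul_top_eq_ker_eval (MvPolynomial.idealOfVars_fg (Fin n) R),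
      LinearMap.mem_ker, AdicCompletion.eval_apply,
      MvPowerSeries.toAdicCompletion_apply_eq_mk_truncTotal, hzero]
    exact map_zero _
  have h2 := Submodule.mem_map_of_mem
    (f := (MvPowerSeries.toAdicCompletionAlgEquiv (Fin n) R).symm.toLinearMap) h1
  rw [Submodule.map_smul''] at h2
  have h3 : g' ∈ (I ^ N • ⊤ : Submodule (MvPolynomial (Fin n) R) (MvPowerSeries (Fin n) R)) := by
    have e : (MvPowerSeries.toAdicCompletionAlgEquiv (Fin n) R).symm
        (MvPowerSeries.toAdicCompletion (Fin n) R g') = g' := by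
      rw [← MvPowerSeries.toAdicCompletionAlgEquiv_apply, AlgEquiv.symm_apply_apply]
    rw [← e]
    exact Submodule.smul_mono le_rfl le_top h2
  rw [Ideal.smul_top_eq_map, Submodule.restrictScalars_mem, Ideal.map_pow] at h3
  refine Ideal.pow_right_mono ?_ N h3
  rw [Ideal.map_le_iff_le_comap]; refine Ideal.span_le.mpr ?_
  rintro _ ⟨i, rfl⟩
  rw [SetLike.mem_coe, Ideal.mem_comap, mem_maximalIdeal_mvPowerSeries,
    MvPowerSeries.algebraMap_apply']
  simp

theorem mem_pow_of_coeff {N : ℕ} {g : MvPowerSeries (Fin n) R}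
    (hg : ∀ d, degree d < N → MvPowerSeries.coeff d g ∈ maximalIdeal R ^ (N - degree d)) :
    g ∈ maximalIdeal (MvPowerSeries (Fin n) R) ^ N := by
  rw [← sub_add_cancel g (MvPowerSeries.truncTotal N g : MvPowerSeries (Fin n) R)]
  refine add_mem (sub_truncTotal_mem g N) ?_
  rw [MvPolynomial.as_sum (MvPowerSeries.truncTotal N g),
    show ((∑ v ∈ (MvPowerSeries.truncTotal N g).support, MvPolynomial.monomial v
      (MvPolynomial.coeff v (MvPowerSeries.truncTotal N g)) : MvPolynomial (Fin n) R) :
      MvPowerSeries (Fin n) R) = ∑ v ∈ (MvPowerSeries.truncTotal N g).support,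
        ((MvPolynomial.monomial v (MvPolynomial.coeff v (MvPowerSeries.truncTotal N g)) :
          MvPolynomial (Fin n) R) : MvPowerSeries (Fin n) R) from
      map_sum MvPolynomial.coeToMvPowerSeries.ringHom _ _]
  refine Submodule.sum_mem _ fun d hd => ?_
  have hlt : degree d < N := by
    by_contra h
    exact MvPolynomial.mem_support_iff.mp hd
      (MvPowerSeries.coeff_truncTotal_eq_zero _ (not_lt.mp h))
  rw [MvPowerSeries.coeff_truncTotal _ hlt]
  have e : MvPolynomial.monomial d (MvPowerSeries.coeff d g) =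
      MvPolynomial.C (MvPowerSeries.coeff d g) * MvPolynomial.monomial d 1 := by
    rw [MvPolynomial.C_mul_monomial, mul_one]
  rw [e, MvPolynomial.coe_mul, MvPolynomial.coe_C]
  have h1 : MvPowerSeries.C (MvPowerSeries.coeff d g) ∈
      maximalIdeal (MvPowerSeries (Fin n) R) ^ (N - degree d) := by
    have h := Ideal.mem_map_of_mem (MvPowerSeries.C (σ := Fin n)) (hg d hlt)
    rw [Ideal.map_pow] at h
    refine Ideal.pow_right_mono ?_ _ h
    refine Ideal.map_le_iff_le_comap.mpr fun c hc => ?_
    rw [Ideal.mem_comap, mem_maximalIdeal_mvPowerSeries, MvPowerSeries.constantCoeff_C]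
    exact hc
  have h2 : ((MvPolynomial.monomial d (1 : R) : MvPolynomial (Fin n) R) : MvPowerSeries (Fin n) R) ∈
      maximalIdeal (MvPowerSeries (Fin n) R) ^ degree d := by
    refine coe_mem_pow ((MvPolynomial.mem_pow_idealOfVars_iff' _ _).mpr fun x hx => ?_)
    classical
    rw [MvPolynomial.coeff_monomial, if_neg]
    rintro rfl
    exact lt_irrefl _ hx
  have := Ideal.mul_mem_mul h1 h2
  rwa [← pow_add, Nat.sub_add_cancel hlt.le] at this

theorem isAdicComplete_mvPowerSeries [IsNoetherianRing R] [IsAdicComplete (maximalIdeal R) R] :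
    IsAdicComplete (maximalIdeal (MvPowerSeries (Fin n) R)) (MvPowerSeries (Fin n) R) := by
  refine { toIsHausdorff := IsHausdorff.of_le_jacobson _ _ (maximalIdeal_le_jacobson _),
           toIsPrecomplete := ⟨fun f hf => ?_⟩ }
  simp only [SModEq.sub_mem, smul_eq_mul, Ideal.mul_top] at hf ⊢
  have hc : ∀ (d : Fin n →₀ ℕ) {i j}, i ≤ j →
      MvPowerSeries.coeff d (f (i + degree d)) - MvPowerSeries.coeff d (f (j + degree d)) ∈
        maximalIdeal R ^ i := by
    intro d i j hij
    rw [← map_sub]
    have h := coeff_mem_of_mem_pow _ (hf (show i + degree d ≤ j + degree d by omega)) d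
    rwa [Nat.add_sub_cancel] at h
  choose L hL using fun d : Fin n →₀ ℕ =>
    IsPrecomplete.prec (I := maximalIdeal R) inferInstance
      (f := fun j => MvPowerSeries.coeff d (f (j + degree d)))
      (fun {i j} hij => by rw [SModEq.sub_mem, smul_eq_mul, Ideal.mul_top]; exact hc d hij)
  simp only [SModEq.sub_mem, smul_eq_mul, Ideal.mul_top] at hL
  refine ⟨fun d => L d, fun i => mem_pow_of_coeff fun d hd => ?_⟩
  have h := hL d (i - degree d)
  rw [Nat.sub_add_cancel hd.le] at h
  rw [map_sub]
  exact h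

end Coeff

section CRing

variable (R : CRing Λ k) (n : ℕ)

/-- The augmentation of `R⟦x_1, …, x_n⟧`. -/
noncomputable def psRes : MvPowerSeries (Fin n) R.carrier →ₐ[Λ] k where
  toRingHom := R.res.toRingHom.comp MvPowerSeries.constantCoeff
  commutes' r := by
    change R.res (MvPowerSeries.constantCoeff (algebraMap Λ (MvPowerSeries (Fin n) R.carrier) r)) = _
    rw [MvPowerSeries.algebraMap_apply, MvPowerSeries.constantCoeff_C, R.res.commutes]

/-- `R⟦x_1, …, x_n⟧` as a coefficient ring. -/
@[reducible] noncomputable def pscr : CRing Λ k where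
  carrier := MvPowerSeries (Fin n) R.carrier
  res := psRes R n
  res_surjective := fun c => by
    obtain ⟨a, ha⟩ := R.res_surjective c
    refine ⟨MvPowerSeries.C a, ?_⟩
    change R.res (MvPowerSeries.constantCoeff (MvPowerSeries.C a)) = c
    rw [MvPowerSeries.constantCoeff_C, ha]
  isAdicComplete := by
    haveI := R.isAdicComplete
    exact isAdicComplete_mvPowerSeries

variable {R n}

/-- The inclusion of the coefficients. -/
noncomputable def psC : R.carrier →ₐ[Λ] (pscr R n).carrier :=
  IsScalarTower.toAlgHom Λ R.carrier (MvPowerSeries (Fin n) R.carrier)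

/-- The variables. -/
noncomputable def psX (i : Fin n) : (pscr R n).carrier := MvPowerSeries.X i

theorem psC_apply (r : R.carrier) : psC (n := n) r = MvPowerSeries.C r := rfl

theorem res_psC : (pscr R n).res.comp (psC (n := n)) = R.res := AlgHom.ext fun r => by
  change R.res (MvPowerSeries.constantCoeff (MvPowerSeries.C r)) = R.res r
  rw [MvPowerSeries.constantCoeff_C]

theorem res_psX (i : Fin n) : (pscr R n).res (psX i) = 0 := by
  change R.res (MvPowerSeries.constantCoeff (MvPowerSeries.X i)) = 0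
  rw [MvPowerSeries.constantCoeff_X, map_zero]

/-- The inclusion of the polynomials. -/
noncomputable def psι (R : CRing Λ k) (n : ℕ) :
    MvPolynomial (Fin n) R.carrier →ₐ[Λ] (pscr R n).carrier where
  toRingHom := MvPolynomial.coeToMvPowerSeries.ringHom
  commutes' r := by
    change ((algebraMap Λ (MvPolynomial (Fin n) R.carrier) r : MvPolynomial (Fin n) R.carrier) :
      MvPowerSeries (Fin n) R.carrier) = algebraMap Λ (MvPowerSeries (Fin n) R.carrier) r
    rw [MvPolynomial.algebraMap_apply, MvPowerSeries.algebraMap_apply, MvPolynomial.coe_C]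

theorem psι_apply (p : MvPolynomial (Fin n) R.carrier) :
    psι R n p = (p : MvPowerSeries (Fin n) R.carrier) := rfl

/-- Augmentation of the polynomial ring. -/
noncomputable def polyRes (R : CRing Λ k) (n : ℕ) : MvPolynomial (Fin n) R.carrier →ₐ[Λ] k :=
  (pscr R n).res.comp (psι R n)

theorem isCompl_pscr : IsCompl (polyRes R n) (pscr R n) (psι R n) where
  res_comp := rfl
  bijective A := by
    have hcoe := fun p : MvPolynomial (Fin n) R.carrier => psι_apply p
    constructor
    · intro ψ ψ' e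
      obtain ⟨c, hc⟩ := mpow_le_ker ψ
      obtain ⟨c', hc'⟩ := mpow_le_ker ψ'
      refine Subtype.ext (AlgHom.ext fun g => ?_)
      have hd := sub_truncTotal_mem g (max c c' + 1)
      have h1 := hc (Ideal.pow_le_pow_right (Nat.succ_le_succ (le_max_left c c')) hd)
      have h2 := hc' (Ideal.pow_le_pow_right (Nat.succ_le_succ (le_max_right c c')) hd)
      rw [RingHom.mem_ker, map_sub, sub_eq_zero] at h1 h2
      have h3 := congrArg (fun t : HomSet _ _ A => t.1 (MvPowerSeries.truncTotal (max c c' + 1) g)) e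
      simp only [AlgHom.comp_apply, hcoe] at h3
      exact h1.trans (h3.trans h2.symm)
    · intro φ
      obtain ⟨c, hc⟩ := isNilpotent_maximalIdeal A
      set N := c + 1
      have hI : ∀ p ∈ MvPolynomial.idealOfVars (Fin n) R.carrier ^ N, φ.1 p = 0 := by
        intro p hp
        have h1 : (MvPolynomial.idealOfVars (Fin n) R.carrier).map φ.1 ≤ maximalIdeal A := by
          rw [Ideal.map_le_iff_le_comap]; refine Ideal.span_le.mpr ?_
          rintro _ ⟨i, rfl⟩
          rw [SetLike.mem_coe, Ideal.mem_comap, mem_maximalIdeal_iff]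
          refine (congrArg (fun t : _ →ₐ[Λ] k => t (MvPolynomial.X i)) φ.2).trans ?_
          change (pscr R n).res _ = 0
          exact (congrArg (pscr R n).res (MvPolynomial.coe_X i)).trans (res_psX i)
        have h2 := Ideal.mem_map_of_mem φ.1 hp
        rw [Ideal.map_pow] at h2
        have h3 := Ideal.pow_le_pow_right (Nat.le_succ c) (Ideal.pow_right_mono h1 N h2)
        rw [hc] at h3
        exact Ideal.mem_bot.mp h3
      let ψ₀ : MvPowerSeries (Fin n) R.carrier →+* A :=
        (Ideal.Quotient.lift (MvPolynomial.idealOfVars (Fin n) R.carrier ^ N) φ.1.toRingHom hI).comp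
          (MvPowerSeries.truncTotalAlgHom (Fin n) R.carrier N).toRingHom
      have hψ : ∀ g, ψ₀ g = φ.1 (MvPowerSeries.truncTotal N g) := fun g => rfl
      have hψp : ∀ p : MvPolynomial (Fin n) R.carrier, ψ₀ p = φ.1 p := fun p => by
        rw [hψ, ← sub_eq_zero, ← map_sub]
        refine hI _ ((MvPolynomial.mem_pow_idealOfVars_iff' _ _).mpr fun x hx => ?_)
        rw [MvPolynomial.coeff_sub, MvPowerSeries.coeff_truncTotal _ hx, MvPolynomial.coeff_coe,
          sub_self]
      let ψ : MvPowerSeries (Fin n) R.carrier →ₐ[Λ] A :=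
        { ψ₀ with
          commutes' := fun r => by
            change ψ₀ (algebraMap Λ (MvPowerSeries (Fin n) R.carrier) r) = _
            rw [← (psι R n).commutes r, psι_apply, hψp, φ.1.commutes] }
      refine ⟨⟨ψ, AlgHom.ext fun g => ?_⟩, Subtype.ext (AlgHom.ext fun p => ?_)⟩
      · change A.res (ψ₀ g) = (pscr R n).res g
        rw [hψ]
        refine (congrArg (fun t : _ →ₐ[Λ] k => t (MvPowerSeries.truncTotal N g)) φ.2).trans ?_
        change (pscr R n).res (MvPowerSeries.truncTotal N g : MvPowerSeries (Fin n) R.carrier) = _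
        rw [← sub_eq_zero, ← map_sub, ← CRing.mem_maximalIdeal_iff,
          ← neg_mem_iff, neg_sub]
        exact Ideal.pow_le_self (Nat.succ_ne_zero c) (sub_truncTotal_mem g N)
      · exact (congrArg ψ₀ (hcoe p)).trans (hψp p)

theorem poly_ext {S : Type u} [CommRing S] [Algebra Λ S]
    {g g' : MvPolynomial (Fin n) R.carrier →ₐ[Λ] S}
    (hC : ∀ r, g (MvPolynomial.C r) = g' (MvPolynomial.C r))
    (hX : ∀ i, g (MvPolynomial.X i) = g' (MvPolynomial.X i)) : g = g' :=
  AlgHom.ext fun p => congrArg (fun t : MvPolynomial (Fin n) R.carrier →+* S => t p)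
    (MvPolynomial.ringHom_ext (f := g.toRingHom) (g := g'.toRingHom) hC hX)

theorem exists_polyHom {S : Type u} [CommRing S] [Algebra Λ S] (u : R.carrier →ₐ[Λ] S)
    (a : Fin n → S) :
    ∃ g : MvPolynomial (Fin n) R.carrier →ₐ[Λ] S,
      (∀ r, g (MvPolynomial.C r) = u r) ∧ ∀ i, g (MvPolynomial.X i) = a i :=
  ⟨{ MvPolynomial.eval₂Hom u.toRingHom a with
      commutes' := fun r => by
        change MvPolynomial.eval₂Hom u.toRingHom a
          (algebraMap Λ (MvPolynomial (Fin n) R.carrier) r) = _
        rw [MvPolynomial.algebraMap_apply, MvPolynomial.eval₂Hom_C]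
        exact u.commutes r },
    fun r => MvPolynomial.eval₂Hom_C _ _ r, fun i => MvPolynomial.eval₂Hom_X' _ _ i⟩

theorem polyRes_comp {S : Type u} [CommRing S] [Algebra Λ S] {resS : S →ₐ[Λ] k}
    {u : R.carrier →ₐ[Λ] S} (hu : resS.comp u = R.res) {a : Fin n → S} (ha : ∀ i, resS (a i) = 0)
    {g : MvPolynomial (Fin n) R.carrier →ₐ[Λ] S} (hC : ∀ r, g (MvPolynomial.C r) = u r)
    (hX : ∀ i, g (MvPolynomial.X i) = a i) : resS.comp g = polyRes R n := by
  refine poly_ext (fun r => ?_) fun i => ?_
  · rw [AlgHom.comp_apply, hC, polyRes, AlgHom.comp_apply, psι_apply, MvPolynomial.coe_C]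
    exact (congrArg (fun t : _ →ₐ[Λ] k => t r) hu).trans
      (congrArg (fun t : _ →ₐ[Λ] k => t r) (res_psC (R := R) (n := n))).symm
  · rw [AlgHom.comp_apply, hX, ha, polyRes, AlgHom.comp_apply, psι_apply, MvPolynomial.coe_X]
    exact (res_psX i).symm

theorem ps_exists_homSet {A : Art Λ k} (u : HomSet R.carrier R.res A) (a : Fin n → A)
    (ha : ∀ i, A.res (a i) = 0) :
    ∃ χ : HomSet (pscr R n).carrier (pscr R n).res A,
      χ.1.comp psC = u.1 ∧ ∀ i, χ.1 (psX i) = a i := by
  obtain ⟨g, hC, hX⟩ := exists_polyHom u.1 a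
  obtain ⟨χ, hχ⟩ := isCompl_pscr.exists_lift ⟨g, polyRes_comp u.2 ha hC hX⟩
  have hχp : ∀ p : MvPolynomial (Fin n) R.carrier,
      χ.1 (p : MvPowerSeries (Fin n) R.carrier) = g p := fun p => by
    rw [← psι_apply p]
    exact congrArg (fun t : _ →ₐ[Λ] A => t p) hχ
  refine ⟨χ, AlgHom.ext fun r => ?_, fun i => ?_⟩
  · rw [AlgHom.comp_apply, ← hC r, ← hχp, MvPolynomial.coe_C]
    rfl
  · rw [← hX i, ← hχp, MvPolynomial.coe_X]
    rfl

theorem ps_homSet_ext {A : Art Λ k} {χ χ' : HomSet (pscr R n).carrier (pscr R n).res A}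
    (hC : χ.1.comp psC = χ'.1.comp psC) (hX : ∀ i, χ.1 (psX i) = χ'.1 (psX i)) : χ = χ' := by
  refine isCompl_pscr.homSet_ext (poly_ext (fun r => ?_) fun i => ?_)
  · rw [AlgHom.comp_apply, AlgHom.comp_apply, psι_apply, MvPolynomial.coe_C]
    exact congrArg (fun t : _ →ₐ[Λ] A => t r) hC
  · rw [AlgHom.comp_apply, AlgHom.comp_apply, psι_apply, MvPolynomial.coe_X]
    exact hX i

theorem ps_exists_hom (T : CRing Λ k) (u : R.carrier →ₐ[Λ] T.carrier) (hu : T.res.comp u = R.res)
    (a : Fin n → T.carrier) (ha : ∀ i, T.res (a i) = 0) :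
    ∃ g : (pscr R n).carrier →ₐ[Λ] T.carrier,
      T.res.comp g = (pscr R n).res ∧ g.comp psC = u ∧ ∀ i, g (psX i) = a i := by
  obtain ⟨g₀, hC, hX⟩ := exists_polyHom u a
  obtain ⟨g, hg, hgι⟩ := isCompl_pscr.exists_hom T g₀ (polyRes_comp hu ha hC hX)
  have hgp : ∀ p : MvPolynomial (Fin n) R.carrier,
      g (p : MvPowerSeries (Fin n) R.carrier) = g₀ p := fun p => by
    rw [← psι_apply p]
    exact congrArg (fun t : _ →ₐ[Λ] T.carrier => t p) hgι
  refine ⟨g, hg, AlgHom.ext fun r => ?_, fun i => ?_⟩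
  · rw [AlgHom.comp_apply, ← hC r, ← hgp, MvPolynomial.coe_C]
    rfl
  · rw [← hX i, ← hgp, MvPolynomial.coe_X]
    rfl

end CRing

end Groth.Agent.H24Art
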