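import Groth.Prelude.Def_ArtFun2
import Groth.Prelude.Def_ArtFun3
import Mathlib.RingTheory.HopkinsLevitzki
import Mathlib.RingTheory.Noetherian.Basic
import Mathlib.RingTheory.Finiteness.Basic
import Mathlib.Dynamics.Newton
import Mathlib.FieldTheory.Minpoly.Field
import Mathlib.FieldTheory.Separable

/-!
Basic facts on the category `ArtFun.Art Λ k`: socle steps, finiteness over `Λ`, fibre products along
surjections, factorisation of surjections into small extensions.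
-/

universe u v

open CategoryTheory

namespace Groth.Agent.H24Art

open ArtFun ArtFun.Art IsLocalRing

variable {Λ : Type u} {k : Type u} [CommRing Λ] [Field k] [Algebra Λ k]

theorem isNilpotent_maximalIdeal (A : Art Λ k) : IsNilpotent (maximalIdeal A) :=
  (isArtinianRing_iff_isNilpotent_maximalIdeal A).mp inferInstance

theorem res_ker (A : Art Λ k) : RingHom.ker A.res = maximalIdeal A := by
  ext a
  rw [RingHom.mem_ker, A.mem_maximalIdeal_iff]

theorem map_mem_maximalIdeal {A B : Art Λ k} (f : A ⟶ B) {a : A} (ha : a ∈ maximalIdeal A) :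
    f a ∈ maximalIdeal B := by
  rw [mem_maximalIdeal_iff, res_app]
  exact (A.mem_maximalIdeal_iff a).mp ha

theorem comap_maximalIdeal {A B : Art Λ k} (f : A ⟶ B) {a : A} :
    f a ∈ maximalIdeal B ↔ a ∈ maximalIdeal A := by
  rw [mem_maximalIdeal_iff, mem_maximalIdeal_iff, res_app]

theorem ker_le_maximalIdeal {A B : Art Λ k} (f : A ⟶ B) :
    RingHom.ker f.toAlgHom ≤ maximalIdeal A := fun a ha => by
  rw [← comap_maximalIdeal f, RingHom.mem_ker.mp ha]
  exact zero_mem _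

/-- Socle step: for ideals `J < K` there is `t ∈ K \ J` with `m t ⊆ J`. -/
theorem exists_socle (A : Art Λ k) {J K : Ideal A} (h : J < K) :
    ∃ t ∈ K, t ∉ J ∧ ∀ a ∈ maximalIdeal A, a * t ∈ J := by
  classical
  obtain ⟨n, hn⟩ := isNilpotent_maximalIdeal A
  have hex : ∃ n, maximalIdeal A ^ n * K ≤ J := ⟨n, by rw [hn, zero_mul]; exact bot_le⟩
  have hspec := Nat.find_spec hex
  rcases hfind : Nat.find hex with _ | m
  · rw [hfind] at hspec
    simp at hspec
    exact absurd hspec (not_le_of_gt h)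
  · rw [hfind] at hspec
    obtain ⟨t, ht, htJ⟩ := SetLike.not_le_iff_exists.mp
      (Nat.find_min hex (m := m) (by omega))
    exact ⟨t, (Ideal.mul_le_right : maximalIdeal A ^ m * K ≤ K) ht, htJ, fun a ha => hspec (by
      rw [pow_succ', mul_assoc]; exact Ideal.mul_mem_mul ha ht)⟩

section Finite

/-- An object of `Art Λ k` is a finite `Λ`-module. -/
theorem moduleFinite [Module.Finite Λ k] (A : Art Λ k) : Module.Finite Λ A := by
  suffices h : ∀ J : Ideal A, Module.Finite Λ (A ⧸ J) from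
    haveI := h ⊥
    Module.Finite.equiv ((AlgEquiv.quotientBot Λ A).toLinearEquiv)
  intro J
  induction J using WellFoundedGT.induction with
  | ind J ih =>
  by_cases hJ : J = ⊤
  · subst hJ
    infer_instance
  · obtain ⟨t, -, htJ, hmt⟩ := exists_socle A (lt_top_iff_ne_top.mpr hJ)
    haveI := ih (J ⊔ Ideal.span {t}) (Submodule.lt_sup_iff_notMem.mpr htJ)
    let p : (A ⧸ J) →ₗ[Λ] (A ⧸ (J ⊔ Ideal.span {t})) :=
      (Ideal.Quotient.factorₐ Λ le_sup_left).toLinearMap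
    let g : A →ₗ[Λ] A ⧸ J := (Ideal.Quotient.mkₐ Λ J).toLinearMap ∘ₗ LinearMap.mulRight Λ t
    have hg : LinearMap.ker A.res.toLinearMap ≤ LinearMap.ker g := fun a ha =>
      LinearMap.mem_ker.mpr (Ideal.Quotient.eq_zero_iff_mem.mpr
        (hmt a ((A.mem_maximalIdeal_iff a).mpr ha)))
    let g' : k →ₗ[Λ] A ⧸ J := (Submodule.liftQ _ g hg) ∘ₗ
      (LinearMap.quotKerEquivOfSurjective A.res.toLinearMap A.res_surjective).symm.toLinearMap
    refine ⟨Submodule.fg_of_fg_map_of_fg_inf_ker p ?_ ?_⟩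
    · rw [Submodule.map_top, LinearMap.range_eq_top.mpr
        (Ideal.Quotient.factor_surjective le_sup_left)]
      exact Module.Finite.fg_top
    · have : ⊤ ⊓ LinearMap.ker p = LinearMap.range g' := by
        rw [top_inf_eq]
        ext x
        obtain ⟨a, rfl⟩ := Ideal.Quotient.mk_surjective x
        constructor
        · intro hx
          have hx' : a ∈ J ⊔ Ideal.span {t} := Ideal.Quotient.eq_zero_iff_mem.mp hx
          obtain ⟨j, hj, s, hs, rfl⟩ := Submodule.mem_sup.mp hx'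
          obtain ⟨c, rfl⟩ := Ideal.mem_span_singleton'.mp hs
          refine ⟨A.res c, ?_⟩
          simp only [g', LinearMap.comp_apply, LinearEquiv.coe_coe]
          erw [LinearMap.quotKerEquivOfSurjective_symm_apply]
          simp only [Submodule.liftQ_apply]
          change Ideal.Quotient.mk J (c * t) = Ideal.Quotient.mk J (j + c * t)
          rw [map_add, Ideal.Quotient.eq_zero_iff_mem.mpr hj, zero_add]
        · rintro ⟨y, hy⟩
          obtain ⟨c, rfl⟩ := A.res_surjective y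
          rw [← hy]
          simp only [g', LinearMap.comp_apply, LinearEquiv.coe_coe]
          erw [LinearMap.quotKerEquivOfSurjective_symm_apply]
          simp only [Submodule.liftQ_apply]
          exact Ideal.Quotient.eq_zero_iff_mem.mpr
            (Ideal.mem_sup_right (Ideal.mul_mem_left _ _ (Ideal.mem_span_singleton_self t)))
      rw [this]
      exact Module.Finite.fg_top.map g' |> (fun h => by rwa [Submodule.map_top] at h)

end Finite

section Fibre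

variable {A A₁ A₂ : Art Λ k} (f₁ : A₁ ⟶ A) (f₂ : A₂ ⟶ A)

/-- The set-theoretic fibre product as a subalgebra. -/
def fibSub : Subalgebra Λ (A₁ × A₂) :=
  AlgHom.equalizer (f₁.toAlgHom.comp (AlgHom.fst Λ A₁ A₂)) (f₂.toAlgHom.comp (AlgHom.snd Λ A₁ A₂))

theorem isLocalRing_fibSub : IsLocalRing (fibSub f₁ f₂) := by
  have hu : ∀ x : fibSub f₁ f₂, IsUnit (x : A₁ × A₂).1 → IsUnit x := by
    intro x hx
    have hfx : f₁ (x : A₁ × A₂).1 = f₂ (x : A₁ × A₂).2 := x.2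
    have h2 : IsUnit (x : A₁ × A₂).2 := by
      haveI := isLocalHom f₂
      exact IsUnit.of_map f₂.toAlgHom _ (hfx ▸ hx.map f₁.toAlgHom)
    have hmem : ((↑hx.unit⁻¹ : A₁), (↑h2.unit⁻¹ : A₂)) ∈ fibSub f₁ f₂ := by
      change f₁ (↑hx.unit⁻¹ : A₁) = f₂ (↑h2.unit⁻¹ : A₂)
      apply (hx.map f₁.toAlgHom).mul_left_cancel
      rw [← map_mul, hx.mul_val_inv, map_one]
      change 1 = f₁ (x : A₁ × A₂).1 * f₂ (↑h2.unit⁻¹ : A₂)
      rw [hfx, ← map_mul, h2.mul_val_inv, map_one]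
    exact IsUnit.of_mul_eq_one ⟨_, hmem⟩ (Subtype.ext (Prod.ext hx.mul_val_inv h2.mul_val_inv))
  haveI : Nontrivial (fibSub f₁ f₂) :=
    ⟨⟨0, 1, fun h => zero_ne_one (α := A₁) (congrArg (fun z : fibSub f₁ f₂ => (z : A₁ × A₂).1) h)⟩⟩
  refine IsLocalRing.of_isUnit_or_isUnit_one_sub_self fun x => ?_
  rcases IsLocalRing.isUnit_or_isUnit_one_sub_self (x : A₁ × A₂).1 with h | h
  · exact Or.inl (hu x h)
  · exact Or.inr (hu (1 - x) h)

/-- The fibre product object, given that the residue map is surjective. -/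
noncomputable def fibObj [IsNoetherianRing Λ] [Module.Finite Λ k]
    (hres : ∀ c : k, ∃ (a₁ : A₁) (a₂ : A₂), f₁ a₁ = f₂ a₂ ∧ A₁.res a₁ = c) : Art Λ k :=
  haveI := isLocalRing_fibSub f₁ f₂
  haveI : IsArtinianRing (fibSub f₁ f₂) := by
    haveI := moduleFinite A₁
    haveI := moduleFinite A₂
    haveI : IsNoetherian Λ (fibSub f₁ f₂) :=
      inferInstanceAs (IsNoetherian Λ (Subalgebra.toSubmodule (fibSub f₁ f₂)))
    haveI : IsNoetherianRing (fibSub f₁ f₂) := isNoetherian_of_tower Λ inferInstance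
    rw [isArtinianRing_iff_isNilpotent_maximalIdeal]
    obtain ⟨n₁, hn₁⟩ := isNilpotent_maximalIdeal A₁
    obtain ⟨n₂, hn₂⟩ := isNilpotent_maximalIdeal A₂
    refine ⟨n₁ + n₂, ?_⟩
    rw [Ideal.zero_eq_bot, eq_bot_iff]
    let π₁ : fibSub f₁ f₂ →+* A₁ := (RingHom.fst A₁ A₂).comp (fibSub f₁ f₂).val.toRingHom
    let π₂ : fibSub f₁ f₂ →+* A₂ := (RingHom.snd A₁ A₂).comp (fibSub f₁ f₂).val.toRingHom
    have h1 : (maximalIdeal (fibSub f₁ f₂)).map π₁ ≤ maximalIdeal A₁ := by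
      rw [Ideal.map_le_iff_le_comap]
      intro x hx
      by_contra hu
      rw [Ideal.mem_comap, IsLocalRing.mem_maximalIdeal, mem_nonunits_iff, not_not] at hu
      have hfx : f₁ (x : A₁ × A₂).1 = f₂ (x : A₁ × A₂).2 := x.2
      have h2 : IsUnit (x : A₁ × A₂).2 := by
        haveI := isLocalHom f₂
        exact IsUnit.of_map f₂.toAlgHom _ (hfx ▸ hu.map f₁.toAlgHom)
      have hmem : ((↑hu.unit⁻¹ : A₁), (↑h2.unit⁻¹ : A₂)) ∈ fibSub f₁ f₂ := by
        change f₁ (↑hu.unit⁻¹ : A₁) = f₂ (↑h2.unit⁻¹ : A₂)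
        apply (hu.map f₁.toAlgHom).mul_left_cancel
        rw [← map_mul]
        change f₁.toAlgHom ((x : A₁ × A₂).1 * ↑hu.unit⁻¹) = f₁ (x : A₁ × A₂).1 * _
        erw [hu.mul_val_inv]
        rw [map_one, hfx, ← map_mul, h2.mul_val_inv, map_one]
      exact hx (IsUnit.of_mul_eq_one ⟨_, hmem⟩ (Subtype.ext (Prod.ext hu.mul_val_inv h2.mul_val_inv)))
    have h2 : (maximalIdeal (fibSub f₁ f₂)).map π₂ ≤ maximalIdeal A₂ := by
      rw [Ideal.map_le_iff_le_comap]
      intro x hx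
      have h := h1 (Ideal.mem_map_of_mem π₁ hx)
      rw [Ideal.mem_comap, ← comap_maximalIdeal f₂]
      have hfx : f₁ (x : A₁ × A₂).1 = f₂ (x : A₁ × A₂).2 := x.2
      exact hfx ▸ map_mem_maximalIdeal f₁ h
    intro x hx
    rw [Ideal.mem_bot]
    refine Subtype.ext (Prod.ext ?_ ?_)
    · have := Ideal.mem_map_of_mem π₁ (Ideal.pow_le_pow_right (Nat.le_add_right n₁ n₂) hx)
      rw [Ideal.map_pow] at this
      have h' := Ideal.pow_right_mono h1 n₁ this
      rw [hn₁, Ideal.zero_eq_bot, Ideal.mem_bot] at h'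
      exact h'
    · have := Ideal.mem_map_of_mem π₂ (Ideal.pow_le_pow_right (Nat.le_add_left n₂ n₁) hx)
      rw [Ideal.map_pow] at this
      have h' := Ideal.pow_right_mono h2 n₂ this
      rw [hn₂, Ideal.zero_eq_bot, Ideal.mem_bot] at h'
      exact h'
  { carrier := fibSub f₁ f₂
    res := (A₁.res.comp (AlgHom.fst Λ A₁ A₂)).comp (fibSub f₁ f₂).val
    res_surjective := fun c => by
      obtain ⟨a₁, a₂, h, hc⟩ := hres c
      exact ⟨⟨(a₁, a₂), h⟩, hc⟩ }

theorem exists_fibre [IsNoetherianRing Λ] [Module.Finite Λ k]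
    (hres : ∀ c : k, ∃ (a₁ : A₁) (a₂ : A₂), f₁ a₁ = f₂ a₂ ∧ A₁.res a₁ = c) :
    ∃ (B : Art Λ k) (p₁ : B ⟶ A₁) (p₂ : B ⟶ A₂), IsFibreProd p₁ p₂ f₁ f₂ := by
  refine ⟨fibObj f₁ f₂ hres, ⟨(AlgHom.fst Λ A₁ A₂).comp (fibSub f₁ f₂).val, rfl⟩,
    ⟨(AlgHom.snd Λ A₁ A₂).comp (fibSub f₁ f₂).val, ?_⟩, ?_, ?_, ?_⟩
  · refine AlgHom.ext fun x => ?_
    change A₂.res x.1.2 = A₁.res x.1.1
    rw [← res_app f₂, ← show f₁ x.1.1 = f₂ x.1.2 from x.2, res_app]
  · exact Art.hom_ext (AlgHom.ext fun x => x.2)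
  · exact fun b₁ b₂ h₁ h₂ => Subtype.ext (Prod.ext h₁ h₂)
  · exact fun a₁ a₂ h => ⟨⟨(a₁, a₂), h⟩, rfl, rfl⟩

theorem exists_fibre_of_surjective [IsNoetherianRing Λ] [Module.Finite Λ k]
    (hf₂ : Function.Surjective f₂) :
    ∃ (B : Art Λ k) (p₁ : B ⟶ A₁) (p₂ : B ⟶ A₂), IsFibreProd p₁ p₂ f₁ f₂ :=
  exists_fibre f₁ f₂ fun c => by
    obtain ⟨a₁, ha⟩ := A₁.res_surjective c
    obtain ⟨a₂, h₂⟩ := hf₂ (f₁ a₁)
    exact ⟨a₁, a₂, h₂.symm, ha⟩

end Fibre

theorem fst_surjective {B A A₁ A₂ : Art Λ k} {p₁ : B ⟶ A₁} {p₂ : B ⟶ A₂} {f₁ : A₁ ⟶ A}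
    {f₂ : A₂ ⟶ A} (h : IsFibreProd p₁ p₂ f₁ f₂) (hf : Function.Surjective f₂) :
    Function.Surjective p₁ := fun a => by
  obtain ⟨a₂, ha⟩ := hf (f₁ a)
  obtain ⟨b, hb, -⟩ := h.surj a a₂ ha.symm
  exact ⟨b, hb⟩

theorem IsFibreProd.symm' {B A A₁ A₂ : Art Λ k} {p₁ : B ⟶ A₁} {p₂ : B ⟶ A₂} {f₁ : A₁ ⟶ A}
    {f₂ : A₂ ⟶ A} (h : IsFibreProd p₁ p₂ f₁ f₂) : IsFibreProd p₂ p₁ f₂ f₁ :=
  ⟨h.w.symm, fun b b' h₁ h₂ => h.inj b b' h₂ h₁, fun a a' e => by
    obtain ⟨b, hb, hb'⟩ := h.surj a' a e.symm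
    exact ⟨b, hb', hb⟩⟩

theorem isSmallExt_fst {B A A₁ A₂ : Art Λ k} {p₁ : B ⟶ A₁} {p₂ : B ⟶ A₂} {f₁ : A₁ ⟶ A}
    {f₂ : A₂ ⟶ A} (h : IsFibreProd p₁ p₂ f₁ f₂) (hf : IsSmallExt f₂) : IsSmallExt p₁ := by
  obtain ⟨hs, hne, hp, hm⟩ := hf
  obtain ⟨t, ht⟩ := hp
  have htk : f₂ t = 0 := RingHom.mem_ker.mp (ht ▸ Submodule.mem_span_singleton_self t)
  obtain ⟨b₀, hb₁, hb₂⟩ := h.surj 0 t (by rw [map_zero, htk])
  have hker : RingHom.ker p₁.toAlgHom = Ideal.span {b₀} := by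
    refine le_antisymm (fun b hb => ?_) ((Ideal.span_singleton_le_iff_mem _).mpr hb₁)
    have h2 : f₂ (p₂ b) = 0 := by rw [← h.w_apply, RingHom.mem_ker.mp hb, map_zero]
    have h2' : p₂ b ∈ Ideal.span {t} := by
      rw [← Ideal.submodule_span_eq, ← ht]; exact h2
    obtain ⟨c, hc⟩ := Ideal.mem_span_singleton'.mp h2'
    obtain ⟨c₁, hc₁⟩ : ∃ c₁ : B, p₂ c₁ - c ∈ maximalIdeal A₂ := by
      obtain ⟨c₁, hc₁⟩ := B.res_surjective (A₂.res c)
      exact ⟨c₁, by rw [mem_maximalIdeal_iff, map_sub, res_app, hc₁, sub_self]⟩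
    refine Ideal.mem_span_singleton'.mpr ⟨c₁, h.inj _ _ ?_ ?_⟩
    · rw [map_mul, hb₁, mul_zero]
      exact (RingHom.mem_ker.mp hb).symm
    · rw [map_mul, hb₂, ← hc, ← sub_eq_zero, ← sub_mul, ← Ideal.mem_bot, ← hm]
      exact Ideal.mul_mem_mul hc₁ (ht ▸ Submodule.mem_span_singleton_self t)
  refine ⟨fst_surjective h hs, ?_, ⟨⟨b₀, hker⟩⟩, ?_⟩
  · intro hbot
    apply hne
    rw [ht, Submodule.span_singleton_eq_bot, ← hb₂]
    have : b₀ = 0 := by
      rw [← Ideal.mem_bot, ← hbot]; exact hb₁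
    rw [this, map_zero]
  · rw [eq_bot_iff, Ideal.mul_le]
    intro a ha b hb
    rw [Ideal.mem_bot]
    refine h.inj _ _ ?_ ?_
    · rw [map_mul, RingHom.mem_ker.mp hb, mul_zero, map_zero]
    · rw [map_mul, map_zero, ← Ideal.mem_bot, ← hm]
      exact Ideal.mul_mem_mul (map_mem_maximalIdeal p₂ ha)
        (RingHom.mem_ker.mpr (by rw [← h.w_apply, RingHom.mem_ker.mp hb, map_zero]))

theorem isIso_of_bijective {A B : Art Λ k} (f : A ⟶ B) (hf : Function.Bijective f) : IsIso f := by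
  let e := AlgEquiv.ofBijective f.toAlgHom hf
  refine ⟨⟨e.symm.toAlgHom, ?_⟩, ?_, ?_⟩
  · refine AlgHom.ext fun b => ?_
    obtain ⟨a, rfl⟩ := hf.2 b
    change A.res (e.symm (e a)) = B.res (f a)
    rw [e.symm_apply_apply, res_app]
  · exact Art.hom_ext (AlgHom.ext fun a => e.symm_apply_apply a)
  · exact Art.hom_ext (AlgHom.ext fun a => e.apply_symm_apply a)

/-- Every surjection factors into small extensions. -/
theorem surjective_induction
    (P : ∀ ⦃A B : Art Λ k⦄, (B ⟶ A) → Prop)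
    (hiso : ∀ ⦃A B : Art Λ k⦄ (e : B ⟶ A), IsIso e → P e)
    (hsmall : ∀ ⦃A B : Art Λ k⦄ (p : B ⟶ A), IsSmallExt p → P p)
    (hcomp : ∀ ⦃A B C : Art Λ k⦄ (p : C ⟶ B) (q : B ⟶ A), P p → P q → P (p ≫ q))
    ⦃A B : Art Λ k⦄ (f : B ⟶ A) (hf : Function.Surjective f) : P f := by
  suffices key : ∀ (J : Ideal B) (hJ : J ≤ RingHom.ker f.toAlgHom)
      (hJm : J ≤ maximalIdeal B), P (quotFactor hJm f hJ) by
    have h := hcomp (quotMk B ⊥ bot_le) _
      (hiso _ (isIso_of_bijective _ ⟨fun a b h => by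
        rw [← sub_eq_zero, ← Ideal.mem_bot]
        exact Ideal.Quotient.eq.mp h, quotMk_surjective _ _ _⟩))
      (key ⊥ bot_le bot_le)
    rwa [quotMk_quotFactor] at h
  intro J
  induction J using WellFoundedGT.induction with
  | ind J ih =>
  intro hJ hJm
  by_cases hlt : J = RingHom.ker f.toAlgHom
  · refine hiso _ (isIso_of_bijective _ ⟨?_, ?_⟩)
    · intro a b h
      obtain ⟨a, rfl⟩ := Ideal.Quotient.mk_surjective a
      obtain ⟨b, rfl⟩ := Ideal.Quotient.mk_surjective b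
      refine Ideal.Quotient.eq.mpr ?_
      rw [hlt, RingHom.mem_ker, map_sub, sub_eq_zero]
      exact h
    · intro a
      obtain ⟨b, rfl⟩ := hf a
      exact ⟨quotMk B J hJm b, rfl⟩
  · obtain ⟨t, htK, htJ, hmt⟩ := exists_socle B (lt_of_le_of_ne hJ hlt)
    have hJ' : J ⊔ Ideal.span {t} ≤ RingHom.ker f.toAlgHom :=
      sup_le hJ ((Ideal.span_singleton_le_iff_mem _).mpr htK)
    have hJm' : J ⊔ Ideal.span {t} ≤ maximalIdeal B := hJ'.trans (ker_le_maximalIdeal f)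
    have hstep : J ≤ RingHom.ker (quotMk B (J ⊔ Ideal.span {t}) hJm').toAlgHom := fun a ha =>
      Ideal.Quotient.eq_zero_iff_mem.mpr (Ideal.mem_sup_left ha)
    let π := quotFactor hJm (quotMk B (J ⊔ Ideal.span {t}) hJm') hstep
    have hfac : quotFactor hJm f hJ = π ≫ quotFactor hJm' f hJ' := by
      refine Art.hom_ext (AlgHom.ext fun x => ?_)
      obtain ⟨a, rfl⟩ := Ideal.Quotient.mk_surjective x
      rfl
    rw [hfac]
    refine hcomp π _ (hsmall π ?_) (ih _ (Submodule.lt_sup_iff_notMem.mpr htJ) hJ' hJm')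
    have hmem : ∀ a : B, π (quotMk B J hJm a) = 0 ↔ a ∈ J ⊔ Ideal.span {t} := fun a =>
      Ideal.Quotient.eq_zero_iff_mem
    have ht0 : π (quotMk B J hJm t) = 0 :=
      (hmem t).mpr (Ideal.mem_sup_right (Ideal.mem_span_singleton_self t))
    have hker : RingHom.ker π.toAlgHom = Ideal.span {quotMk B J hJm t} := by
      refine le_antisymm (fun x hx => ?_) ((Ideal.span_singleton_le_iff_mem _).mpr ht0)
      obtain ⟨a, rfl⟩ := quotMk_surjective B J hJm x
      obtain ⟨j, hj, s, hs, rfl⟩ := Submodule.mem_sup.mp ((hmem a).mp hx)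
      obtain ⟨c, rfl⟩ := Ideal.mem_span_singleton'.mp hs
      refine Ideal.mem_span_singleton'.mpr ⟨quotMk B J hJm c, ?_⟩
      have hj0 : quotMk B J hJm j = 0 := Ideal.Quotient.eq_zero_iff_mem.mpr hj
      rw [map_add, map_mul, hj0, zero_add]
    refine ⟨fun x => ?_, ?_, ⟨⟨_, hker⟩⟩, ?_⟩
    · obtain ⟨a, rfl⟩ := quotMk_surjective B (J ⊔ Ideal.span {t}) hJm' x
      exact ⟨quotMk B J hJm a, rfl⟩
    · intro hbot
      rw [hker, Ideal.span_singleton_eq_bot] at hbot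
      exact htJ (Ideal.Quotient.eq_zero_iff_mem.mp hbot)
    · rw [hker, eq_bot_iff, Ideal.mul_le]
      intro x hx y hy
      obtain ⟨c, rfl⟩ := Ideal.mem_span_singleton'.mp hy
      obtain ⟨a, rfl⟩ := quotMk_surjective B J hJm x
      obtain ⟨c, rfl⟩ := quotMk_surjective B J hJm c
      have ha : a ∈ maximalIdeal B := (comap_maximalIdeal (quotMk B J hJm)).mp hx
      rw [Ideal.mem_bot, ← map_mul, ← map_mul, mul_left_comm]
      exact Ideal.Quotient.eq_zero_iff_mem.mpr (J.mul_mem_left _ (hmt a ha))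

section Separable

open Polynomial

/-- A root in an object lifting a simple root in the residue field exists and is unique. -/
theorem existsUnique_root (A : Art Λ k) (P : Λ[X]) (c : k) (hc : aeval c P = 0)
    (hc' : aeval c (derivative P) ≠ 0) : ∃! a : A, A.res a = c ∧ aeval a P = 0 := by
  obtain ⟨x, hx⟩ := A.res_surjective c
  have hnil : ∀ {a : A}, A.res a = 0 → IsNilpotent a := fun h => by
    obtain ⟨n, hn⟩ := isNilpotent_maximalIdeal A
    exact ⟨n, by rw [← Ideal.mem_bot, ← Ideal.zero_eq_bot, ← hn]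
                 exact Ideal.pow_mem_pow ((A.mem_maximalIdeal_iff _).mpr h) n⟩
  have h1 : IsNilpotent (aeval x P) := hnil (by rw [← aeval_algHom_apply, hx, hc])
  have h2 : IsUnit (aeval x (derivative P)) := by
    by_contra h
    have := (A.mem_maximalIdeal_iff _).mp ((IsLocalRing.mem_maximalIdeal _).mpr h)
    exact hc' (by rwa [← aeval_algHom_apply, hx] at this)
  obtain ⟨r, ⟨hr1, hr2⟩, huniq⟩ := Polynomial.existsUnique_nilpotent_sub_and_aeval_eq_zero h1 h2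
  have hr : A.res r = c := by
    have := hr1.map A.res
    rw [map_sub, isNilpotent_iff_eq_zero, sub_eq_zero] at this
    rw [← this, hx]
  exact ⟨r, ⟨hr, hr2⟩, fun a ⟨ha, ha'⟩ => huniq a ⟨hnil (by rw [map_sub, hx, ha, sub_self]), ha'⟩⟩

theorem exists_fibre_of_isSeparable [IsNoetherianRing Λ] [Module.Finite Λ k]
    [Algebra.IsSeparable (↥(algebraMap Λ k).range) k] {A A₁ A₂ : Art Λ k} (f₁ : A₁ ⟶ A)
    (f₂ : A₂ ⟶ A) :
    ∃ (B : Art Λ k) (p₁ : B ⟶ A₁) (p₂ : B ⟶ A₂), IsFibreProd p₁ p₂ f₁ f₂ := by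
  refine exists_fibre f₁ f₂ fun c => ?_
  set L := (algebraMap Λ k).range with hL
  have hsep : IsSeparable L c := Algebra.IsSeparable.isSeparable L c
  have hint : IsIntegral L c := hsep.isIntegral
  have hmem : minpoly L c ∈ Polynomial.lifts (algebraMap Λ k).rangeRestrict :=
    (Polynomial.map_surjective _ (algebraMap Λ k).rangeRestrict_surjective (minpoly L c))
  obtain ⟨P, hP⟩ := hmem
  have hP : P.map (algebraMap Λ k).rangeRestrict = minpoly L c := hP
  have hmap : ∀ Q : Λ[X], aeval c Q = aeval c (Q.map (algebraMap Λ k).rangeRestrict) := fun Q => by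
    rw [aeval_def, aeval_def, eval₂_map]
    rfl
  have hc : aeval c P = 0 := by rw [hmap, hP, minpoly.aeval]
  have hc' : aeval c (derivative P) ≠ 0 := by
    rw [hmap, ← derivative_map, hP]
    exact hsep.aeval_derivative_ne_zero (minpoly.aeval L c)
  obtain ⟨a₁, ⟨h₁, h₁'⟩, -⟩ := existsUnique_root A₁ P c hc hc'
  obtain ⟨a₂, ⟨h₂, h₂'⟩, -⟩ := existsUnique_root A₂ P c hc hc'
  refine ⟨a₁, a₂, (existsUnique_root A P c hc hc').unique ⟨?_, ?_⟩ ⟨?_, ?_⟩, h₁⟩
  · rw [res_app, h₁]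
  · rw [aeval_algHom_apply, h₁', map_zero]
  · rw [res_app, h₂]
  · rw [aeval_algHom_apply, h₂', map_zero]

end Separable

end Groth.Agent.H24Art
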