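import Groth.Agent.H24Art.Double
import Mathlib.LinearAlgebra.Dual.Lemmas
import Mathlib.Tactic.Abel
import Mathlib.Algebra.Group.MinimalAxioms

/-!
The vector space structure on the tangent space of a functor satisfying `H0` and `Heps`, and the
behaviour of comparison maps over square-zero objects.
-/

universe u v

open CategoryTheory

namespace Groth.Agent.H24Art

open ArtFun ArtFun.Art IsLocalRing

variable {Λ : Type u} {k : Type u} [CommRing Λ] [Field k] [Algebra Λ k]

variable (Λ k) in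
/-- `k ⊕ k³`. -/
def dual3 : Art Λ k :=
  { carrier := TrivSqZeroExt k (k × k × k)
    isLocalRing := isLocalRing_tsze k (k × k × k)
    isArtinianRing := isArtinianRing_tsze k (k × k × k)
    res := TrivSqZeroExt.fstHom Λ k (k × k × k)
    res_surjective := fun a => ⟨TrivSqZeroExt.inl a, rfl⟩ }

def tm11 (f : k →ₗ[k] k) : dual Λ k ⟶ dual Λ k := ⟨tszeMap f, AlgHom.ext fun _ => rfl⟩
def tm12 (f : k →ₗ[k] k × k) : dual Λ k ⟶ dual2 Λ k := ⟨tszeMap f, AlgHom.ext fun _ => rfl⟩
def tm22 (f : k × k →ₗ[k] k × k) : dual2 Λ k ⟶ dual2 Λ k := ⟨tszeMap f, AlgHom.ext fun _ => rfl⟩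
def tm32 (f : k × k × k →ₗ[k] k × k) : dual3 Λ k ⟶ dual2 Λ k :=
  ⟨tszeMap f, AlgHom.ext fun _ => rfl⟩
def tm31 (f : k × k × k →ₗ[k] k) : dual3 Λ k ⟶ dual Λ k :=
  ⟨tszeMap f, AlgHom.ext fun _ => rfl⟩

theorem scale_zero : scale (0 : k) = toBase (dual Λ k) ≫ baseToDual := by
  refine Art.hom_ext (AlgHom.ext fun x => TrivSqZeroExt.ext rfl ?_)
  exact zero_mul x.snd

theorem scale_one : scale (1 : k) = 𝟙 (dual Λ k) :=
  Art.hom_ext (AlgHom.ext fun x => TrivSqZeroExt.ext rfl (one_mul x.snd))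

theorem scale_comp (c d : k) : (scale c ≫ scale d : dual Λ k ⟶ dual Λ k) = scale (d * c) :=
  Art.hom_ext (AlgHom.ext fun x => TrivSqZeroExt.ext rfl (mul_assoc d c x.snd).symm)

section Structure

variable (F : Art Λ k ⥤ Type v)

variable {F} in
theorem ext_dual2 (h2 : Heps F) {z z' : F.obj (dual2 Λ k)} (h₁ : F.map pr₁ z = F.map pr₁ z')
    (h₂ : F.map pr₂ z = F.map pr₂ z') : z = z' :=
  (h2 pr₁ pr₂ isFibreProd_dual2).injective (FibProd.ext h₁ h₂)

variable {F} in
theorem exists_dual2 (h0 : H0 F) (h2 : Heps F) (x y : F.obj (dual Λ k)) :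
    ∃ z : F.obj (dual2 Λ k), F.map pr₁ z = x ∧ F.map pr₂ z = y := by
  obtain ⟨z, hz⟩ := (h2 pr₁ pr₂ isFibreProd_dual2).surjective ⟨(x, y), h0.2.elim _ _⟩
  exact ⟨z, congrArg (fun w => w.1.1) hz, congrArg (fun w => w.1.2) hz⟩

theorem isFibreProd_dual3 : IsFibreProd (tm32 (LinearMap.prod (LinearMap.fst k k (k × k))
      ((LinearMap.fst k k k).comp (LinearMap.snd k k (k × k)))) : dual3 Λ k ⟶ dual2 Λ k)
    (tm31 ((LinearMap.snd k k k).comp (LinearMap.snd k k (k × k))))
    (toBase (dual2 Λ k)) (toBase (dual Λ k)) where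
  w := (eq_toBase _).trans (eq_toBase _).symm
  inj b b' h₁ h₂ := by
    have e₁ : b.fst = b'.fst := by have e := congrArg TrivSqZeroExt.fst h₁; exact e
    have e₂ : b.snd.1 = b'.snd.1 := by
      have e := congrArg (fun w => Prod.fst (TrivSqZeroExt.snd w)) h₁; exact e
    have e₃ : b.snd.2.1 = b'.snd.2.1 := by
      have e := congrArg (fun w => Prod.snd (TrivSqZeroExt.snd w)) h₁; exact e
    have e₄ : b.snd.2.2 = b'.snd.2.2 := by have e := congrArg TrivSqZeroExt.snd h₂; exact e
    exact TrivSqZeroExt.ext e₁ (Prod.ext e₂ (Prod.ext e₃ e₄))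
  surj a' a'' h := by
    have h' : a'.fst = a''.fst := h
    exact ⟨(a'.fst, (a'.snd.1, a'.snd.2, a''.snd)), TrivSqZeroExt.ext rfl rfl,
      TrivSqZeroExt.ext h' rfl⟩

variable {F}

theorem nonempty_tangentStr (h0 : H0 F) (h2 : Heps F) : Nonempty (TangentStr F) := by
  classical
  choose e he₁ he₂ using exists_dual2 h0 h2
  obtain ⟨x₀⟩ := h0.1
  let zero' : F.obj (dual Λ k) := F.map baseToDual x₀
  have hzero : ∀ x, F.map (scale (0 : k)) x = zero' := fun x => by
    rw [scale_zero, map_comp_apply', h0.2.elim (F.map (toBase _) x) x₀]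
  let add' : F.obj (dual Λ k) → F.obj (dual Λ k) → F.obj (dual Λ k) := fun x y =>
    F.map plus (e x y)
  have hadd : ∀ z, add' (F.map pr₁ z) (F.map pr₂ z) = F.map plus z := fun z => by
    change F.map plus (e _ _) = _
    rw [ext_dual2 h2 (he₁ (F.map pr₁ z) (F.map pr₂ z)) (he₂ _ _)]
  -- every sum of images under two scalings
  have hlin : ∀ (c d : k) x, add' (F.map (scale c) x) (F.map (scale d) x) =
      F.map (scale (c + d)) x := fun c d x => by
    have i₁ : tm12 (LinearMap.prod (c • LinearMap.id) (d • LinearMap.id)) ≫ pr₁ =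
        (scale c : dual Λ k ⟶ _) := Art.hom_ext (AlgHom.ext fun _ => rfl)
    have i₂ : tm12 (LinearMap.prod (c • LinearMap.id) (d • LinearMap.id)) ≫ pr₂ =
        (scale d : dual Λ k ⟶ _) := Art.hom_ext (AlgHom.ext fun _ => rfl)
    have i₃ : tm12 (LinearMap.prod (c • LinearMap.id) (d • LinearMap.id)) ≫ plus =
        (scale (c + d) : dual Λ k ⟶ _) :=
      Art.hom_ext (AlgHom.ext fun x => TrivSqZeroExt.ext rfl (add_mul c d x.snd).symm)
    rw [← i₁, ← i₂, ← i₃, map_comp_apply', map_comp_apply', map_comp_apply', hadd]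
  have hscale : ∀ (c : k) x y, F.map (scale c) (add' x y) =
      add' (F.map (scale c) x) (F.map (scale c) y) := fun c x y => by
    have i₁ : tm22 (c • LinearMap.id) ≫ pr₁ = (pr₁ ≫ scale c : dual2 Λ k ⟶ _) :=
      Art.hom_ext (AlgHom.ext fun _ => rfl)
    have i₂ : tm22 (c • LinearMap.id) ≫ pr₂ = (pr₂ ≫ scale c : dual2 Λ k ⟶ _) :=
      Art.hom_ext (AlgHom.ext fun _ => rfl)
    have i₃ : tm22 (c • LinearMap.id) ≫ plus = (plus ≫ scale c : dual2 Λ k ⟶ _) :=
      Art.hom_ext (AlgHom.ext fun x =>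
        TrivSqZeroExt.ext rfl (mul_add c x.snd.1 x.snd.2).symm)
    change F.map (scale c) (F.map plus (e x y)) = _
    rw [← map_comp_apply', ← i₃, map_comp_apply', ← hadd, ← map_comp_apply', i₁,
      ← map_comp_apply', i₂, map_comp_apply', map_comp_apply', he₁, he₂]
  have hid : ∀ x, F.map (scale (1 : k)) x = x := fun x => by rw [scale_one, map_id_apply']
  have hcomm : ∀ x y, add' x y = add' y x := fun x y => by
    have i₁ : tm22 (LinearMap.prod (LinearMap.snd k k k) (LinearMap.fst k k k)) ≫ pr₁ =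
        (pr₂ : dual2 Λ k ⟶ _) := Art.hom_ext (AlgHom.ext fun _ => rfl)
    have i₂ : tm22 (LinearMap.prod (LinearMap.snd k k k) (LinearMap.fst k k k)) ≫ pr₂ =
        (pr₁ : dual2 Λ k ⟶ _) := Art.hom_ext (AlgHom.ext fun _ => rfl)
    have i₃ : tm22 (LinearMap.prod (LinearMap.snd k k k) (LinearMap.fst k k k)) ≫ plus =
        (plus : dual2 Λ k ⟶ _) :=
      Art.hom_ext (AlgHom.ext fun x => TrivSqZeroExt.ext rfl (add_comm x.snd.2 x.snd.1))
    change F.map plus (e x y) = _
    rw [← i₃, map_comp_apply', ← hadd, ← map_comp_apply', i₁, ← map_comp_apply', i₂, he₁, he₂]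
  have hassoc : ∀ x y z, add' (add' x y) z = add' x (add' y z) := fun x y z => by
    obtain ⟨w, hw⟩ := (h2 _ _ isFibreProd_dual3).surjective ⟨(e x y, z), h0.2.elim _ _⟩
    have w₁ : F.map (tm32 (LinearMap.prod (LinearMap.fst k k (k × k))
        ((LinearMap.fst k k k).comp (LinearMap.snd k k (k × k))))) w = e x y :=
      congrArg (fun r => r.1.1) hw
    have w₂ : F.map (tm31 ((LinearMap.snd k k k).comp (LinearMap.snd k k (k × k)))) w = z :=
      congrArg (fun r => r.1.2) hw
    let f₁ : k × k × k →ₗ[k] k := LinearMap.fst k k (k × k)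
    let f₂ : k × k × k →ₗ[k] k := (LinearMap.fst k k k).comp (LinearMap.snd k k (k × k))
    let f₃ : k × k × k →ₗ[k] k := (LinearMap.snd k k k).comp (LinearMap.snd k k (k × k))
    have v₁ : F.map (tm31 f₁) w = x := by
      conv_rhs => rw [← he₁ x y, ← w₁, ← map_comp_apply']
      rfl
    have v₂ : F.map (tm31 f₂) w = y := by
      conv_rhs => rw [← he₂ x y, ← w₁, ← map_comp_apply']
      rfl
    have key : ∀ f g : k × k × k →ₗ[k] k,
        add' (F.map (tm31 f) w) (F.map (tm31 g) w) = F.map (tm31 (f + g)) w := fun f g => by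
      have i₁ : tm32 (LinearMap.prod f g) ≫ pr₁ = (tm31 f : dual3 Λ k ⟶ _) :=
        Art.hom_ext (AlgHom.ext fun _ => rfl)
      have i₂ : tm32 (LinearMap.prod f g) ≫ pr₂ = (tm31 g : dual3 Λ k ⟶ _) :=
        Art.hom_ext (AlgHom.ext fun _ => rfl)
      have i₃ : tm32 (LinearMap.prod f g) ≫ plus = (tm31 (f + g) : dual3 Λ k ⟶ _) :=
        Art.hom_ext (AlgHom.ext fun _ => rfl)
      rw [← i₁, ← i₂, ← i₃, map_comp_apply', map_comp_apply', map_comp_apply', hadd]
    rw [← v₁, ← v₂, ← w₂, key, key, key, key, add_assoc]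
  letI iZ : Zero (F.obj (dual Λ k)) := ⟨zero'⟩
  letI iA : Add (F.obj (dual Λ k)) := ⟨add'⟩
  letI iN : Neg (F.obj (dual Λ k)) := ⟨fun x => F.map (scale (-1 : k)) x⟩
  letI iG : AddGroup (F.obj (dual Λ k)) := AddGroup.ofLeftAxioms hassoc
    (fun x => by
      change add' zero' x = x
      conv_lhs => rw [← hzero x]; arg 2; rw [← hid x]
      rw [hlin, zero_add, hid])
    (fun x => by
      change add' (F.map (scale (-1 : k)) x) x = zero'
      conv_lhs => arg 2; rw [← hid x]
      rw [hlin, neg_add_cancel, hzero])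
  let G : AddCommGroup (F.obj (dual Λ k)) := { iG with add_comm := hcomm }
  refine ⟨⟨G, ?_, ?_, ?_⟩⟩
  · exact
    { smul := fun c x => F.map (scale c) x
      one_smul := hid
      mul_smul := fun c d x => by
        change F.map (scale (c * d)) x = F.map (scale c) (F.map (scale d) x)
        rw [← scale_comp, map_comp_apply']
      smul_zero := fun c => by
        change F.map (scale c) zero' = zero'
        rw [← hzero zero', ← map_comp_apply', scale_comp, mul_zero]
      smul_add := hscale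
      add_smul := fun c d x => (hlin c d x).symm
      zero_smul := hzero }
  · exact fun _ _ => rfl
  · exact hadd

theorem exists_linearMap {G : Art Λ k ⥤ Type v} [TangentStr F] [TangentStr G] (hF0 : H0 F)
    (hF2 : Heps F) (φ : F ⟶ G) :
    ∃ f : TangentSpace F →ₗ[k] TangentSpace G, ⇑f = TangentSpace.map φ := by
  refine ⟨{ toFun := TangentSpace.map φ, map_add' := fun x y => ?_, map_smul' := fun c x => ?_ },
    rfl⟩
  · obtain ⟨z, hz₁, hz₂⟩ := exists_dual2 hF0 hF2 x y
    have hsum : x + y = F.map plus z :=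
      (congrArg₂ (fun a b : TangentSpace F => a + b) hz₁.symm hz₂.symm).trans (TangentStr.add_eq z)
    refine (congrArg (TangentSpace.map φ) hsum).trans ?_
    refine ((nat' φ plus z).trans (TangentStr.add_eq (φ.app _ z)).symm).trans ?_
    refine congrArg₂ (fun a b : TangentSpace G => a + b) ?_ ?_
    · exact (nat' φ pr₁ z).symm.trans (congrArg (φ.app _) hz₁)
    · exact (nat' φ pr₂ z).symm.trans (congrArg (φ.app _) hz₂)
  · exact ((congrArg (φ.app _) (TangentStr.smul_eq c x)).trans (nat' φ (scale c) x)).trans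
      (TangentStr.smul_eq c (φ.app _ x)).symm

end Structure

section SquareZero

variable [IsNoetherianRing Λ] [Module.Finite Λ k]

/-- A small extension of square-zero objects over `k` with a section splits off a copy of `k[ε]`. -/
theorem exists_split {E E' : Art Λ k} {p : E ⟶ E'} (hp : IsSmallExt p) (σ : base Λ k ⟶ E)
    (hE : maximalIdeal E ^ 2 = ⊥) :
    ∃ g : E ⟶ dual Λ k, IsFibreProd p g (toBase E') (toBase (dual Λ k)) := by
  let algE : Algebra k E := σ.toAlgHom.toRingHom.toAlgebra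
  obtain ⟨t, ht⟩ := exists_gen hp
  have hσres : ∀ a : k, E.res (algebraMap k E a) = a := fun a => res_app σ a
  let S : Submodule k E := LinearMap.range (Algebra.linearMap k E)
  have htS : Submodule.Quotient.mk (p := S) t ≠ 0 := by
    rw [ne_eq, Submodule.Quotient.mk_eq_zero]
    rintro ⟨a, ha⟩
    have ha : algebraMap k E a = t := ha
    have ht0 : E.res t = 0 := by
      refine (E.mem_maximalIdeal_iff t).mp (ker_le_maximalIdeal p ?_)
      rw [ht]; exact Ideal.mem_span_singleton_self t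
    rw [← ha, hσres] at ht0
    rw [ht0, map_zero] at ha
    exact hp.2.1 (by rw [ht, ← ha, Ideal.span_singleton_eq_bot])
  obtain ⟨f, hf⟩ := Module.Projective.exists_dual_ne_zero k htS
  let l : E →ₗ[k] k := (f (Submodule.Quotient.mk t))⁻¹ • (f ∘ₗ S.mkQ)
  have hlt : l t = 1 := inv_mul_cancel₀ hf
  have hlS : ∀ a : k, l (algebraMap k E a) = 0 := fun a => by
    change _ * f (Submodule.Quotient.mk (algebraMap k E a)) = 0
    rw [(Submodule.Quotient.mk_eq_zero S).mpr (⟨a, rfl⟩ : algebraMap k E a ∈ S), map_zero, mul_zero]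
  have hlmul : ∀ x y : E, l (x * y) = E.res x * l y + l x * E.res y := by
    intro x y
    have hx : x - algebraMap k E (E.res x) ∈ maximalIdeal E := by
      rw [mem_maximalIdeal_iff, map_sub, hσres, sub_self]
    have hy : y - algebraMap k E (E.res y) ∈ maximalIdeal E := by
      rw [mem_maximalIdeal_iff, map_sub, hσres, sub_self]
    have h0 : (x - algebraMap k E (E.res x)) * (y - algebraMap k E (E.res y)) = 0 := by
      rw [← Ideal.mem_bot, ← hE, sq]; exact Ideal.mul_mem_mul hx hy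
    have e : x * y = E.res x • y + E.res y • x - algebraMap k E (E.res x * E.res y) := by
      rw [Algebra.smul_def, Algebra.smul_def, map_mul]
      linear_combination h0
    rw [e, map_sub, map_add, map_smul, map_smul, hlS, sub_zero, smul_eq_mul, smul_eq_mul,
      mul_comm (E.res y)]
  have hl1 : l 1 = 0 := by simpa using hlS 1
  let g : E →ₐ[Λ] DualNumber k :=
    { toFun := fun z => TrivSqZeroExt.inl (E.res z) + TrivSqZeroExt.inr (l z)
      map_one' := TrivSqZeroExt.ext (by simp) (by simp [hl1])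
      map_mul' := fun x y => TrivSqZeroExt.ext (by simp) (by simp [hlmul, mul_comm (E.res y) (l x)])
      map_zero' := TrivSqZeroExt.ext (by simp) (by simp)
      map_add' := fun x y => TrivSqZeroExt.ext (by simp) (by simp)
      commutes' := fun r => by
        have hr : l (algebraMap Λ E r) = 0 := by
          have h' : σ (algebraMap Λ k r) = algebraMap Λ E r := σ.toAlgHom.commutes r
          rw [← h']; exact hlS _
        refine TrivSqZeroExt.ext ?_ ?_
        · simp [TrivSqZeroExt.algebraMap_eq_inl']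
        · simp [TrivSqZeroExt.algebraMap_eq_inl', hr] }
  let g' : E ⟶ dual Λ k := ⟨g, AlgHom.ext fun z => by
    change TrivSqZeroExt.fst (TrivSqZeroExt.inl (E.res z) + TrivSqZeroExt.inr (l z)) = E.res z
    simp⟩
  have hsnd : ∀ z, TrivSqZeroExt.snd (g' z) = l z := fun z => by
    change TrivSqZeroExt.snd (TrivSqZeroExt.inl (E.res z) + TrivSqZeroExt.inr (l z)) = _
    simp
  have hscal : ∀ c : E, c * t = E.res c • t := fun c => by
    rw [Algebra.smul_def, ← sub_eq_zero, ← sub_mul, mul_eq_zero_iff_res hp ht, map_sub, hσres,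
      sub_self]
  refine ⟨g', ?_, fun b b' h₁ h₂ => ?_, fun a d had => ?_⟩
  · exact (eq_toBase _).trans (eq_toBase _).symm
  · have hk : b - b' ∈ Ideal.span {t} := by
      rw [← ht, RingHom.mem_ker, map_sub, sub_eq_zero]; exact h₁
    obtain ⟨c, hc⟩ := Ideal.mem_span_singleton'.mp hk
    rw [hscal] at hc
    have : E.res c = 0 := by
      have e := congrArg l hc
      rwa [map_smul, map_sub, hlt, smul_eq_mul, mul_one, ← hsnd, ← hsnd, h₂, sub_self] at e
    rw [this, zero_smul] at hc
    exact sub_eq_zero.mp hc.symm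
  · obtain ⟨e, rfl⟩ := hp.1 a
    have hpt : p t = 0 := RingHom.mem_ker.mp (ht ▸ Ideal.mem_span_singleton_self t)
    obtain ⟨c, hc⟩ := E.res_surjective (TrivSqZeroExt.snd d - l e)
    refine ⟨e + c * t, by rw [map_add, map_mul, hpt, mul_zero, add_zero], TrivSqZeroExt.ext ?_ ?_⟩
    · rw [fst_dual, map_add, map_mul,
        (E.mem_maximalIdeal_iff t).mp (ker_le_maximalIdeal p (RingHom.mem_ker.mpr hpt)), mul_zero,
        add_zero, ← res_app p]
      exact had
    · rw [hsnd, map_add, hscal, map_smul, hlt, smul_eq_mul, mul_one, hc]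
      ring

theorem bijective_cmp_sqZero {F : Art Λ k ⥤ Type v} (hF : Heps F) (E : Art Λ k) :
    (base Λ k ⟶ E) → maximalIdeal E ^ 2 = ⊥ → ∀ ⦃B A : Art Λ k⦄ (p' : B ⟶ A) (p'' : B ⟶ E)
      (h : IsFibreProd p' p'' (toBase A) (toBase E)), Function.Bijective (cmp F h) := by
  refine art_induction (fun E => (base Λ k ⟶ E) → maximalIdeal E ^ 2 = ⊥ →
    ∀ ⦃B A : Art Λ k⦄ (p' : B ⟶ A) (p'' : B ⟶ E)
      (h : IsFibreProd p' p'' (toBase A) (toBase E)), Function.Bijective (cmp F h)) ?_ ?_ ?_ E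
  · intro E' E e he ih σ hE B A p' p'' h
    have hbij := bijective_of_isIso e
    have hE' : maximalIdeal E' ^ 2 = ⊥ := by
      rw [eq_bot_iff, sq, Ideal.mul_le]
      intro a ha b hb
      obtain ⟨a, rfl⟩ := hbij.2 a
      obtain ⟨b, rfl⟩ := hbij.2 b
      have : a * b ∈ maximalIdeal E ^ 2 := by
        rw [sq]; exact Ideal.mul_mem_mul ((comap_maximalIdeal e).mp ha) ((comap_maximalIdeal e).mp hb)
      rw [hE, Ideal.mem_bot] at this
      rw [Ideal.mem_bot, ← map_mul, this, map_zero]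
    have h' : IsFibreProd p' (p'' ≫ e) (toBase A) (toBase E') := by
      refine ⟨(eq_toBase _).trans (eq_toBase _).symm,
        fun b b' h₁ h₂ => h.inj b b' h₁ (hbij.1 h₂), fun a e' hae => ?_⟩
      obtain ⟨x, rfl⟩ := hbij.2 e'
      obtain ⟨b, hb₁, hb₂⟩ := h.surj a x (hae.trans (res_app e x))
      exact ⟨b, hb₁, by rw [Art.comp_apply, hb₂]⟩
    have hb := ih (σ ≫ e) hE' p' (p'' ≫ e) h'
    have hFe := map_bijective_of_isIso F e
    refine ⟨fun z z' hz => hb.1 (FibProd.ext (congrArg (fun w => w.1.1) hz) ?_), fun w => ?_⟩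
    · change F.map (p'' ≫ e) z = F.map (p'' ≫ e) z'
      rw [map_comp_apply', map_comp_apply']
      exact congrArg _ (congrArg (fun w => w.1.2) hz)
    · obtain ⟨z, hz⟩ := hb.2 ⟨(w.1.1, F.map e w.1.2), by
        rw [← map_comp_apply' F e, eq_toBase (e ≫ toBase E')]; exact w.2⟩
      refine ⟨z, FibProd.ext (congrArg (fun w => w.1.1) hz) (hFe.1 ?_)⟩
      change F.map e (F.map p'' z) = _
      rw [← map_comp_apply']
      exact congrArg (fun w => w.1.2) hz
  · intro E' E p hp ih σ hE B A p' p'' h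
    have hE' : maximalIdeal E' ^ 2 = ⊥ := by
      rw [eq_bot_iff, sq, Ideal.mul_le]
      intro a ha b hb
      obtain ⟨a, rfl⟩ := hp.1 a
      obtain ⟨b, rfl⟩ := hp.1 b
      have : a * b ∈ maximalIdeal E ^ 2 := by
        rw [sq]; exact Ideal.mul_mem_mul ((comap_maximalIdeal p).mp ha) ((comap_maximalIdeal p).mp hb)
      rw [hE, Ideal.mem_bot] at this
      rw [Ideal.mem_bot, ← map_mul, this, map_zero]
    obtain ⟨g, hg⟩ := exists_split hp σ hE
    obtain ⟨B₁, q₁, q₂, h₁⟩ := exists_fibre_of_surjective (toBase A) (toBase E') E'.res_surjective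
    obtain ⟨r, hr₁, hr₂⟩ := IsFibreProd.exists_lift h₁ p' (p'' ≫ p)
      ((eq_toBase _).trans (eq_toBase _).symm)
    have hB : IsFibreProd r (p'' ≫ g) (toBase B₁) (toBase (dual Λ k)) := by
      refine ⟨(eq_toBase _).trans (eq_toBase _).symm, fun b b' e₁ e₂ => h.inj b b' ?_ ?_,
        fun b₁ d hbd => ?_⟩
      · rw [← hr₁, Art.comp_apply, Art.comp_apply, e₁]
      · refine hg.inj _ _ ?_ e₂
        rw [← Art.comp_apply, ← Art.comp_apply, ← hr₂, Art.comp_apply, Art.comp_apply, e₁]
      · obtain ⟨x, hx₁, hx₂⟩ := hg.surj (q₂ b₁) d ((res_app q₂ b₁).trans hbd)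
        obtain ⟨b, hb₁, hb₂⟩ := h.surj (q₁ b₁) x
          ((res_app q₁ b₁).trans ((res_app q₂ b₁).symm.trans (by rw [← hx₁]; exact res_app p x)))
        refine ⟨b, h₁.inj _ _ ?_ ?_, by rw [Art.comp_apply, hb₂, hx₂]⟩
        · rw [← Art.comp_apply, hr₁, hb₁]
        · rw [← Art.comp_apply, hr₂, Art.comp_apply, hb₂, hx₁]
    have b₁ := ih (σ ≫ p) hE' q₁ q₂ h₁
    have b₂ := hF r (p'' ≫ g) hB
    refine ⟨fun z z' hz => b₂.1 (FibProd.ext (b₁.1 (FibProd.ext ?_ ?_)) ?_), fun w => ?_⟩
    · change F.map q₁ (F.map r z) = F.map q₁ (F.map r z')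
      rw [← map_comp_apply', ← map_comp_apply', hr₁]
      exact congrArg (fun w => w.1.1) hz
    · change F.map q₂ (F.map r z) = F.map q₂ (F.map r z')
      rw [← map_comp_apply', ← map_comp_apply', hr₂, map_comp_apply', map_comp_apply']
      exact congrArg (F.map p) (congrArg (fun w => w.1.2) hz)
    · change F.map (p'' ≫ g) z = F.map (p'' ≫ g) z'
      rw [map_comp_apply', map_comp_apply']
      exact congrArg (F.map g) (congrArg (fun w => w.1.2) hz)
    · have hw : F.map (toBase A) w.1.1 = F.map (toBase E) w.1.2 := w.2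
      obtain ⟨z₁, hz₁⟩ := b₁.2 ⟨(w.1.1, F.map p w.1.2), by
        rw [← map_comp_apply', eq_toBase (p ≫ toBase E')]; exact hw⟩
      have e₁ : F.map q₁ z₁ = w.1.1 := congrArg (fun w => w.1.1) hz₁
      have e₂ : F.map q₂ z₁ = F.map p w.1.2 := congrArg (fun w => w.1.2) hz₁
      obtain ⟨z, hz⟩ := b₂.2 ⟨(z₁, F.map g w.1.2), by
        rw [← map_comp_apply', eq_toBase (g ≫ toBase _), ← eq_toBase (q₁ ≫ toBase A),
          map_comp_apply', e₁]
        exact hw⟩
      have e₃ : F.map r z = z₁ := congrArg (fun w => w.1.1) hz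
      have e₄ : F.map (p'' ≫ g) z = F.map g w.1.2 := congrArg (fun w => w.1.2) hz
      refine ⟨z, FibProd.ext ?_ ((hF p g hg).1 (FibProd.ext ?_ ?_))⟩
      · change F.map p' z = w.1.1
        rw [← hr₁, map_comp_apply', e₃, e₁]
      · change F.map p (F.map p'' z) = F.map p w.1.2
        rw [← map_comp_apply', ← hr₂, map_comp_apply', e₃, e₂]
      · change F.map g (F.map p'' z) = F.map g w.1.2
        rw [← map_comp_apply', e₄]
  · intro σ hE B A p' p'' h
    have hp : Function.Bijective p' := ⟨fun x y hxy => h.inj x y hxy (by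
        change (base Λ k).res (p'' x) = (base Λ k).res (p'' y)
        rw [res_app, res_app, ← res_app p', ← res_app p', hxy]),
      fst_surjective h (base Λ k).res_surjective⟩
    haveI := isIso_of_bijective p' hp
    have hF' := map_bijective_of_isIso F p'
    refine ⟨fun z z' hz => hF'.1 (congrArg (fun w => w.1.1) hz), fun w => ?_⟩
    obtain ⟨z, hz⟩ := hF'.2 w.1.1
    refine ⟨z, FibProd.ext hz ?_⟩
    have hw : F.map (toBase A) w.1.1 = F.map (toBase (base Λ k)) w.1.2 := w.2
    have hid' : ∀ v, F.map (toBase (base Λ k)) v = v := fun v => by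
      rw [← eq_toBase (𝟙 (base Λ k)), map_id_apply']
    have hid := hid' w.1.2
    refine (Eq.trans ?_ (hw.trans hid))
    rw [← hz, ← map_comp_apply', eq_toBase (p' ≫ toBase A), ← eq_toBase p'']
    rfl

end SquareZero

end Groth.Agent.H24Art
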