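import Groth.Agent.H24Art.Functor

/-!
The difference map `B ×_A B → k[ε]` of a small extension `B → A`, which identifies `B ×_A B` with
`B ×_k k[ε]`, and its consequences for lifts of elements of functors.
-/

universe u v

open CategoryTheory

namespace Groth.Agent.H24Art

open ArtFun ArtFun.Art IsLocalRing

variable {Λ : Type u} {k : Type u} [CommRing Λ] [Field k] [Algebra Λ k]

theorem mul_eq_zero_iff_res {A B : Art Λ k} {μ : B ⟶ A} (hμ : IsSmallExt μ) {t : B}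
    (ht : RingHom.ker μ.toAlgHom = Ideal.span {t}) (a : B) : a * t = 0 ↔ B.res a = 0 := by
  constructor
  · intro h
    by_contra hne
    have hu : IsUnit a := by
      by_contra hn
      exact hne ((B.mem_maximalIdeal_iff a).mp ((IsLocalRing.mem_maximalIdeal a).mpr hn))
    refine hμ.2.1 ?_
    rw [ht, Ideal.span_singleton_eq_bot]
    exact hu.mul_right_eq_zero.mp h
  · intro h
    rw [← Ideal.mem_bot, ← hμ.2.2.2]
    exact Ideal.mul_mem_mul ((B.mem_maximalIdeal_iff a).mpr h)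
      (ht ▸ Ideal.mem_span_singleton_self t)

theorem exists_gen {A B : Art Λ k} {μ : B ⟶ A} (hμ : IsSmallExt μ) :
    ∃ t : B, RingHom.ker μ.toAlgHom = Ideal.span {t} :=
  let ⟨⟨t, ht⟩⟩ := hμ.2.2.1
  ⟨t, ht⟩

/-- `g z` records the coefficient of `t` in `p₂ z - p₁ z`. -/
def IsDiff {B P : Art Λ k} (p₁ p₂ : P ⟶ B) (t : B) (g : P ⟶ dual Λ k) : Prop :=
  ∀ z c, B.res c = TrivSqZeroExt.snd (g z) → p₂ z - p₁ z = c * t

theorem exists_coeff {A B P : Art Λ k} {μ : B ⟶ A} (hμ : IsSmallExt μ) {t : B}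
    (ht : RingHom.ker μ.toAlgHom = Ideal.span {t}) {p₁ p₂ : P ⟶ B} (w : p₁ ≫ μ = p₂ ≫ μ) (z : P) :
    ∃ δ : k, ∀ c, B.res c = δ ↔ p₂ z - p₁ z = c * t := by
  have hz : p₂ z - p₁ z ∈ Ideal.span {t} := by
    rw [← ht, RingHom.mem_ker, map_sub, sub_eq_zero]
    change (p₂ ≫ μ) z = (p₁ ≫ μ) z
    rw [w]
  obtain ⟨c₀, hc₀⟩ := Ideal.mem_span_singleton'.mp hz
  exact ⟨B.res c₀, fun c => by
    rw [← hc₀, ← sub_eq_zero, eq_comm (a := c₀ * t), ← sub_eq_zero (a := c * t), ← map_sub,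
      ← sub_mul, mul_eq_zero_iff_res hμ ht]⟩

theorem exists_diff {A B P : Art Λ k} {μ : B ⟶ A} (hμ : IsSmallExt μ) {t : B}
    (ht : RingHom.ker μ.toAlgHom = Ideal.span {t}) {p₁ p₂ : P ⟶ B} (hP : IsFibreProd p₁ p₂ μ μ) :
    ∃ g : P ⟶ dual Λ k, IsDiff p₁ p₂ t g := by
  choose δ hδ using exists_coeff hμ ht hP.w
  have hadd : ∀ x y, δ (x + y) = δ x + δ y := by
    intro x y
    obtain ⟨a, ha⟩ := B.res_surjective (δ x)
    obtain ⟨b, hb⟩ := B.res_surjective (δ y)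
    rw [← ha, ← hb, ← map_add]
    refine ((hδ (x + y) (a + b)).mpr ?_).symm
    rw [map_add, map_add, add_mul, ← (hδ x a).mp ha, ← (hδ y b).mp hb]
    ring
  have hzero : ∀ x, p₂ x = p₁ x → δ x = 0 := by
    intro x h
    rw [← map_zero B.res]
    exact ((hδ x 0).mpr (by rw [h, sub_self, zero_mul])).symm
  have hmul : ∀ x y, δ (x * y) = P.res x * δ y + δ x * P.res y := by
    intro x y
    obtain ⟨a, ha⟩ := B.res_surjective (δ x)
    obtain ⟨b, hb⟩ := B.res_surjective (δ y)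
    have hx : P.res x = B.res (p₂ x) := (res_app p₂ x).symm
    have hy : P.res y = B.res (p₁ y) := (res_app p₁ y).symm
    rw [hx, hy, ← ha, ← hb, ← map_mul, ← map_mul, ← map_add]
    refine ((hδ (x * y) _).mpr ?_).symm
    rw [map_mul, map_mul, add_mul, mul_assoc, ← (hδ y b).mp hb, mul_right_comm,
      ← (hδ x a).mp ha]
    ring
  let g : P →ₐ[Λ] DualNumber k :=
    { toFun := fun z => TrivSqZeroExt.inl (P.res z) + TrivSqZeroExt.inr (δ z)
      map_one' := TrivSqZeroExt.ext (by simp) (by simp [hzero 1 (by simp)])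
      map_mul' := fun x y => TrivSqZeroExt.ext (by simp)
        (by simp [hmul, mul_comm (P.res y) (δ x)])
      map_zero' := TrivSqZeroExt.ext (by simp) (by simp [hzero 0 (by simp)])
      map_add' := fun x y => TrivSqZeroExt.ext (by simp) (by simp [hadd])
      commutes' := fun r => by
        refine TrivSqZeroExt.ext ?_ ?_
        · simp [TrivSqZeroExt.algebraMap_eq_inl']
        · simp [TrivSqZeroExt.algebraMap_eq_inl', hzero (algebraMap Λ P r) (by simp)] }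
  refine ⟨⟨g, AlgHom.ext fun z => ?_⟩, fun z c hc => (hδ z c).mp (hc.trans ?_)⟩
  · change TrivSqZeroExt.fst (TrivSqZeroExt.inl (P.res z) + TrivSqZeroExt.inr (δ z)) = P.res z
    simp
  · change TrivSqZeroExt.snd (TrivSqZeroExt.inl (P.res z) + TrivSqZeroExt.inr (δ z)) = δ z
    simp

theorem fst_dual {P : Art Λ k} (g : P ⟶ dual Λ k) (z : P) : TrivSqZeroExt.fst (g z) = P.res z :=
  res_app g z

theorem isFibreProd_diff {A B P : Art Λ k} {μ : B ⟶ A} {t : B}
    (ht : RingHom.ker μ.toAlgHom = Ideal.span {t}) {p₁ p₂ : P ⟶ B} (hP : IsFibreProd p₁ p₂ μ μ)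
    (hμ : IsSmallExt μ) {g : P ⟶ dual Λ k} (hg : IsDiff p₁ p₂ t g) :
    IsFibreProd p₁ g (toBase B) (toBase (dual Λ k)) := by
  refine ⟨(eq_toBase _).trans (eq_toBase _).symm, fun z z' h₁ h₂ => hP.inj z z' h₁ ?_,
    fun b d hbd => ?_⟩
  · obtain ⟨c, hc⟩ := B.res_surjective (TrivSqZeroExt.snd (g z))
    have e := hg z c hc
    have e' := hg z' c (hc.trans (by rw [h₂]))
    rw [h₁] at e
    exact sub_left_inj.mp (e.trans e'.symm)
  · obtain ⟨c, hc⟩ := B.res_surjective (TrivSqZeroExt.snd d)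
    have hmem : μ (c * t) = 0 := by
      refine RingHom.mem_ker.mp ?_
      rw [ht]; exact Ideal.mul_mem_left _ _ (Ideal.mem_span_singleton_self t)
    obtain ⟨z, hz₁, hz₂⟩ := hP.surj b (b + c * t) (by rw [map_add, hmem, add_zero])
    refine ⟨z, hz₁, TrivSqZeroExt.ext ?_ ?_⟩
    · rw [fst_dual, ← res_app p₁, hz₁]; exact hbd
    · obtain ⟨c', hc'⟩ := B.res_surjective (TrivSqZeroExt.snd (g z))
      have e := hg z c' hc'
      rw [hz₁, hz₂, add_sub_cancel_left, ← sub_eq_zero, ← sub_mul,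
        mul_eq_zero_iff_res hμ ht, map_sub, sub_eq_zero] at e
      rw [← hc', ← e, hc]

theorem eq_baseToDual_of_diff {A B P T : Art Λ k} {μ : B ⟶ A} (hμ : IsSmallExt μ) {t : B}
    (ht : RingHom.ker μ.toAlgHom = Ideal.span {t}) {p₁ p₂ : P ⟶ B} {g : P ⟶ dual Λ k}
    (hg : IsDiff p₁ p₂ t g) (s : T ⟶ P) (hs : s ≫ p₁ = s ≫ p₂) :
    s ≫ g = toBase T ≫ baseToDual := by
  refine Art.hom_ext (AlgHom.ext fun x => TrivSqZeroExt.ext ?_ ?_)
  · change TrivSqZeroExt.fst (g (s x)) = T.res x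
    rw [fst_dual, res_app]
  · change TrivSqZeroExt.snd (g (s x)) = 0
    obtain ⟨c, hc⟩ := B.res_surjective (TrivSqZeroExt.snd (g (s x)))
    have e := hg (s x) c hc
    rw [← Art.comp_apply s p₁, ← Art.comp_apply s p₂, hs, sub_self, eq_comm,
      mul_eq_zero_iff_res hμ ht, hc] at e
    exact e

/-- A small extension with its double and difference map. -/
theorem exists_double [IsNoetherianRing Λ] [Module.Finite Λ k] {A B : Art Λ k} {μ : B ⟶ A}
    (hμ : IsSmallExt μ) :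
    ∃ (P : Art Λ k) (p₁ p₂ : P ⟶ B) (g : P ⟶ dual Λ k) (d : B ⟶ P),
      IsFibreProd p₁ p₂ μ μ ∧ IsFibreProd p₁ g (toBase B) (toBase (dual Λ k)) ∧
      d ≫ p₁ = 𝟙 B ∧ d ≫ p₂ = 𝟙 B ∧ d ≫ g = toBase B ≫ baseToDual := by
  obtain ⟨t, ht⟩ := exists_gen hμ
  obtain ⟨P, p₁, p₂, hP⟩ := exists_fibre_of_surjective μ μ hμ.1
  obtain ⟨g, hg⟩ := exists_diff hμ ht hP
  obtain ⟨d, hd₁, hd₂⟩ := IsFibreProd.exists_lift hP (𝟙 B) (𝟙 B) rfl
  exact ⟨P, p₁, p₂, g, d, hP, isFibreProd_diff ht hP hμ hg, hd₁, hd₂,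
    eq_baseToDual_of_diff hμ ht hg d (hd₁.trans hd₂.symm)⟩

variable (F : Art Λ k ⥤ Type v)

/-- An element of the double with trivial difference lies on the diagonal. -/
theorem snd_eq_fst_of_diff {B P : Art Λ k} {p₁ p₂ : P ⟶ B} {g : P ⟶ dual Λ k} {d : B ⟶ P}
    (h2 : Heps F) (hPg : IsFibreProd p₁ g (toBase B) (toBase (dual Λ k)))
    (hd₁ : d ≫ p₁ = 𝟙 B) (hd₂ : d ≫ p₂ = 𝟙 B) (hdg : d ≫ g = toBase B ≫ baseToDual)
    (w : F.obj P) (hw : F.map g w = F.map (toBase B ≫ baseToDual) (F.map p₁ w)) :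
    F.map p₂ w = F.map p₁ w := by
  have : w = F.map d (F.map p₁ w) := (h2 p₁ g hPg).injective (FibProd.ext
    (by change F.map p₁ w = F.map p₁ (F.map d (F.map p₁ w))
        rw [← map_comp_apply' F d, hd₁, map_id_apply'])
    (by change F.map g w = F.map g (F.map d (F.map p₁ w))
        rw [← map_comp_apply' F d, hdg, hw]))
  conv_lhs => rw [this, ← map_comp_apply' F d, hd₂, map_id_apply']

theorem baseToDual_eq (h0 : H0 F) {B : Art Λ k} (x : F.obj B) {B' : Art Λ k} (x' : F.obj B') :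
    F.map (toBase B ≫ baseToDual) x = F.map (toBase B' ≫ baseToDual) x' := by
  rw [map_comp_apply', map_comp_apply', h0.2.elim (F.map (toBase B) x) (F.map (toBase B') x')]

/-- Induction on objects along small extensions. -/
theorem art_induction [IsNoetherianRing Λ] [Module.Finite Λ k] (Q : Art Λ k → Prop)
    (hiso : ∀ ⦃A B : Art Λ k⦄ (e : B ⟶ A), IsIso e → Q A → Q B)
    (hsmall : ∀ ⦃A B : Art Λ k⦄ (p : B ⟶ A), IsSmallExt p → Q A → Q B)
    (hbase : Q (base Λ k)) (A : Art Λ k) : Q A :=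
  surjective_induction (fun A B _ => Q A → Q B) hiso hsmall
    (fun _ _ _ _ _ hp hq h => hp (hq h)) (toBase A) A.res_surjective hbase

theorem heps_of_rs
    (hF : ∀ ⦃B A A' A'' : Art Λ k⦄ (p' : B ⟶ A') (p'' : B ⟶ A'') (f' : A' ⟶ A) (f'' : A'' ⟶ A)
      (h : IsFibreProd p' p'' f' f''), Function.Surjective f'' → Function.Bijective (cmp F h)) :
    Heps F := fun _ _ p' p'' h => hF p' p'' _ _ h (dual Λ k).res_surjective

/-- Adjust a lift by a tangent vector so that it has prescribed image. -/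
theorem exists_adjust [IsNoetherianRing Λ] [Module.Finite Λ k] {F G : Art Λ k ⥤ Type v}
    (hF0 : H0 F) (hF2 : Heps F) (hG1 : S1 G) (hG2 : Heps G) (φ : F ⟶ G)
    (hd : Function.Surjective (TangentSpace.map φ)) {A B : Art Λ k} {μ : B ⟶ A} (hμ : IsSmallExt μ)
    (x' : F.obj B) (y : G.obj B) (h : G.map μ y = φ.app A (F.map μ x')) :
    ∃ x'' : F.obj B, F.map μ x'' = F.map μ x' ∧ φ.app B x'' = y := by
  obtain ⟨P, p₁, p₂, g, d, hP, hPg, -, -, -⟩ := exists_double hμ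
  obtain ⟨w, hw⟩ := hG1 p₁ p₂ μ μ hP hμ.1 ⟨(φ.app B x', y), by rw [← nat', h]⟩
  have hw₁ : G.map p₁ w = φ.app B x' := congrArg (fun z => z.1.1) hw
  have hw₂ : G.map p₂ w = y := congrArg (fun z => z.1.2) hw
  obtain ⟨θ, hθ⟩ := hd (G.map g w)
  obtain ⟨v, hv⟩ := (hF2 p₁ g hPg).surjective ⟨(x', θ), hF0.2.elim _ _⟩
  have hv₁ : F.map p₁ v = x' := congrArg (fun z => z.1.1) hv
  have hv₂ : F.map g v = θ := congrArg (fun z => z.1.2) hv
  have hφv : φ.app P v = w := (hG2 p₁ g hPg).injective (FibProd.ext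
    (by change G.map p₁ (φ.app P v) = G.map p₁ w
        rw [← nat', hv₁, hw₁])
    (by change G.map g (φ.app P v) = G.map g w
        rw [← nat', hv₂]
        exact hθ))
  refine ⟨F.map p₂ v, ?_, ?_⟩
  · rw [← map_comp_apply', ← hP.w, map_comp_apply', hv₁]
  · rw [nat', hφv, hw₂]

end Groth.Agent.H24Art
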