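import Groth.Agent.H24Art.Schlessinger
import Groth.Agent.S15131
import Groth.Agent.S12726
import Mathlib.LinearAlgebra.Basis.VectorSpace
import Mathlib.LinearAlgebra.FiniteDimensional.Basic
import Mathlib.LinearAlgebra.FreeModule.Basic

/-!
Hulls and pro-representing objects.
-/

universe u v

open CategoryTheory

namespace Groth.Agent.H24Art

open ArtFun ArtFun.Art IsLocalRing

variable {Λ : Type u} {k : Type u} [CommRing Λ] [Field k] [Algebra Λ k]

/-- `k` as an algebra over a coefficient ring. -/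
@[instance_reducible]
noncomputable def algK (R : CRing Λ k) : Algebra R.carrier k := R.res.toRingHom.toAlgebra

attribute [local instance] algK

instance isScalarTower_algK (R : CRing Λ k) : IsScalarTower Λ R.carrier k :=
  IsScalarTower.of_algebraMap_eq fun r => (R.res.commutes r).symm

theorem smul_algK {R : CRing Λ k} (a : R.carrier) (c : k) : a • c = R.res a * c := rfl

/-- The map to `k[ε]` attached to a derivation. -/
noncomputable def homOfDer {R : CRing Λ k} (D : Derivation Λ R.carrier k) :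
    HomSet R.carrier R.res (dual Λ k) :=
  let g : R.carrier →ₐ[Λ] DualNumber k :=
    { toFun := fun z => TrivSqZeroExt.inl (R.res z) + TrivSqZeroExt.inr (D z)
      map_one' := TrivSqZeroExt.ext (by simp) (by simp)
      map_mul' := fun x y => TrivSqZeroExt.ext (by simp)
        (by simp [smul_algK, mul_comm (R.res y) (D x)])
      map_zero' := TrivSqZeroExt.ext (by simp) (by simp)
      map_add' := fun x y => TrivSqZeroExt.ext (by simp) (by simp)
      commutes' := fun r => by
        refine TrivSqZeroExt.ext ?_ ?_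
        · simp [TrivSqZeroExt.algebraMap_eq_inl']
        · simp [TrivSqZeroExt.algebraMap_eq_inl'] }
  ⟨g, AlgHom.ext fun z => by
    change TrivSqZeroExt.fst (TrivSqZeroExt.inl (R.res z) + TrivSqZeroExt.inr (D z)) = R.res z
    simp⟩

theorem snd_homOfDer {R : CRing Λ k} (D : Derivation Λ R.carrier k) (r : R.carrier) :
    TrivSqZeroExt.snd ((homOfDer D).1 r) = D r := by
  change TrivSqZeroExt.snd (TrivSqZeroExt.inl (R.res r) + TrivSqZeroExt.inr (D r)) = D r
  simp

theorem fst_homSet {R : CRing Λ k} (φ : HomSet R.carrier R.res (dual Λ k)) (r : R.carrier) :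
    TrivSqZeroExt.fst (φ.1 r) = R.res r :=
  congrArg (fun t : _ →ₐ[Λ] k => t r) φ.2

theorem homSet_dual_ext {R : CRing Λ k} {φ ψ : HomSet R.carrier R.res (dual Λ k)}
    (h : ∀ r, TrivSqZeroExt.snd (φ.1 r) = TrivSqZeroExt.snd (ψ.1 r)) : φ = ψ :=
  Subtype.ext (AlgHom.ext fun r => TrivSqZeroExt.ext
    ((fst_homSet φ r).trans (fst_homSet ψ r).symm) (h r))

/-- The derivation attached to a map to `k[ε]`. -/
noncomputable def derOfHom {R : CRing Λ k} (φ : HomSet R.carrier R.res (dual Λ k)) :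
    Derivation Λ R.carrier k :=
  Derivation.mk'
    { toFun := fun r => TrivSqZeroExt.snd (φ.1 r)
      map_add' := fun x y => by rw [map_add]; rfl
      map_smul' := fun c x => by rw [map_smul]; rfl }
    fun x y => by
      change TrivSqZeroExt.snd (φ.1 (x * y)) =
        x • TrivSqZeroExt.snd (φ.1 y) + y • TrivSqZeroExt.snd (φ.1 x)
      rw [map_mul, smul_algK, smul_algK, ← fst_homSet φ x, ← fst_homSet φ y]
      erw [TrivSqZeroExt.snd_mul]
      simp [mul_comm]

theorem homOfDer_derOfHom {R : CRing Λ k} (φ : HomSet R.carrier R.res (dual Λ k)) :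
    homOfDer (derOfHom φ) = φ :=
  homSet_dual_ext fun r => snd_homOfDer _ r

theorem homOfDer_injective {R : CRing Λ k} :
    Function.Injective (homOfDer (R := R) : Derivation Λ R.carrier k → _) := fun D D' h =>
  Derivation.ext fun r => by rw [← snd_homOfDer D r, h, snd_homOfDer]

variable {F : Art Λ k ⥤ Type v}

/-- The linear tangent map of a family. -/
noncomputable def tangentLinear [TangentStr F] {R : CRing Λ k}
    (ξ : Family R.carrier R.res F) : Derivation Λ R.carrier k →ₗ[k] TangentSpace F where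
  toFun D := TangentSpace.mk (ξ.app _ (homOfDer D))
  map_add' D E := by
    obtain ⟨χ, h₁, h₂⟩ := exists_homSet_pair (isFibreProd_dual2 (Λ := Λ) (k := k)) (homOfDer D)
      (homOfDer E) ((subsingleton_homSet_base (R₀ := R.carrier) (res₀ := R.res)).elim _ _)
    have h₃ : HomSet.map plus χ = homOfDer (D + E) := by
      refine homSet_dual_ext fun r => ?_
      rw [snd_homOfDer, Derivation.add_apply, ← snd_homOfDer D r, ← snd_homOfDer E r, ← h₁, ← h₂]
      rfl
    rw [← h₁, ← h₂, ← h₃, ξ.natural, ξ.natural, ξ.natural]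
    exact (TangentStr.add_eq _).symm
  map_smul' c D := by
    have h : HomSet.map (scale c) (homOfDer D) = homOfDer (c • D) := by
      refine homSet_dual_ext fun r => ?_
      rw [snd_homOfDer, Derivation.smul_apply, ← snd_homOfDer D r]
      rfl
    rw [← h, ξ.natural]
    exact (TangentStr.smul_eq c _).symm

theorem finite_der [IsNoetherianRing Λ] [Module.Finite Λ k] (R : CRing Λ k) :
    Module.Finite k (Derivation Λ R.carrier k) :=
  finite_derivation R.carrier R.res_surjective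

theorem hfin_of_surjective [IsNoetherianRing Λ] [Module.Finite Λ k] [TangentStr F] {R : CRing Λ k}
    (ξ : Family R.carrier R.res F) (h : Function.Surjective (ξ.app (dual Λ k))) : Hfin F := by
  haveI := finite_der R
  refine Module.Finite.of_surjective (tangentLinear ξ) fun θ => ?_
  obtain ⟨φ, hφ⟩ := h θ
  exact ⟨derOfHom φ, (congrArg (ξ.app _) (homOfDer_derOfHom φ)).trans hφ⟩

/-- A self-map of a coefficient ring that is injective on tangent vectors is bijective. -/
theorem bijective_of_tangent_injective {R : CRing Λ k} (g : R.carrier →ₐ[Λ] R.carrier)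
    (hg : R.res.comp g = R.res)
    (h : ∀ φ φ' : HomSet R.carrier R.res (dual Λ k), φ.1.comp g = φ'.1.comp g → φ = φ') :
    Function.Bijective g := by
  have hs : Function.Surjective g := by
    have hc := cotangent_eq_of_derivation R.res R.res_surjective (S := R.carrier)
      R.res_surjective g hg (fun D hD => homOfDer_injective (h (homOfDer D) (homOfDer 0)
        (AlgHom.ext fun r => TrivSqZeroExt.ext
          ((fst_homSet (homOfDer D) (g r)).trans (fst_homSet (homOfDer 0) (g r)).symm)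
          ((snd_homOfDer D (g r)).trans ((hD r).trans (snd_homOfDer 0 (g r)).symm)))))
    haveI := R.isAdicComplete
    refine surjective_of_cotangent g.toRingHom (fun s => ⟨s, ?_⟩) hc
    rw [CRing.mem_maximalIdeal_iff, map_sub, sub_eq_zero]
    exact (congrArg (fun t : _ →ₐ[Λ] k => t s) hg).symm
  refine ⟨fun a b hab => ?_, hs⟩
  have mono : Monotone fun n => RingHom.ker (g ^ n) := monotone_nat_of_le_succ fun n x hx => by
    rw [RingHom.mem_ker] at hx ⊢
    rw [pow_succ', AlgHom.mul_apply, hx, map_zero]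
  obtain ⟨n, hn⟩ := monotone_stabilizes_iff_noetherian.mpr inferInstance ⟨_, mono⟩
  have hn' : RingHom.ker (g ^ n) = RingHom.ker (g ^ (n + 1)) := hn (n + 1) (Nat.le_succ n)
  have hsn : ∀ n : ℕ, Function.Surjective (g ^ n : R.carrier →ₐ[Λ] R.carrier) := fun n => by
    induction n with
    | zero => exact fun x => ⟨x, rfl⟩
    | succ n ih => rw [pow_succ']; exact hs.comp ih
  obtain ⟨y, hy⟩ := hsn n (a - b)
  have : y ∈ RingHom.ker (g ^ n) := by
    rw [hn', RingHom.mem_ker, pow_succ', AlgHom.mul_apply, hy, map_sub, hab, sub_self]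
  rw [RingHom.mem_ker, hy, sub_eq_zero] at this
  exact this

theorem bijective_of_surjective_endo {R : CRing Λ k} (g : R.carrier →ₐ[Λ] R.carrier)
    (hg : R.res.comp g = R.res) (hs : Function.Surjective g) : Function.Bijective g :=
  bijective_of_tangent_injective g hg fun φ φ' h => Subtype.ext (AlgHom.ext fun r => by
    obtain ⟨s, rfl⟩ := hs r
    exact congrArg (fun t : _ →ₐ[Λ] dual Λ k => t s) h)

section Universal

variable {R₀ : Type u} [CommRing R₀] [Algebra Λ R₀] {res₀ : R₀ →ₐ[Λ] k}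

theorem isLeftExact_of_isUniversal (ξ : Family R₀ res₀ F) (hξ : IsUniversal ξ) : IsLeftExact F := by
  intro B A A' A'' p' p'' f' f'' h
  refine ⟨fun z z' hz => ?_, fun ⟨⟨a', a''⟩, ha⟩ => ?_⟩
  · obtain ⟨ψ, rfl⟩ := (hξ B).2 z
    obtain ⟨ψ', rfl⟩ := (hξ B).2 z'
    have e₁ : HomSet.map p' ψ = HomSet.map p' ψ' := (hξ A').1 (by
      rw [ξ.natural, ξ.natural]; exact congrArg (fun w => w.1.1) hz)
    have e₂ : HomSet.map p'' ψ = HomSet.map p'' ψ' := (hξ A'').1 (by
      rw [ξ.natural, ξ.natural]; exact congrArg (fun w => w.1.2) hz)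
    exact congrArg _ (Subtype.ext (AlgHom.ext fun r => h.inj _ _
      (congrArg (fun t => t.1 r) e₁) (congrArg (fun t => t.1 r) e₂)))
  · obtain ⟨φ', rfl⟩ := (hξ A').2 a'
    obtain ⟨φ'', rfl⟩ := (hξ A'').2 a''
    obtain ⟨ψ, h₁, h₂⟩ := exists_homSet_pair h φ' φ''
      ((hξ A).1 (by rw [ξ.natural, ξ.natural]; exact ha))
    exact ⟨ξ.app B ψ, FibProd.ext ((ξ.natural p' ψ).symm.trans (congrArg _ h₁))
      ((ξ.natural p'' ψ).symm.trans (congrArg _ h₂))⟩

theorem isVersal_of_isUniversal (ξ : Family R₀ res₀ F) (hξ : IsUniversal ξ) : IsVersal ξ := by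
  intro B A μ _ φ y hy
  obtain ⟨ψ, hψ⟩ := (hξ B).2 y
  exact ⟨ψ, (hξ A).1 (by rw [ξ.natural, hψ, hy]), hψ⟩

theorem h0_of_isUniversal (ξ : Family R₀ res₀ F) (hξ : IsUniversal ξ) : H0 F :=
  h0_of_surjective ξ fun A => (hξ A).2

/-- A universal family separates maps into coefficient rings. -/
theorem hom_eq_of_isUniversal (ξ : Family R₀ res₀ F) (hξ : IsUniversal ξ) (S : CRing Λ k)
    (g₁ g₂ : R₀ →ₐ[Λ] S.carrier) (hg₁ : S.res.comp g₁ = res₀) (hg₂ : S.res.comp g₂ = res₀)
    (h : (ξ.along g₁ hg₁).toFormalElt = (ξ.along g₂ hg₂).toFormalElt) : g₁ = g₂ := by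
  refine hom_ext_of_trunc S fun n => ?_
  exact congrArg (fun φ => φ.1) ((hξ (S.trunc n)).1 (congrArg (fun u : FormalElt F S => u.elt n) h))

theorem injective_base_dual (ξ : Family R₀ res₀ F) (hξ : IsUniversal ξ)
    (hres : Function.Surjective res₀) (x₀ : F.obj (base Λ k)) :
    Function.Injective (fun σ : base Λ k ⟶ dual Λ k => F.map σ x₀) := by
  intro σ σ' h
  have h : F.map σ x₀ = F.map σ' x₀ := h
  obtain ⟨φ, rfl⟩ := (hξ (base Λ k)).2 x₀
  rw [← ξ.natural, ← ξ.natural] at h
  have e := (hξ _).1 h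
  refine Art.hom_ext (AlgHom.ext fun c => ?_)
  obtain ⟨r, rfl⟩ := hres c
  have hr : φ.1 r = res₀ r := congrArg (fun t : _ →ₐ[Λ] k => t r) φ.2
  rw [← hr]
  exact congrArg (fun t => t.1 r) e

end Universal

section Hull

variable [IsNoetherianRing Λ] [Module.Finite Λ k]

/-- Finitely many elements of `m` that are coordinates on a space of derivations. -/
theorem exists_coordinates (R : CRing Λ k) (W : Submodule k (Derivation Λ R.carrier k))
    (hW : ∀ D ∈ W, (∀ y ∈ maximalIdeal R.carrier, D y = 0) → D = 0) :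
    ∃ (r : ℕ) (y : Fin r → R.carrier), (∀ i, y i ∈ maximalIdeal R.carrier) ∧
      (∀ D ∈ W, (∀ i, D (y i) = 0) → D = 0) ∧ ∀ c : Fin r → k, ∃ D ∈ W, ∀ i, D (y i) = c i := by
  haveI := finite_der R
  haveI : Module.Finite k W := Module.Finite.of_injective W.subtype W.injective_subtype
  haveI : Module.Free k W := Module.Free.of_divisionRing k W
  haveI : Module.IsReflexive k W := Module.IsReflexive.of_finite_of_free k W
  let ev : maximalIdeal R.carrier → Module.Dual k W := fun y =>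
    { toFun := fun D => D.1 y.1, map_add' := fun _ _ => rfl, map_smul' := fun _ _ => rfl }
  have hspan : Submodule.span k (Set.range ev) = ⊤ := by
    by_contra h
    obtain ⟨Φ, hΦ, hΦ'⟩ := Submodule.exists_dual_map_eq_bot_of_lt_top (lt_top_iff_ne_top.mpr h)
      inferInstance
    apply hΦ
    refine (Module.evalEquiv k W).symm.injective ?_
    rw [map_zero]
    refine Subtype.ext (hW _ ((Module.evalEquiv k W).symm Φ).2 fun y hy => ?_)
    have h1 : ev ⟨y, hy⟩ ((Module.evalEquiv k W).symm Φ) = Φ (ev ⟨y, hy⟩) :=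
      Module.apply_evalEquiv_symm_apply _ _ _ _
    refine h1.trans ?_
    have h2 : Φ (ev ⟨y, hy⟩) ∈ (Submodule.span k (Set.range ev)).map Φ :=
      Submodule.mem_map_of_mem (Submodule.subset_span ⟨_, rfl⟩)
    rw [hΦ'] at h2
    exact h2
  obtain ⟨b, hb, hbs, hbi⟩ := exists_linearIndependent k (Set.range ev)
  let B : Module.Basis b k (Module.Dual k W) := Module.Basis.mk hbi (by
    rw [Subtype.range_coe, hbs, hspan])
  haveI : Finite b := hbi.finite
  obtain ⟨r, ⟨e⟩⟩ := Finite.exists_equiv_fin b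
  choose y hy using fun i : Fin r => hb (e.symm i).2
  have hBy : ∀ i, ev (y i) = B (e.symm i) := fun i => by
    rw [hy i, Module.Basis.mk_apply]
  refine ⟨r, fun i => (y i).1, fun i => (y i).2, fun D hD h0 => ?_, fun c => ?_⟩
  · refine congrArg Subtype.val ((Module.evalEquiv k W).injective (a₁ := ⟨D, hD⟩) (a₂ := 0) ?_)
    rw [map_zero]
    refine B.ext fun i => ?_
    rw [← e.symm_apply_apply i, ← hBy]
    exact h0 (e i)
  · refine ⟨((Module.evalEquiv k W).symm (B.constr k fun i => c (e i))).1, Subtype.prop _, fun i => ?_⟩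
    have h1 : ev (y i) ((Module.evalEquiv k W).symm (B.constr k fun i => c (e i))) =
        B.constr k (fun i => c (e i)) (ev (y i)) := Module.apply_evalEquiv_symm_apply _ _ _ _
    refine h1.trans ?_
    rw [hBy, Module.Basis.constr_basis, e.apply_symm_apply]

/-- Adjusting a lift by a tangent vector. -/
theorem exists_translate {R₀ : Type u} [CommRing R₀] [Algebra Λ R₀] {res₀ : R₀ →ₐ[Λ] k}
    {A B : Art Λ k} {μ : B ⟶ A} (hμ : IsSmallExt μ) {t : B}
    (ht : RingHom.ker μ.toAlgHom = Ideal.span {t}) (ψ : HomSet R₀ res₀ B)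
    (δ : HomSet R₀ res₀ (dual Λ k)) :
    ∃ ψ' : HomSet R₀ res₀ B, HomSet.map μ ψ' = HomSet.map μ ψ ∧
      ∀ r c, B.res c = TrivSqZeroExt.snd (δ.1 r) → ψ'.1 r = ψ.1 r + c * t := by
  obtain ⟨P, p₁, p₂, hP⟩ := exists_fibre_of_surjective μ μ hμ.1
  obtain ⟨g, hg⟩ := exists_diff hμ ht hP
  obtain ⟨χ, h₁, h₂⟩ := exists_homSet_pair (isFibreProd_diff ht hP hμ hg) ψ δ
    ((subsingleton_homSet_base (R₀ := R₀) (res₀ := res₀)).elim _ _)
  refine ⟨HomSet.map p₂ χ, ?_, fun r c hc => ?_⟩
  · rw [← h₁]; exact Subtype.ext (AlgHom.ext fun r => (hP.w_apply _).symm)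
  · rw [← h₁, ← h₂] at *
    have := hg (χ.1 r) c hc
    change p₂ (χ.1 r) = p₁ (χ.1 r) + c * t
    rw [← this]
    ring

/-- A versal family can be cut down to a miniversal one when derivations of `k` act freely. -/
theorem exists_hull_of_versal (h0 : H0 F) (h2 : Heps F) {R : CRing Λ k}
    (ξ : Family R.carrier R.res F) (hξ : IsVersal ξ)
    (hc : ∀ x₀ : F.obj (base Λ k), Function.Injective (fun σ : base Λ k ⟶ dual Λ k => F.map σ x₀)) :
    ∃ (R' : CRing Λ k) (π : R.carrier →ₐ[Λ] R'.carrier) (hπ : R'.res.comp π = R.res)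
      (ξ' : Family R'.carrier R'.res F), Function.Surjective π ∧ IsMiniversal ξ' ∧
      ∀ (A : Art Λ k) (φ : HomSet R'.carrier R'.res A),
        ξ'.app A φ = ξ.app A ⟨φ.1.comp π, by rw [← AlgHom.comp_assoc, φ.2, hπ]⟩ := by
  obtain ⟨T⟩ := nonempty_tangentStr h0 h2
  let L := tangentLinear ξ
  obtain ⟨r, y, hy, hyW, hyc⟩ := exists_coordinates R (LinearMap.ker L) fun D hD h => by
    let dlin : k →ₐ[Λ] DualNumber k := AlgHom.liftOfSurjective R.res R.res_surjective
      (homOfDer D).1 (fun a ha => by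
        refine RingHom.mem_ker.mpr (TrivSqZeroExt.ext ?_ ?_)
        · exact (fst_homSet _ a).trans ha
        · exact (snd_homOfDer D a).trans (h a ((R.mem_maximalIdeal_iff a).mpr ha)))
    have hdlin : ∀ a, dlin (R.res a) = (homOfDer D).1 a := fun a =>
      AlgHom.liftOfSurjective_apply R.res R.res_surjective (homOfDer D).1 _ a
    let σ : base Λ k ⟶ dual Λ k := ⟨dlin, AlgHom.ext fun c => by
      obtain ⟨a, rfl⟩ := R.res_surjective c
      change TrivSqZeroExt.fst (dlin (R.res a)) = R.res a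
      rw [hdlin]; exact fst_homSet _ a⟩
    let φ₀ : HomSet R.carrier R.res (base Λ k) := ⟨R.res, AlgHom.id_comp _⟩
    have hσ : HomSet.map σ φ₀ = homOfDer D := Subtype.ext (AlgHom.ext hdlin)
    have hσ0 : HomSet.map baseToDual φ₀ = homOfDer (0 : Derivation Λ R.carrier k) := by
      refine homSet_dual_ext fun a => ?_
      rw [snd_homOfDer]
      rfl
    have e : F.map σ (ξ.app _ φ₀) = F.map baseToDual (ξ.app _ φ₀) := by
      rw [← ξ.natural, ← ξ.natural, hσ, hσ0]
      exact (LinearMap.mem_ker.mp hD).trans (map_zero L).symm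
    have e' : σ = baseToDual := hc _ e
    apply homOfDer_injective
    rw [← hσ, e', hσ0]
  set I : Ideal R.carrier := Ideal.span (Set.range y) with hIdef
  obtain ⟨R', π, hπ, hπs, hπk⟩ := exists_quotient_cring R I
    (Ideal.span_le.mpr (by rintro _ ⟨i, rfl⟩; exact hy i))
  let ξ' := ξ.along π hπ
  have hker : ∀ {A : Art Λ k} (φ : HomSet R.carrier R.res A), (∀ i, φ.1 (y i) = 0) →
      ∃ φ' : HomSet R'.carrier R'.res A, φ'.1.comp π = φ.1 := by
    intro A φ hφ
    have hle : RingHom.ker π ≤ RingHom.ker φ.1 := by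
      rw [hπk, hIdef, Ideal.span_le]
      rintro _ ⟨i, rfl⟩
      exact hφ i
    have hl : ∀ a, AlgHom.liftOfSurjective π hπs φ.1 hle (π a) = φ.1 a := fun a =>
      AlgHom.liftOfSurjective_apply π hπs φ.1 hle a
    refine ⟨⟨AlgHom.liftOfSurjective π hπs φ.1 hle, AlgHom.ext fun x => ?_⟩, AlgHom.ext hl⟩
    obtain ⟨a, rfl⟩ := hπs x
    rw [AlgHom.comp_apply, hl]
    exact (congrArg (fun t : _ →ₐ[Λ] k => t a) φ.2).trans
      (congrArg (fun t : _ →ₐ[Λ] k => t a) hπ).symm
  have hπy : ∀ i, π (y i) = 0 := fun i =>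
    RingHom.mem_ker.mp (hπk.ge (Ideal.subset_span ⟨i, rfl⟩))
  have hres0 : ∀ {A : Art Λ k} (φ : HomSet R.carrier R.res A) i, A.res (φ.1 (y i)) = 0 :=
    fun φ i => (congrArg (fun t : _ →ₐ[Λ] k => t (y i)) φ.2).trans
      ((R.mem_maximalIdeal_iff _).mp (hy i))
  have hbij : Function.Bijective (ξ'.app (dual Λ k)) := by
    constructor
    · intro φ φ' he
      let ψ : HomSet R.carrier R.res (dual Λ k) :=
        ⟨φ.1.comp π, by rw [← AlgHom.comp_assoc, φ.2, hπ]⟩
      let ψ' : HomSet R.carrier R.res (dual Λ k) :=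
        ⟨φ'.1.comp π, by rw [← AlgHom.comp_assoc, φ'.2, hπ]⟩
      have hz : ∀ i, (derOfHom ψ - derOfHom ψ') (y i) = 0 := fun i => by
        rw [Derivation.sub_apply]
        change TrivSqZeroExt.snd (φ.1 (π (y i))) - TrivSqZeroExt.snd (φ'.1 (π (y i))) = 0
        rw [hπy, map_zero, map_zero]
        exact sub_self _
      have hd : derOfHom ψ - derOfHom ψ' ∈ LinearMap.ker L := by
        rw [LinearMap.mem_ker, map_sub, sub_eq_zero]
        change ξ.app _ (homOfDer (derOfHom ψ)) = ξ.app _ (homOfDer (derOfHom ψ'))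
        rw [homOfDer_derOfHom, homOfDer_derOfHom]
        exact he
      have e := congrArg homOfDer (sub_eq_zero.mp (hyW _ hd hz))
      rw [homOfDer_derOfHom, homOfDer_derOfHom] at e
      refine Subtype.ext (AlgHom.ext fun x => ?_)
      obtain ⟨a, rfl⟩ := hπs x
      exact congrArg (fun t : HomSet R.carrier R.res (dual Λ k) => t.1 a) e
    · intro θ
      obtain ⟨φ, hφ⟩ := app_surjective_of_isVersal h0 ξ hξ (dual Λ k) θ
      obtain ⟨D, hD, hDy⟩ := hyc fun i => derOfHom φ (y i)
      obtain ⟨φ', hφ'⟩ := hker (homOfDer (derOfHom φ - D)) fun i => TrivSqZeroExt.ext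
        ((fst_homSet _ _).trans ((R.mem_maximalIdeal_iff _).mp (hy i)))
        (by rw [snd_homOfDer, Derivation.sub_apply, hDy, sub_self]; rfl)
      refine ⟨φ', ?_⟩
      change ξ.app _ ⟨φ'.1.comp π, _⟩ = θ
      have e : L (derOfHom φ - D) = L (derOfHom φ) := by
        rw [map_sub, LinearMap.mem_ker.mp hD, sub_zero]
      refine (congrArg (ξ.app _) (Subtype.ext hφ' : (⟨φ'.1.comp π, _⟩ : HomSet R.carrier R.res _) =
        homOfDer (derOfHom φ - D))).trans (Eq.trans e ?_)
      exact (congrArg (ξ.app _) (homOfDer_derOfHom φ)).trans hφ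
  refine ⟨R', π, hπ, ξ', hπs, ⟨?_, hbij⟩, fun A φ => rfl⟩
  refine (Groth.Agent.S12728.result h0 (s1_of_isVersal ξ hξ (app_surjective_of_isVersal h0 ξ hξ))
    h2 R' ξ').mpr ⟨hbij.2, fun B A μ hμ φ z hz => ?_⟩
  obtain ⟨t, ht⟩ := exists_gen hμ
  obtain ⟨ψ₀, hψ₀, -⟩ := hξ μ hμ.1 ⟨φ.1.comp π, by rw [← AlgHom.comp_assoc, φ.2, hπ]⟩ z hz
  have hy0 : ∀ i, ψ₀.1 (y i) ∈ RingHom.ker μ.toAlgHom := fun i => by
    rw [RingHom.mem_ker, show μ.toAlgHom (ψ₀.1 (y i)) = φ.1 (π (y i)) from
      congrArg (fun t : HomSet R.carrier R.res A => t.1 (y i)) hψ₀, hπy, map_zero]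
  choose c hc' using fun i => Ideal.mem_span_singleton'.mp (ht ▸ hy0 i)
  obtain ⟨D, hD, hDy⟩ := hyc fun i => -B.res (c i)
  obtain ⟨ψ, hψμ, hψ⟩ := exists_translate hμ ht ψ₀ (homOfDer D)
  obtain ⟨ψ', hψ'⟩ := hker ψ fun i => by
    rw [hψ (y i) (-c i) (by rw [map_neg, snd_homOfDer, hDy]), ← hc' i]
    ring
  refine ⟨ψ', Subtype.ext (AlgHom.ext fun x => ?_)⟩
  obtain ⟨a, rfl⟩ := hπs x
  change μ (ψ'.1 (π a)) = φ.1 (π a)
  rw [show ψ'.1 (π a) = ψ.1 a from congrArg (fun t : _ →ₐ[Λ] B => t a) hψ',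
    show μ (ψ.1 a) = μ (ψ₀.1 a) from congrArg (fun t : HomSet R.carrier R.res A => t.1 a) hψμ]
  exact congrArg (fun t : HomSet R.carrier R.res A => t.1 a) hψ₀

theorem hasHull_of_conditions [TangentStr F] (h0 : H0 F) (h1 : S1 F) (h2 : Heps F) (h3 : Hfin F)
    (hc : ∀ x₀ : F.obj (base Λ k), Function.Injective (fun σ : base Λ k ⟶ dual Λ k => F.map σ x₀)) :
    HasHull F := by
  obtain ⟨V⟩ := hasVersal h0 h1 h2 h3
  obtain ⟨R', π, hπ, ξ', -, hξ', -⟩ := exists_hull_of_versal h0 h2 V.family V.versal hc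
  exact ⟨⟨R', ξ', hξ'⟩⟩

theorem isUniversal_of_isMiniversal {R₀ : Type u} [CommRing R₀] [Algebra Λ R₀]
    {res₀ : R₀ →ₐ[Λ] k} (h0 : H0 F) (h2 : Heps F) (h4 : HSq F) (ξ : Family R₀ res₀ F)
    (hξ : IsMiniversal ξ) : IsUniversal ξ := by
  intro A
  refine ⟨?_, app_surjective_of_isVersal h0 ξ hξ.1 A⟩
  refine art_induction (fun A => Function.Injective (ξ.app A)) ?_ ?_ ?_ A
  · intro A B e he hA ψ ψ' hψ
    have h := hA (a₁ := HomSet.map e ψ) (a₂ := HomSet.map e ψ') (by rw [ξ.natural, ξ.natural, hψ])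
    exact Subtype.ext (AlgHom.ext fun r =>
      (bijective_of_isIso e).1 (congrArg (fun t : HomSet R₀ res₀ A => t.1 r) h))
  · intro A B p hp hA ψ ψ' hψ
    obtain ⟨P, p₁, p₂, g, d, hP, hPg, hd₁, hd₂, hdg⟩ := exists_double hp
    have hpp : HomSet.map p ψ = HomSet.map p ψ' := hA (by rw [ξ.natural, ξ.natural, hψ])
    obtain ⟨χ, h₁, h₂'⟩ := exists_homSet_pair hP ψ ψ' hpp
    have e : ξ.app P χ = F.map d (ξ.app B ψ) := (h4 p₁ p₂ p hP hp).1 (FibProd.ext
      (by change F.map p₁ (ξ.app P χ) = F.map p₁ (F.map d (ξ.app B ψ))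
          rw [← ξ.natural, h₁, ← map_comp_apply', hd₁, map_id_apply'])
      (by change F.map p₂ (ξ.app P χ) = F.map p₂ (F.map d (ξ.app B ψ))
          rw [← ξ.natural, h₂', ← map_comp_apply', hd₂, map_id_apply', hψ]))
    have hg : HomSet.map g χ = HomSet.map (d ≫ g) ψ := hξ.2.1 (by
      rw [ξ.natural, e, ← map_comp_apply', ξ.natural])
    have hχ : χ = HomSet.map d ψ := Subtype.ext (AlgHom.ext fun r => hPg.inj _ _
      (by
        change p₁ (χ.1 r) = p₁ (d (ψ.1 r))
        rw [show p₁ (χ.1 r) = ψ.1 r from congrArg (fun t : HomSet R₀ res₀ B => t.1 r) h₁,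
          ← Art.comp_apply, hd₁]
        rfl)
      (congrArg (fun t : HomSet R₀ res₀ (dual Λ k) => t.1 r) hg))
    rw [← h₂', hχ]
    refine Subtype.ext (AlgHom.ext fun r => ?_)
    change ψ.1 r = p₂ (d (ψ.1 r))
    rw [← Art.comp_apply, hd₂]
    rfl
  · intro φ φ' _
    exact (subsingleton_homSet_base (R₀ := R₀) (res₀ := res₀)).elim _ _

theorem isProrepresentable_of_conditions [TangentStr F] (h0 : H0 F) (h1 : S1 F) (h2 : Heps F)
    (h3 : Hfin F) (h4 : HSq F)
    (hc : ∀ x₀ : F.obj (base Λ k), Function.Injective (fun σ : base Λ k ⟶ dual Λ k => F.map σ x₀)) :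
    IsProrepresentable F := by
  obtain ⟨H⟩ := hasHull_of_conditions h0 h1 h2 h3 hc
  exact ⟨⟨H.ring, H.family, isUniversal_of_isMiniversal h0 h2 h4 H.family H.miniversal⟩⟩

omit [IsNoetherianRing Λ] [Module.Finite Λ k] in
theorem subsingleton_hom_base_dual (hk : Subsingleton (Derivation Λ k k)) :
    Subsingleton (base Λ k ⟶ dual Λ k) := by
  refine ⟨fun σ σ' => ?_⟩
  have key : ∀ τ : base Λ k ⟶ dual Λ k, ∀ c : k, TrivSqZeroExt.snd (τ c) = 0 := fun τ c => by
    have hfst : ∀ x : k, TrivSqZeroExt.fst (τ x) = x := fun x => res_app τ x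
    let D : Derivation Λ k k := Derivation.mk'
      { toFun := fun x => TrivSqZeroExt.snd (τ.toAlgHom x)
        map_add' := fun x y => by erw [map_add]; rfl
        map_smul' := fun r x => by erw [map_smul]; rfl }
      fun x y => by
        change TrivSqZeroExt.snd (τ (x * y)) = x * TrivSqZeroExt.snd (τ y) + y * TrivSqZeroExt.snd (τ x)
        have e := map_mul τ.toAlgHom x y
        erw [e, TrivSqZeroExt.snd_mul]
        have hx := hfst x
        have hy := hfst y
        erw [hx, hy, op_smul_eq_smul, smul_eq_mul, smul_eq_mul]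
        rfl
    exact congrArg (fun E : Derivation Λ k k => E c) (Subsingleton.elim D 0)
  exact Art.hom_ext (AlgHom.ext fun c => TrivSqZeroExt.ext
    ((res_app σ c).trans (res_app σ' c).symm) ((key σ c).trans (key σ' c).symm))

omit [IsNoetherianRing Λ] [Module.Finite Λ k] in
theorem hc_of_subsingleton (hk : Subsingleton (Derivation Λ k k)) (x₀ : F.obj (base Λ k)) :
    Function.Injective (fun σ : base Λ k ⟶ dual Λ k => F.map σ x₀) := fun σ σ' _ =>
  (subsingleton_hom_base_dual hk).elim σ σ'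

omit [IsNoetherianRing Λ] [Module.Finite Λ k] in
theorem subsingleton_derivation_of_surjective (h : Function.Surjective (algebraMap Λ k)) :
    Subsingleton (Derivation Λ k k) :=
  ⟨fun D D' => Derivation.ext fun c => by
    obtain ⟨r, rfl⟩ := h c
    rw [D.map_algebraMap, D'.map_algebraMap]⟩

end Hull

end Groth.Agent.H24Art
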