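import Groth.Agent.H24Art.PowerSeries
import Groth.Agent.H24Art.Prorep

/-!
Smoothness of `h_S → h_R` and power series rings.
-/

universe u v

open CategoryTheory

namespace Groth.Agent.H24Art

open ArtFun ArtFun.Art IsLocalRing

variable {Λ : Type u} {k : Type u} [CommRing Λ] [Field k] [Algebra Λ k]

attribute [local instance] algK

theorem ps_hom_ext {R : CRing Λ k} {n : ℕ} (T : CRing Λ k)
    {g g' : (pscr R n).carrier →ₐ[Λ] T.carrier}
    (hg : T.res.comp g = (pscr R n).res) (hg' : T.res.comp g' = (pscr R n).res)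
    (hC : g.comp psC = g'.comp psC) (hX : ∀ i, g (psX i) = g' (psX i)) : g = g' := by
  refine isCompl_pscr.hom_ext T hg hg' (poly_ext (fun r => ?_) fun i => ?_)
  · rw [AlgHom.comp_apply, AlgHom.comp_apply, psι_apply, MvPolynomial.coe_C]
    exact congrArg (fun t : _ →ₐ[Λ] T.carrier => t r) hC
  · rw [AlgHom.comp_apply, AlgHom.comp_apply, psι_apply, MvPolynomial.coe_X]
    exact hX i

variable {R S : CRing Λ k} (u : R.carrier →ₐ[Λ] S.carrier) (hu : S.res.comp u = R.res)

theorem surjective_of_der (T S : CRing Λ k) (f : T.carrier →ₐ[Λ] S.carrier)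
    (hf : S.res.comp f = T.res)
    (hD : ∀ D : Derivation Λ S.carrier k, (∀ r, D (f r) = 0) → D = 0) : Function.Surjective f :=
  ((tfae_cring T S f hf).out 1 0).mp
    (cotangent_eq_of_derivation T.res T.res_surjective S.res_surjective f hf hD)

theorem isVersal_along_of_ps {n : ℕ} (e : S.carrier ≃ₐ[Λ] MvPowerSeries (Fin n) R.carrier)
    (he : ∀ r, e (u r) = MvPowerSeries.C r) :
    IsVersal ((Family.self R.carrier R.res).along u hu) := by
  intro B A μ hμ φ y hy
  have hy' : ∀ r, μ (y.1 r) = φ.1 (u r) := fun r =>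
    congrArg (fun t : HomSet R.carrier R.res A => t.1 r) hy
  have hX : ∀ i, S.res (e.symm (psX (R := R) i)) = 0 := fun i => by
    have h1 : e.symm (psX (R := R) i) ∈ maximalIdeal S.carrier := by
      rw [mem_maximalIdeal, mem_nonunits_iff]
      intro hu'
      have h2 := hu'.map e
      rw [AlgEquiv.apply_symm_apply] at h2
      exact ((pscr R n).mem_maximalIdeal_iff _).mpr (res_psX i) h2
    exact (S.mem_maximalIdeal_iff _).mp h1
  choose a ha using fun i => hμ (φ.1 (e.symm (psX (R := R) i)))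
  have hares : ∀ i, B.res (a i) = 0 := fun i => by
    rw [← res_app μ, ha]
    exact (congrArg (fun t : _ →ₐ[Λ] k => t (e.symm (psX (R := R) i))) φ.2).trans (hX i)
  obtain ⟨χ, hχC, hχX⟩ := ps_exists_homSet y a hares
  have hres : (pscr R n).res.comp e.toAlgHom = S.res := by
    refine AlgHom.ext fun s => ?_
    obtain ⟨r, hr⟩ := R.res_surjective (S.res s)
    have h2 : s - u r ∈ maximalIdeal S.carrier := by
      rw [S.mem_maximalIdeal_iff, map_sub, ← hr, sub_eq_zero]
      exact (congrArg (fun t : _ →ₐ[Λ] k => t r) hu).symm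
    have h3 : e (s - u r) ∈ maximalIdeal (pscr R n).carrier := by
      rw [mem_maximalIdeal, mem_nonunits_iff] at h2 ⊢
      intro h
      exact h2 (by simpa using h.map e.symm)
    rw [(pscr R n).mem_maximalIdeal_iff, map_sub, he, map_sub, sub_eq_zero] at h3
    rw [← hr]
    exact h3.trans (congrArg (fun t : _ →ₐ[Λ] k => t r) (res_psC (R := R) (n := n)))
  refine ⟨⟨χ.1.comp e.toAlgHom, by rw [← AlgHom.comp_assoc, χ.2, hres]⟩, ?_, ?_⟩
  · have hφ : A.res.comp (φ.1.comp e.symm.toAlgHom) = (pscr R n).res := by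
      rw [← AlgHom.comp_assoc, φ.2, ← hres]
      exact AlgHom.ext fun t => congrArg (pscr R n).res (e.apply_symm_apply t)
    have h : HomSet.map μ χ = ⟨φ.1.comp e.symm.toAlgHom, hφ⟩ := by
      refine ps_homSet_ext (AlgHom.ext fun r => ?_) fun i => ?_
      · change μ (χ.1 (psC r)) = φ.1 (e.symm (MvPowerSeries.C r))
        rw [show χ.1 (psC r) = y.1 r from congrArg (fun t : _ →ₐ[Λ] B => t r) hχC, hy', ← he,
          AlgEquiv.symm_apply_apply]
      · change μ (χ.1 (psX i)) = φ.1 (e.symm (psX i))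
        rw [hχX, ha]
    refine Subtype.ext (AlgHom.ext fun s => ?_)
    refine (congrArg (fun t : HomSet (pscr R n).carrier (pscr R n).res A => t.1 (e s)) h).trans ?_
    exact congrArg φ.1 (e.symm_apply_apply s)
  · refine Subtype.ext (AlgHom.ext fun r => ?_)
    change χ.1 (e (u r)) = y.1 r
    rw [he]
    exact congrArg (fun t : _ →ₐ[Λ] B => t r) hχC

theorem exists_ps_iso [IsNoetherianRing Λ] [Module.Finite Λ k]
    (hv : IsVersal ((Family.self R.carrier R.res).along u hu)) :
    ∃ (n : ℕ) (e : S.carrier ≃ₐ[Λ] MvPowerSeries (Fin n) R.carrier),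
      ∀ r, e (u r) = MvPowerSeries.C r := by
  haveI := R.isAdicComplete
  let W : Submodule k (Derivation Λ S.carrier k) :=
    { carrier := {D | ∀ r, D (u r) = 0}
      add_mem' := fun {D E} hD hE r => by rw [Derivation.add_apply, hD, hE, add_zero]
      zero_mem' := fun r => rfl
      smul_mem' := fun c D hD r => by rw [Derivation.smul_apply, hD, smul_zero] }
  obtain ⟨n, y, hy, hyW, hyc⟩ := exists_coordinates S W fun D hD h => Derivation.ext fun s => by
    obtain ⟨r, hr⟩ := R.res_surjective (S.res s)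
    have h2 : s - u r ∈ maximalIdeal S.carrier := by
      rw [S.mem_maximalIdeal_iff, map_sub, ← hr, sub_eq_zero]
      exact (congrArg (fun t : _ →ₐ[Λ] k => t r) hu).symm
    have h3 := h _ h2
    rw [map_sub, hD r, sub_zero] at h3
    exact h3
  have hy0 : ∀ i, S.res (y i) = 0 := fun i => (S.mem_maximalIdeal_iff _).mp (hy i)
  obtain ⟨Φ, hΦ, hΦC, hΦX⟩ := ps_exists_hom S u hu y hy0
  have hΦs : Function.Surjective Φ := surjective_of_der _ _ Φ hΦ fun D hD => hyW D
    (fun r => by rw [← hΦC]; exact hD (psC r)) (fun i => by rw [← hΦX i]; exact hD (psX i))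
  choose D hD hDy using fun i : Fin n => hyc (fun j => if i = j then 1 else 0)
  let q₀ : S.carrier →ₐ[Λ] TrivSqZeroExt k (Fin n → k) :=
    { toFun := fun s => TrivSqZeroExt.inl (S.res s) + TrivSqZeroExt.inr fun i => D i s
      map_one' := TrivSqZeroExt.ext (by simp) (funext fun i => by simp)
      map_mul' := fun a b => TrivSqZeroExt.ext (by simp) (funext fun i => by
        simp [Derivation.leibniz, smul_algK, TrivSqZeroExt.snd_mul, mul_comm])
      map_zero' := TrivSqZeroExt.ext (by simp) (funext fun i => by simp)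
      map_add' := fun a b => TrivSqZeroExt.ext (by simp) (funext fun i => by simp)
      commutes' := fun c => TrivSqZeroExt.ext
        (by simp [TrivSqZeroExt.algebraMap_eq_inl', AlgHom.commutes])
        (funext fun i => by simp [TrivSqZeroExt.algebraMap_eq_inl']) }
  let q : HomSet S.carrier S.res (dualN Λ k n) := ⟨q₀, AlgHom.ext fun s => by
    change TrivSqZeroExt.fst (q₀ s) = S.res s
    simp [q₀]⟩
  have hqs : ∀ s j, TrivSqZeroExt.snd (q.1 s) j = D j s := fun s j => by
    change TrivSqZeroExt.snd (TrivSqZeroExt.inl (S.res s) +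
      TrivSqZeroExt.inr (fun i => D i s) : TrivSqZeroExt k (Fin n → k)) j = _
    simp
  let π₀ : Fin n → dualN Λ k n := fun i => TrivSqZeroExt.inr fun j => if j = i then 1 else 0
  obtain ⟨π, hπC, hπX⟩ := ps_exists_homSet (R := R)
    (⟨q.1.comp u, by rw [← AlgHom.comp_assoc, q.2, hu]⟩ : HomSet R.carrier R.res (dualN Λ k n)) π₀
    (fun i => show TrivSqZeroExt.fst (π₀ i) = 0 from rfl)
  have hπ2 : (pscr R n).mpow 1 ≤ RingHom.ker π.1 := by
    have hz : ∀ t : dualN Λ k n, t ∈ maximalIdeal (dualN Λ k n).carrier →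
        TrivSqZeroExt.fst t = 0 := fun t ht => (Art.mem_maximalIdeal_iff _ _).mp ht
    rw [CRing.mpow, pow_two, Ideal.mul_le]
    intro a ha b hb
    rw [RingHom.mem_ker, map_mul]
    have key : ∀ a, a ∈ maximalIdeal (pscr R n).carrier → TrivSqZeroExt.fst (π.1 a) = 0 :=
      fun a ha => (congrArg (fun t : _ →ₐ[Λ] k => t a) π.2).trans
        (((pscr R n).mem_maximalIdeal_iff a).mp ha)
    refine TrivSqZeroExt.ext ?_ ?_
    · refine (TrivSqZeroExt.fst_mul _ _).trans ?_
      exact (congrArg (· * _) (key a ha)).trans (zero_mul _)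
    · refine (TrivSqZeroExt.snd_mul _ _).trans ?_
      refine Eq.trans ?_ (zero_add (0 : Fin n → k))
      exact congrArg₂ (· + ·) ((congrArg (fun c : k => c • _) (key a ha)).trans (zero_smul k _))
        ((congrArg (fun c : k => MulOpposite.op c • _) (key b hb)).trans (by simp))
  have hπs : Function.Surjective π.1 := fun t => by
    obtain ⟨c, hc⟩ := (pscr R n).res_surjective (TrivSqZeroExt.fst t)
    choose r hr using fun i => R.res_surjective
      (TrivSqZeroExt.snd t i - TrivSqZeroExt.snd (π.1 c) i)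
    refine ⟨c + ∑ i, psC (r i) * psX i, ?_⟩
    have hfc : TrivSqZeroExt.fst (π.1 c) = TrivSqZeroExt.fst t :=
      (congrArg (fun t : _ →ₐ[Λ] k => t c) π.2).trans hc
    have hqu : ∀ r, q.1 (u r) = TrivSqZeroExt.inl (R.res r) := fun r => by
      have h := congrArg (fun t : _ →ₐ[Λ] k => t r) hu
      refine TrivSqZeroExt.ext ?_ (funext fun j => ?_)
      · change TrivSqZeroExt.fst (q₀ (u r)) = R.res r
        simpa [q₀] using h
      · change TrivSqZeroExt.snd (q₀ (u r)) j = 0
        simp [q₀, hD j r]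
    have hterm : ∀ i, π.1 (psC (r i) * psX i) = TrivSqZeroExt.inr
        (R.res (r i) • fun j => if j = i then 1 else 0) := fun i => by
      refine (map_mul π.1 _ _).trans ?_
      exact (congrArg₂ (fun a b : TrivSqZeroExt k (Fin n → k) => a * b)
        ((congrArg (fun t : _ →ₐ[Λ] dualN Λ k n => t (r i)) hπC).trans (hqu (r i))) (hπX i)).trans
        (TrivSqZeroExt.inl_mul_inr _ _)
    have hsum : π.1 (∑ i, psC (r i) * psX i) = TrivSqZeroExt.inr
        (∑ i, R.res (r i) • fun j => if j = i then 1 else 0) := by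
      refine (map_sum π.1 _ _).trans ((Finset.sum_congr rfl fun i _ => hterm i).trans ?_)
      exact (map_sum (TrivSqZeroExt.inrHom k (Fin n → k)) _ _).symm
    refine (map_add π.1 _ _).trans ?_
    refine TrivSqZeroExt.ext ?_ (funext fun j => ?_)
    · refine Eq.trans ?_ ((add_zero _).trans hfc)
      exact congrArg (fun z => TrivSqZeroExt.fst (π.1 c) + TrivSqZeroExt.fst z) hsum
    · refine (congrArg (fun z : TrivSqZeroExt k (Fin n → k) => TrivSqZeroExt.snd (π.1 c) j + z.snd j) hsum).trans ?_
      simp [hr]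
  let T := pscr R n
  let P : T.trunc 1 ⟶ dualN Λ k n := truncLift π 1 hπ2
  have hPs : Function.Surjective P := fun t => by
    obtain ⟨a, rfl⟩ := hπs t
    exact ⟨(T.truncHom 1).1 a, congrArg (fun t : HomSet _ _ (dualN Λ k n) => t.1 a)
      (map_truncLift π 1 hπ2)⟩
  let cT : ∀ m, HomSet R.carrier R.res (T.trunc m) := fun m =>
    ⟨(T.truncHom m).1.comp psC, by rw [← AlgHom.comp_assoc, (T.truncHom m).2, res_psC]⟩
  obtain ⟨ψ₁, hψ₁, hψ₁u⟩ := hv P hPs q (cT 1) (Subtype.ext (AlgHom.ext fun r => by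
    change P ((T.truncHom 1).1 (psC r)) = q.1 (u r)
    refine (congrArg (fun t : HomSet _ _ (dualN Λ k n) => t.1 (psC r))
      (map_truncLift π 1 hπ2)).trans ?_
    exact congrArg (fun t : _ →ₐ[Λ] dualN Λ k n => t r) hπC))
  have step : ∀ (m : ℕ) (φ : {φ : HomSet S.carrier S.res (T.trunc m) //
      ((Family.self R.carrier R.res).along u hu).app _ φ = cT m}),
      ∃ φ' : {φ : HomSet S.carrier S.res (T.trunc (m + 1)) //
        ((Family.self R.carrier R.res).along u hu).app _ φ = cT (m + 1)},
        HomSet.map (T.truncMap m) φ'.1 = φ.1 := by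
    rintro m ⟨φ, hφ⟩
    obtain ⟨ψ, h₁, h₂⟩ := hv (T.truncMap m) (truncMap_surjective T m) φ (cT (m + 1))
      ((show HomSet.map (T.truncMap m) (cT (m + 1)) = cT m from
        Subtype.ext (AlgHom.ext fun r => rfl)).trans hφ.symm)
    exact ⟨⟨ψ, h₂⟩, h₁⟩
  choose st hst using step
  let φ : ∀ m, {φ : HomSet S.carrier S.res (T.trunc (m + 1)) //
      ((Family.self R.carrier R.res).along u hu).app _ φ = cT (m + 1)} :=
    Nat.rec (motive := fun m => {φ : HomSet S.carrier S.res (T.trunc (m + 1)) //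
      ((Family.self R.carrier R.res).along u hu).app _ φ = cT (m + 1)}) ⟨ψ₁, hψ₁u⟩
      (fun m x => st (m + 1) x)
  let φ' : ∀ m, HomSet S.carrier S.res (T.trunc m)
    | 0 => HomSet.map (T.truncMap 0) (φ 0).1
    | m + 1 => (φ m).1
  obtain ⟨ψ, hψ, hψm⟩ := exists_hom_of_system T φ' (fun m => by
    cases m with
    | zero => rfl
    | succ m => exact hst (m + 1) (φ m))
  have hψu : ψ.comp u = psC := by
    refine hom_ext_of_trunc T fun m => AlgHom.ext fun r => ?_
    have h1 := congrArg (fun t : _ →ₐ[Λ] T.trunc m => t (u r)) (hψm m)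
    refine h1.trans ?_
    cases m with
    | zero =>
      exact congrArg (T.truncMap 0)
        (congrArg (fun t : HomSet R.carrier R.res _ => t.1 r) (φ 0).2)
    | succ m => exact congrArg (fun t : HomSet R.carrier R.res _ => t.1 r) (φ m).2
  have hψq : ∀ s, π.1 (ψ s) = q.1 s := fun s => by
    refine (congrArg (fun t : HomSet _ _ (dualN Λ k n) => t.1 (ψ s))
      (map_truncLift π 1 hπ2)).symm.trans ?_
    refine (congrArg P (congrArg (fun t : _ →ₐ[Λ] T.trunc 1 => t s) (hψm 1))).trans ?_
    exact congrArg (fun t : HomSet S.carrier S.res _ => t.1 s) hψ₁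
  have hg : (pscr R n).res.comp (ψ.comp Φ) = (pscr R n).res := by
    rw [← AlgHom.comp_assoc, hψ, hΦ]
  letI := algK (pscr R n)
  haveI := isScalarTower_algK (pscr R n)
  have hbij : Function.Bijective (ψ.comp Φ) := bijective_of_tangent_injective _ hg fun a b hab => by
    have hC : a.1.comp psC = b.1.comp psC := by
      have h1 : (ψ.comp Φ).comp psC = psC := by rw [AlgHom.comp_assoc, hΦC, hψu]
      refine AlgHom.ext fun r => ?_
      have h2 := congrArg (fun t : _ →ₐ[Λ] dual Λ k => t (psC r)) hab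
      rw [← h1]
      exact h2
    set E := derOfHom a - derOfHom b with hE
    have hEC : ∀ r, E (psC r) = 0 := fun r => by
      rw [hE, Derivation.sub_apply, sub_eq_zero]
      exact congrArg TrivSqZeroExt.snd (congrArg (fun t : _ →ₐ[Λ] dual Λ k => t r) hC)
    let f : (Fin n → k) →ₗ[k] k :=
      { toFun := fun w => ∑ i, w i * E (psX i)
        map_add' := fun w w' => by simp [add_mul, Finset.sum_add_distrib]
        map_smul' := fun c w => by simp [Finset.mul_sum, mul_assoc] }
    have hf : HomSet.map (tmN1 f) π = homOfDer E := by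
      refine ps_homSet_ext (AlgHom.ext fun r => ?_) fun i => ?_
      · refine TrivSqZeroExt.ext ?_ ?_
        · exact (congrArg (fun t : _ →ₐ[Λ] k => t (psC r)) (HomSet.map (tmN1 f) π).2).trans
            (congrArg (fun t : _ →ₐ[Λ] k => t (psC r)) (homOfDer E).2).symm
        · refine Eq.trans ?_ (snd_homOfDer E (psC r)).symm
          rw [hEC]
          change f (TrivSqZeroExt.snd (π.1.comp psC r)) = 0
          rw [hπC]
          have h0 : TrivSqZeroExt.snd (q.1 (u r)) = 0 := funext fun i => (hqs _ i).trans (hD i r)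
          exact (congrArg f h0).trans (map_zero f)
      · refine TrivSqZeroExt.ext ?_ ?_
        · exact (congrArg (fun t : _ →ₐ[Λ] k => t (psX i)) (HomSet.map (tmN1 f) π).2).trans
            (congrArg (fun t : _ →ₐ[Λ] k => t (psX i)) (homOfDer E).2).symm
        · refine Eq.trans ?_ (snd_homOfDer E (psX i)).symm
          change f (TrivSqZeroExt.snd (π.1 (psX i))) = E (psX i)
          rw [hπX]
          simp [f, π₀]
    have hX : ∀ i, E (psX i) = 0 := fun i => by
      have h1 : E (ψ (Φ (psX i))) = 0 := by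
        rw [hE, Derivation.sub_apply, sub_eq_zero]
        exact congrArg TrivSqZeroExt.snd
          (congrArg (fun t : _ →ₐ[Λ] dual Λ k => t (psX i)) hab)
      rw [← h1, ← snd_homOfDer E (ψ (Φ (psX i))), ← hf]
      change _ = f (TrivSqZeroExt.snd (π.1 (ψ (Φ (psX i)))))
      rw [hψq, hΦX]
      have hq : TrivSqZeroExt.snd (q.1 (y i)) = fun j => if j = i then 1 else 0 := funext fun j => (hqs _ j).trans (hDy j i)
      rw [hq]
      simp [f]
    refine ps_homSet_ext hC fun i => TrivSqZeroExt.ext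
      ((fst_homSet a _).trans (fst_homSet b _).symm) ?_
    exact sub_eq_zero.mp (hX i)
  have hΦb : Function.Bijective Φ :=
    ⟨fun a b h => hbij.1 (congrArg ψ h), hΦs⟩
  refine ⟨n, (AlgEquiv.ofBijective Φ hΦb).symm, fun r => ?_⟩
  rw [AlgEquiv.symm_apply_eq]
  exact (congrArg (fun t : _ →ₐ[Λ] S.carrier => t r) hΦC).symm

section Base

variable [IsNoetherianRing Λ] [IsLocalRing Λ] [IsAdicComplete (maximalIdeal Λ) Λ]

/-- `Λ` as a coefficient ring, when its residue field is `k`. -/
@[reducible] noncomputable def baseRing (hk : Function.Surjective (algebraMap Λ k)) : CRing Λ k where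
  carrier := Λ
  res := Algebra.ofId Λ k
  res_surjective := hk
  isAdicComplete := inferInstance

theorem baseRing_comp (hk : Function.Surjective (algebraMap Λ k)) (T : CRing Λ k) :
    T.res.comp (Algebra.ofId Λ T.carrier) = (baseRing hk).res :=
  AlgHom.ext fun l => T.res.commutes l

theorem isVersal_baseRing_iff (hk : Function.Surjective (algebraMap Λ k)) (T : CRing Λ k) :
    IsVersal ((Family.self (baseRing hk).carrier (baseRing hk).res).along
      (Algebra.ofId Λ T.carrier) (baseRing_comp hk T)) ↔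
      IsSmoothFunctor (hR T.carrier T.res) := by
  constructor
  · intro hv B A μ hμ φ
    obtain ⟨ψ, hψ, -⟩ := hv μ hμ φ ⟨Algebra.ofId Λ B, AlgHom.ext fun l => B.res.commutes l⟩
      (Subtype.ext (AlgHom.ext fun l =>
        ((μ.toAlgHom.comp (Algebra.ofId Λ B)).commutes l).trans
          ((φ.1.comp (Algebra.ofId Λ T.carrier)).commutes l).symm))
    exact ⟨ψ, hψ⟩
  · intro hs B A μ hμ φ y hy
    obtain ⟨ψ, hψ⟩ := hs μ hμ φ
    exact ⟨ψ, hψ, Subtype.ext (AlgHom.ext fun l =>
      ((ψ.1.comp (Algebra.ofId Λ T.carrier)).commutes l).trans (y.1.commutes l).symm)⟩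

theorem isSmoothFunctor_iff_ps [Module.Finite Λ k] (hk : Function.Surjective (algebraMap Λ k))
    (T : CRing Λ k) :
    IsSmoothFunctor (hR T.carrier T.res) ↔
      ∃ n : ℕ, Nonempty (T.carrier ≃ₐ[Λ] MvPowerSeries (Fin n) Λ) := by
  rw [← isVersal_baseRing_iff hk T]
  constructor
  · intro h
    obtain ⟨n, e, -⟩ := exists_ps_iso _ _ h
    exact ⟨n, ⟨e⟩⟩
  · rintro ⟨n, ⟨e⟩⟩
    refine isVersal_along_of_ps _ _ e fun r => ?_
    exact (e.toAlgHom.comp (Algebra.ofId Λ T.carrier)).commutes r

end Base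

end Groth.Agent.H24Art
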