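import Groth.Agent.H24Art.Prorep
import Groth.Agent.H24Art.Relative
import Groth.Prelude.Def_CAlgX
import Mathlib.RingTheory.HopkinsLevitzki

/-!
Smoothness of `h_R` and formal smoothness for the adic topology.
-/

universe u v

open CategoryTheory

namespace Groth.Agent.H24Art

open ArtFun ArtFun.Art IsLocalRing

variable {Λ : Type u} {k : Type u} [CommRing Λ] [Field k] [Algebra Λ k]

theorem exists_art_quot {P : Type u} [CommRing P] [Algebra Λ P] [IsNoetherianRing P]
    {ρ : P →ₐ[Λ] k} (hρ : Function.Surjective ρ) (N : ℕ) :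
    ∃ (E : Art Λ k) (π : HomSet P ρ E),
      Function.Surjective π.1 ∧ RingHom.ker π.1 = RingHom.ker ρ ^ (N + 1) := by
  set K := RingHom.ker ρ with hK
  haveI hmax : K.IsMaximal := RingHom.ker_isMaximal_of_surjective (ρ : P →+* k) hρ
  set Q := P ⧸ K ^ (N + 1)
  have hle : K ^ (N + 1) ≤ K := Ideal.pow_le_self (Nat.succ_ne_zero N)
  have hprime : ∀ I : Ideal Q, I.IsPrime → I = K.map (Ideal.Quotient.mk (K ^ (N + 1))) := by
    intro I hI
    have hc : K ^ (N + 1) ≤ I.comap (Ideal.Quotient.mk (K ^ (N + 1))) := fun x hx => by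
      rw [Ideal.mem_comap, Ideal.Quotient.eq_zero_iff_mem.mpr hx]; exact zero_mem _
    have h2 : K ≤ I.comap (Ideal.Quotient.mk (K ^ (N + 1))) :=
      (hI.comap _).le_of_pow_le hc
    have h3 := hmax.eq_of_le (hI.comap _).ne_top h2
    exact (Ideal.map_comap_of_surjective _ Ideal.Quotient.mk_surjective I).symm.trans
      (congrArg (Ideal.map (Ideal.Quotient.mk (K ^ (N + 1)))) h3.symm)
  haveI : Nontrivial Q := Ideal.Quotient.nontrivial_iff.mpr fun h => hmax.ne_top (top_le_iff.mp (h ▸ hle))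
  haveI : IsLocalRing Q := by
    obtain ⟨M, hM⟩ := Ideal.exists_maximal Q
    exact IsLocalRing.of_unique_max_ideal ⟨M, hM, fun J hJ => by
      rw [hprime J hJ.isPrime, hprime M hM.isPrime]⟩
  haveI : IsArtinianRing Q := by
    rw [isArtinianRing_iff_krullDimLE_zero, Ring.krullDimLE_zero_iff]
    intro I hI
    rw [hprime I hI, ← hprime _ (IsLocalRing.maximalIdeal.isMaximal Q).isPrime]
    exact IsLocalRing.maximalIdeal.isMaximal Q
  let E : Art Λ k :=
    { carrier := Q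
      isLocalRing := inferInstance
      isArtinianRing := inferInstance
      res := Ideal.Quotient.liftₐ (K ^ (N + 1)) ρ fun a ha => RingHom.mem_ker.mp (hle ha)
      res_surjective := fun c => by
        obtain ⟨a, ha⟩ := hρ c
        exact ⟨Ideal.Quotient.mk _ a, ha⟩ }
  exact ⟨E, ⟨Ideal.Quotient.mkₐ Λ (K ^ (N + 1)), AlgHom.ext fun a => rfl⟩,
    Ideal.Quotient.mk_surjective, Ideal.mk_ker⟩

theorem isSmoothFunctor_of_adic (R : CRing Λ k)
    (h : CAlgX.IsAdicFormallySmooth Λ R.carrier (maximalIdeal R.carrier)) :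
    IsSmoothFunctor (hR R.carrier R.res) := by
  intro B A μ hμ
  refine surjective_induction (fun A B μ => Function.Surjective ((hR R.carrier R.res).map μ))
    ?_ ?_ ?_ μ hμ
  · intro A B e he
    exact (map_bijective_of_isIso _ e).surjective
  · intro A B p hp (φ : HomSet R.carrier R.res A)
    let J : Ideal B := RingHom.ker p.toAlgHom
    have hJ : J ^ 2 = ⊥ := by
      rw [eq_bot_iff, ← hp.isSemismallExt.2, sq]
      exact Ideal.mul_mono (ker_le_maximalIdeal p) le_rfl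
    let ε : (B ⧸ J) ≃ₐ[Λ] A := Ideal.quotientKerAlgEquivOfSurjective (f := p.toAlgHom) hp.1
    obtain ⟨c, hc⟩ := mpow_le_ker φ
    obtain ⟨χ, hχ⟩ := h B J hJ (ε.symm.toAlgHom.comp φ.1) ⟨c + 1, fun x hx => by
      rw [AlgHom.comp_apply, RingHom.mem_ker.mp (hc hx), map_zero]⟩
    have hχ' : ∀ r, p.toAlgHom (χ r) = φ.1 r := fun r => by
      have h1 := congrArg ε (congrArg (fun t : _ →ₐ[Λ] B ⧸ J => t r) hχ)
      exact h1.trans (ε.apply_symm_apply _)
    refine ⟨⟨χ, AlgHom.ext fun r => ?_⟩, Subtype.ext (AlgHom.ext hχ')⟩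
    change B.res (χ r) = R.res r
    rw [← res_app p, hχ']
    exact congrArg (fun t : _ →ₐ[Λ] k => t r) φ.2
  · intro A B C p q hp hq z
    obtain ⟨y, rfl⟩ := hq z
    obtain ⟨x, rfl⟩ := hp y
    exact ⟨x, map_comp_apply' _ p q x⟩

variable [IsNoetherianRing Λ] [Module.Finite Λ k]

theorem exists_section {C R : CRing Λ k} (π : C.carrier →ₐ[Λ] R.carrier) (hπ : R.res.comp π = C.res)
    (hπs : Function.Surjective π) (hR' : IsSmoothFunctor (hR R.carrier R.res)) :
    ∃ (σ : R.carrier →ₐ[Λ] C.carrier) (_ : C.res.comp σ = R.res), π.comp σ = AlgHom.id Λ _ := by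
  let t : ∀ n, C.trunc n ⟶ R.trunc n := fun n => CRing.truncMapOfHom π hπ n
  have step : ∀ (n : ℕ) (φ : {φ : HomSet R.carrier R.res (C.trunc n) //
      HomSet.map (t n) φ = R.truncHom n}),
      ∃ φ' : {φ : HomSet R.carrier R.res (C.trunc (n + 1)) //
        HomSet.map (t (n + 1)) φ = R.truncHom (n + 1)}, HomSet.map (C.truncMap n) φ'.1 = φ.1 := by
    rintro n ⟨φ, hφ⟩
    obtain ⟨P, p₁, p₂, hP⟩ := exists_fibre_of_surjective (t n) (R.truncMap n) (truncMap_surjective R n)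
    obtain ⟨r, hr₁, hr₂⟩ := IsFibreProd.exists_lift hP (C.truncMap n) (t (n + 1))
      (CRing.truncMapOfHom_truncMap π hπ n).symm
    have hrs : Function.Surjective r := by
      intro z
      obtain ⟨c, hc⟩ := Ideal.Quotient.mk_surjective (p₁ z)
      obtain ⟨b, hb⟩ := Ideal.Quotient.mk_surjective (p₂ z)
      have hw : (t n) (p₁ z) = R.truncMap n (p₂ z) := hP.w_apply z
      rw [← hc, ← hb] at hw
      have h1 : π c - b ∈ R.mpow n := Ideal.Quotient.eq.mp hw
      have h2 : R.mpow n ≤ (C.mpow n).map π := by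
        rw [CRing.mpow, CRing.mpow, Ideal.map_pow]
        refine Ideal.pow_right_mono (fun y hy => ?_) _
        obtain ⟨x, rfl⟩ := hπs y
        refine Ideal.mem_map_of_mem _ ((C.mem_maximalIdeal_iff x).mpr ?_)
        exact (congrArg (fun t : _ →ₐ[Λ] k => t x) hπ).symm.trans ((R.mem_maximalIdeal_iff _).mp hy)
      obtain ⟨d, hd, hd'⟩ := (Ideal.mem_map_iff_of_surjective π hπs).mp (h2 h1)
      refine ⟨Ideal.Quotient.mk _ (c - d), hP.inj _ _ ?_ ?_⟩
      · refine (congrArg (fun g : C.trunc (n + 1) ⟶ C.trunc n => g (Ideal.Quotient.mk _ (c - d))) hr₁).trans ?_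
        rw [← hc]
        refine Ideal.Quotient.eq.mpr ?_
        rw [sub_sub_cancel_left]
        exact neg_mem hd
      · refine (congrArg (fun g : C.trunc (n + 1) ⟶ R.trunc (n + 1) => g (Ideal.Quotient.mk _ (c - d))) hr₂).trans ?_
        rw [← hb]
        refine congrArg (Ideal.Quotient.mk _) ?_
        change π (c - d) = b
        rw [map_sub, hd', sub_sub_cancel]
    obtain ⟨χ, hχ₁, hχ₂⟩ := exists_homSet_pair hP φ (R.truncHom (n + 1))
      (hφ.trans
        (Subtype.ext (AlgHom.ext fun _ => rfl)))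
    obtain ⟨ψ, hψ⟩ := hR' r hrs χ
    have hψ' : HomSet.map r ψ = χ := hψ
    refine ⟨⟨ψ, ?_⟩, ?_⟩
    · rw [← hr₂, ← hχ₂, ← hψ']; rfl
    · change HomSet.map (C.truncMap n) ψ = φ
      rw [← hr₁, ← hχ₁, ← hψ']; rfl
  choose st hst using step
  haveI := isIso_toBase_trunc_zero C
  have h00 : HomSet.map (t 0) (HomSet.map (inv (toBase (C.trunc 0)))
      (⟨R.res, AlgHom.id_comp _⟩ : HomSet R.carrier R.res (base Λ k))) = R.truncHom 0 := by
    haveI := isIso_toBase_trunc_zero R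
    refine (map_bijective_of_isIso (hR R.carrier R.res) (toBase (R.trunc 0))).injective ?_
    exact (subsingleton_homSet_base (R₀ := R.carrier) (res₀ := R.res)).elim _ _
  let φ : ∀ n, {φ : HomSet R.carrier R.res (C.trunc n) // HomSet.map (t n) φ = R.truncHom n} :=
    Nat.rec (motive := fun n => {φ : HomSet R.carrier R.res (C.trunc n) //
      HomSet.map (t n) φ = R.truncHom n}) ⟨_, h00⟩ (fun n x => st n x)
  obtain ⟨σ, hσ, hσn⟩ := exists_hom_of_system C (fun n => (φ n).1) (fun n => hst n (φ n))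
  refine ⟨σ, hσ, hom_ext_of_trunc R fun n => AlgHom.ext fun a => ?_⟩
  refine Eq.trans ?_ (congrArg (fun f : HomSet R.carrier R.res (R.trunc n) => f.1 a) (φ n).2)
  exact congrArg (t n) (congrArg (fun f : _ →ₐ[Λ] C.trunc n => f a) (hσn n))

theorem adic_of_isSmoothFunctor (R : CRing Λ k) (hR' : IsSmoothFunctor (hR R.carrier R.res)) :
    CAlgX.IsAdicFormallySmooth Λ R.carrier (maximalIdeal R.carrier) := by
  classical
  letI := algK R
  obtain ⟨n, c, hc⟩ := exists_free_aug Λ k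
  obtain ⟨m, y, hy⟩ := Submodule.fg_iff_exists_fin_generating_family.mp
    (IsNoetherian.noetherian (maximalIdeal R.carrier))
  choose r hr using fun i => R.res_surjective (c i)
  let g : MvPolynomial (Fin n ⊕ Fin m) Λ →ₐ[Λ] R.carrier := MvPolynomial.aeval (Sum.elim r y)
  let ρ := R.res.comp g
  have hy0 : ∀ j, R.res (y j) = 0 := fun j => (R.mem_maximalIdeal_iff _).mp
    (hy ▸ Submodule.subset_span ⟨j, rfl⟩)
  have hρ : Function.Surjective ρ := fun x => by
    obtain ⟨p, hp⟩ := hc x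
    refine ⟨MvPolynomial.rename Sum.inl p, ?_⟩
    rw [← hp]
    refine congrArg (fun t : _ →ₐ[Λ] k => t p) (MvPolynomial.algHom_ext (f := ρ.comp
      (MvPolynomial.rename Sum.inl)) (g := MvPolynomial.aeval c) fun i => ?_)
    simp [ρ, g, hr]
  obtain ⟨C, ι, hC⟩ := exists_isCompl hρ (IsNoetherian.noetherian _)
  obtain ⟨π, hπ, hπι⟩ := hC.exists_hom R g rfl
  have hπι' : ∀ p, π (ι p) = g p := fun p => congrArg (fun t : _ →ₐ[Λ] R.carrier => t p) hπι
  have hιres : ∀ p, C.res (ι p) = ρ p := fun p =>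
    congrArg (fun t : _ →ₐ[Λ] k => t p) hC.res_comp
  have hπs : Function.Surjective π := ((tfae_cring C R π hπ).out 1 0).mp (by
    refine le_antisymm (sup_le (Ideal.map_le_iff_le_comap.mpr
      (CRing.maximalIdeal_le_comap (R' := C) (R := R) π hπ)) (Ideal.pow_le_self two_ne_zero)) ?_
    refine le_trans ?_ le_sup_left
    rw [← hy, Submodule.span_le]
    rintro _ ⟨j, rfl⟩
    have hX : ι (MvPolynomial.X (Sum.inr j)) ∈ maximalIdeal C.carrier := by
      rw [C.mem_maximalIdeal_iff, hιres]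
      simp [ρ, g, hy0]
    have := Ideal.mem_map_of_mem π hX
    rw [hπι'] at this
    simpa [g] using this)
  obtain ⟨σ, hσ, hπσ⟩ := exists_section π hπ hπs hR'
  intro A _ _ J hJ ψ ⟨d, hd⟩
  choose b hb using fun i : Fin n ⊕ Fin m => Ideal.Quotient.mk_surjective (ψ (g (MvPolynomial.X i)))
  let gA : MvPolynomial (Fin n ⊕ Fin m) Λ →ₐ[Λ] A := MvPolynomial.aeval b
  have hgA : ∀ p, Ideal.Quotient.mk J (gA p) = ψ (g p) := fun p =>
    congrArg (fun t : _ →ₐ[Λ] A ⧸ J => t p) (MvPolynomial.algHom_ext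
      (f := (Ideal.Quotient.mkₐ Λ J).comp gA) (g := ψ.comp g) fun i => by simp [gA, hb])
  set K := RingHom.ker ρ with hKdef
  have hgK : ∀ p ∈ K ^ (d + 1), gA p ∈ J := by
    intro p hp
    rw [← Ideal.Quotient.eq_zero_iff_mem, hgA]
    have h1 : K.map g ≤ maximalIdeal R.carrier := Ideal.map_le_iff_le_comap.mpr fun q hq =>
      (R.mem_maximalIdeal_iff _).mpr hq
    have h2 := Ideal.mem_map_of_mem g hp
    rw [Ideal.map_pow] at h2
    exact hd _ (Ideal.pow_le_pow_right (Nat.le_succ d) (Ideal.pow_right_mono h1 _ h2))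
  have hgK2 : ∀ p ∈ K ^ (2 * d + 1 + 1), gA p = 0 := by
    intro p hp
    rw [show 2 * d + 1 + 1 = (d + 1) * 2 by omega, pow_mul] at hp
    have h2 := Ideal.mem_map_of_mem gA hp
    rw [Ideal.map_pow] at h2
    have h3 := Ideal.pow_right_mono (Ideal.map_le_iff_le_comap.mpr hgK) 2 h2
    rw [hJ] at h3
    exact Ideal.mem_bot.mp h3
  obtain ⟨E, πE, hπEs, hπEk⟩ := exists_art_quot hρ (2 * d + 1)
  obtain ⟨θ, hθ⟩ := hC.exists_lift πE
  let gE : E →ₐ[Λ] A := AlgHom.liftOfSurjective πE.1 hπEs gA (fun p hp => by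
    exact hgK2 p (hπEk.le hp))
  let χ₀ : C.carrier →ₐ[Λ] A := gE.comp θ.1
  have hχι : ∀ p, χ₀ (ι p) = gA p := fun p => by
    change gE (θ.1 (ι p)) = gA p
    rw [show θ.1 (ι p) = πE.1 p from congrArg (fun t : _ →ₐ[Λ] E => t p) hθ]
    exact AlgHom.liftOfSurjective_apply πE.1 hπEs gA _ p
  obtain ⟨cθ, hcθ⟩ := mpow_le_ker θ
  have hdense : ∀ (M : ℕ) (x : C.carrier), ∃ p, x - ι p ∈ maximalIdeal C.carrier ^ (M + 1) := by
    intro M x
    obtain ⟨E', πE', hπE's, hπE'k⟩ := exists_art_quot hρ M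
    obtain ⟨θ', hθ'⟩ := hC.exists_lift πE'
    have hle : RingHom.ker πE'.1 ≤ RingHom.ker ((C.truncHom M).1.comp ι) := fun q hq => by
      replace hq := hπE'k.le hq
      have h1 : K.map ι ≤ maximalIdeal C.carrier := Ideal.map_le_iff_le_comap.mpr fun q hq =>
        (C.mem_maximalIdeal_iff _).mpr ((hιres q).trans hq)
      have h2 := Ideal.mem_map_of_mem ι hq
      rw [Ideal.map_pow] at h2
      exact Ideal.Quotient.eq_zero_iff_mem.mpr (Ideal.pow_right_mono h1 _ h2)
    have hl : ∀ q, AlgHom.liftOfSurjective πE'.1 hπE's ((C.truncHom M).1.comp ι) hle (πE'.1 q) =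
        (C.truncHom M).1 (ι q) := fun q => AlgHom.liftOfSurjective_apply _ _ _ hle q
    let f : E' ⟶ C.trunc M := ⟨AlgHom.liftOfSurjective πE'.1 hπE's ((C.truncHom M).1.comp ι) hle,
      AlgHom.ext fun z => by
        obtain ⟨q, rfl⟩ := hπE's z
        rw [AlgHom.comp_apply, hl]
        exact ((congrArg (fun t : _ →ₐ[Λ] k => t (ι q)) (C.truncHom M).2).trans (hιres q)).trans
          (congrArg (fun t : _ →ₐ[Λ] k => t q) πE'.2).symm⟩
    have hf : HomSet.map f θ' = C.truncHom M := hC.homSet_ext (AlgHom.ext fun q => by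
      change f.toAlgHom (θ'.1 (ι q)) = (C.truncHom M).1 (ι q)
      rw [show θ'.1 (ι q) = πE'.1 q from congrArg (fun t : _ →ₐ[Λ] E' => t q) hθ']
      exact hl q)
    obtain ⟨p, hp⟩ := hπE's (θ'.1 x)
    refine ⟨p, Ideal.Quotient.eq.mp ?_⟩
    refine (congrArg (fun t : HomSet _ _ (C.trunc M) => t.1 x) hf).symm.trans ?_
    change f.toAlgHom (θ'.1 x) = _
    rw [← hp]
    exact hl p
  refine ⟨χ₀.comp σ, AlgHom.ext fun a => ?_⟩
  have key : ∀ x, Ideal.Quotient.mk J (χ₀ x) = ψ (π x) := by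
    intro x
    obtain ⟨p, hp⟩ := hdense (max cθ d) x
    have h1 : χ₀ (x - ι p) = 0 := by
      change gE (θ.1 (x - ι p)) = 0
      rw [RingHom.mem_ker.mp (hcθ (Ideal.pow_le_pow_right
        (Nat.succ_le_succ (le_max_left cθ d)) hp)), map_zero]
    have h2 : ψ (π (x - ι p)) = 0 := by
      refine hd _ (Ideal.pow_le_pow_right ((le_max_right cθ d).trans (Nat.le_succ _)) ?_)
      have h := Ideal.mem_map_of_mem π hp
      rw [Ideal.map_pow] at h
      exact Ideal.pow_right_mono (Ideal.map_le_iff_le_comap.mpr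
        (CRing.maximalIdeal_le_comap (R' := C) (R := R) π hπ)) _ h
    rw [map_sub, sub_eq_zero, hχι] at h1
    rw [map_sub, map_sub, sub_eq_zero, hπι'] at h2
    rw [h1, hgA, h2]
  exact (key (σ a)).trans (congrArg ψ (congrArg (fun t : _ →ₐ[Λ] R.carrier => t a) hπσ))

theorem isSmoothFunctor_iff_adic (R : CRing Λ k) :
    IsSmoothFunctor (hR R.carrier R.res) ↔
      CAlgX.IsAdicFormallySmooth Λ R.carrier (maximalIdeal R.carrier) :=
  ⟨adic_of_isSmoothFunctor R, isSmoothFunctor_of_adic R⟩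

omit [IsNoetherianRing Λ] [Module.Finite Λ k] in
theorem isSmoothFunctor_iff_of_isVersal {F : Art Λ k ⥤ Type v} (h0 : H0 F) {R : CRing Λ k}
    (ξ : Family R.carrier R.res F) (hξ : IsVersal ξ) :
    IsSmoothFunctor F ↔ IsSmoothFunctor (hR R.carrier R.res) := by
  constructor
  · intro hF B A μ hμ φ
    obtain ⟨z, hz⟩ := hF μ hμ (ξ.app A φ)
    obtain ⟨ψ, hψ, -⟩ := hξ μ hμ φ z hz
    exact ⟨ψ, hψ⟩
  · intro hs B A μ hμ y
    obtain ⟨φ, rfl⟩ := app_surjective_of_isVersal h0 ξ hξ A y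
    obtain ⟨ψ, hψ⟩ := hs μ hμ φ
    exact ⟨ξ.app B ψ, (ξ.natural μ ψ).symm.trans (congrArg (ξ.app A) hψ)⟩

end Groth.Agent.H24Art
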