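import Groth.Agent.H24Art.Cotangent
import Groth.Agent.H24Adic.Noetherian
import Mathlib.RingTheory.AdicCompletion.LocalRing
import Mathlib.RingTheory.Polynomial.Basic

/-!
Coefficient rings obtained by completing augmented algebras, characterised by their functors of
points on `Art Λ k`.
-/

universe u v

open CategoryTheory

namespace Groth.Agent.H24Art

open ArtFun ArtFun.Art IsLocalRing

variable {Λ : Type u} {k : Type u} [CommRing Λ] [Field k] [Algebra Λ k]

section Compl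

variable {P : Type u} [CommRing P] [Algebra Λ P] (ρ : P →ₐ[Λ] k)

/-- `R` with `ι : P → R` represents on `Art Λ k` the augmented algebra maps out of `(P, ρ)`. -/
structure IsCompl (R : CRing Λ k) (ι : P →ₐ[Λ] R.carrier) : Prop where
  res_comp : R.res.comp ι = ρ
  bijective : ∀ A : Art Λ k, Function.Bijective
    (fun ψ : HomSet R.carrier R.res A => (⟨ψ.1.comp ι, by
      rw [← AlgHom.comp_assoc, ψ.2, res_comp]⟩ : HomSet P ρ A))

variable {ρ} {R : CRing Λ k} {ι : P →ₐ[Λ] R.carrier}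

theorem IsCompl.exists_lift (h : IsCompl ρ R ι) {A : Art Λ k} (φ : HomSet P ρ A) :
    ∃ ψ : HomSet R.carrier R.res A, ψ.1.comp ι = φ.1 := by
  obtain ⟨ψ, hψ⟩ := (h.bijective A).surjective φ
  exact ⟨ψ, congrArg (fun t => t.1) hψ⟩

theorem IsCompl.homSet_ext (h : IsCompl ρ R ι) {A : Art Λ k} {ψ ψ' : HomSet R.carrier R.res A}
    (e : ψ.1.comp ι = ψ'.1.comp ι) : ψ = ψ' :=
  (h.bijective A).injective (Subtype.ext e)

theorem IsCompl.hom_ext (h : IsCompl ρ R ι) (T : CRing Λ k) {g g' : R.carrier →ₐ[Λ] T.carrier}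
    (hg : T.res.comp g = R.res) (hg' : T.res.comp g' = R.res) (e : g.comp ι = g'.comp ι) :
    g = g' := by
  refine hom_ext_of_trunc T fun n => ?_
  have := h.homSet_ext (ψ := ⟨(T.truncHom n).1.comp g, by
      rw [← AlgHom.comp_assoc, (T.truncHom n).2, hg]⟩)
    (ψ' := ⟨(T.truncHom n).1.comp g', by rw [← AlgHom.comp_assoc, (T.truncHom n).2, hg']⟩)
    (by rw [AlgHom.comp_assoc, AlgHom.comp_assoc, e])
  exact congrArg (fun t => t.1) this

theorem IsCompl.exists_hom (h : IsCompl ρ R ι) (T : CRing Λ k) (g : P →ₐ[Λ] T.carrier)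
    (hg : T.res.comp g = ρ) :
    ∃ g' : R.carrier →ₐ[Λ] T.carrier, T.res.comp g' = R.res ∧ g'.comp ι = g := by
  have hex : ∀ n, ∃ ψ : HomSet R.carrier R.res (T.trunc n),
      ψ.1.comp ι = (T.truncHom n).1.comp g := fun n =>
    h.exists_lift ⟨(T.truncHom n).1.comp g, by rw [← AlgHom.comp_assoc, (T.truncHom n).2, hg]⟩
  choose ψ hψ using hex
  obtain ⟨g', hg', hn⟩ := exists_hom_of_system T ψ fun n => h.homSet_ext (by
    change ((T.truncMap n).toAlgHom.comp (ψ (n + 1)).1).comp ι = _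
    rw [AlgHom.comp_assoc, hψ, hψ, ← AlgHom.comp_assoc]
    rfl)
  refine ⟨g', hg', hom_ext_of_trunc T fun n => ?_⟩
  rw [← AlgHom.comp_assoc, hn, hψ]

theorem exists_isCompl_adic (hρ : Function.Surjective ρ) (hfg : (RingHom.ker ρ).FG) :
    ∃ (R : CRing Λ k) (ι : P →ₐ[Λ] R.carrier), IsCompl ρ R ι ∧
      Nonempty (AdicCompletion (RingHom.ker ρ) P ≃+* R.carrier) := by
  classical
  set I : Ideal P := RingHom.ker ρ with hI
  haveI hmax : I.IsMaximal := RingHom.ker_isMaximal_of_surjective (ρ : P →+* k) hρ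
  let C := AdicCompletion I P
  let J : Ideal C := I.map (algebraMap P C)
  haveI hJmax : J.IsMaximal := AdicCompletion.isMaximal_map_of_le I I le_rfl hfg
  haveI hJc : IsAdicComplete J C := AdicCompletion.isAdicComplete_self I hfg
  haveI hloc : IsLocalRing C := isLocalRing_of_isAdicComplete_maximal J
  have hJm : maximalIdeal C = J := (IsLocalRing.eq_maximalIdeal hJmax).symm
  haveI : IsNoetherianRing (C ⧸ J) := by
    letI := Ideal.Quotient.field J
    infer_instance
  haveI : IsNoetherianRing C :=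
    H24Adic.isNoetherianRing_of_isAdicComplete J (Ideal.FG.map hfg _)
  let resC : C →ₐ[Λ] k :=
    ((Ideal.kerLiftAlg ρ).comp ((AdicCompletion.evalOneₐ I).restrictScalars Λ))
  let ι : P →ₐ[Λ] C := (Algebra.ofId P C).restrictScalars Λ
  have hres : ∀ p, resC (ι p) = ρ p := fun p => rfl
  let R : CRing Λ k :=
    { carrier := C
      res := resC
      res_surjective := fun c => by
        obtain ⟨p, hp⟩ := hρ c
        exact ⟨ι p, (hres p).trans hp⟩
      isAdicComplete := by rw [hJm]; exact hJc }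
  have hdense : ∀ (n : ℕ) (x : C), ∃ p, x - ι p ∈ maximalIdeal C ^ n := by
    intro n x
    obtain ⟨p, hp⟩ := Ideal.Quotient.mk_surjective (AdicCompletion.evalₐ I n x)
    refine ⟨p, ?_⟩
    rw [hJm, ← Ideal.map_pow, ← Submodule.restrictScalars_mem P, ← Ideal.smul_top_eq_map,
      AdicCompletion.pow_smul_top_eq_ker_eval hfg, LinearMap.mem_ker]
    have h : I ^ n ≤ I ^ n • (⊤ : Ideal P) := by rw [smul_eq_mul, Ideal.mul_top]
    have hz : AdicCompletion.evalₐ I n (x - ι p) = 0 := by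
      rw [map_sub, ← hp, sub_eq_zero]
      exact (AdicCompletion.evalₐ_of I n p).symm
    rw [← AdicCompletion.factor_evalₐ_eq_eval I _ h, hz, map_zero]
  refine ⟨R, ι, ⟨AlgHom.ext hres, fun A => ⟨fun ψ ψ' e => ?_, fun φ => ?_⟩⟩, ⟨RingEquiv.refl C⟩⟩
  · have e : ψ.1.comp ι = ψ'.1.comp ι := congrArg (fun t => t.1) e
    obtain ⟨n, hn⟩ := mpow_le_ker ψ
    obtain ⟨n', hn'⟩ := mpow_le_ker ψ'
    refine Subtype.ext (AlgHom.ext fun x => ?_)
    obtain ⟨p, hp⟩ := hdense (max n n' + 1) x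
    have h1 := hn (Ideal.pow_le_pow_right (Nat.succ_le_succ (le_max_left n n')) hp)
    have h2 := hn' (Ideal.pow_le_pow_right (Nat.succ_le_succ (le_max_right n n')) hp)
    rw [RingHom.mem_ker, map_sub, sub_eq_zero] at h1 h2
    rw [h1, h2]
    exact congrArg (fun t : _ →ₐ[Λ] A => t p) e
  · obtain ⟨n, hn⟩ := isNilpotent_maximalIdeal A
    have hker : ∀ p ∈ I ^ (n + 1), φ.1 p = 0 := by
      intro p hp
      have h1 : I.map φ.1 ≤ maximalIdeal A := by
        rw [Ideal.map_le_iff_le_comap]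
        intro a ha
        rw [Ideal.mem_comap, mem_maximalIdeal_iff]
        exact (congrArg (fun t : _ →ₐ[Λ] k => t a) φ.2).trans ha
      have h2 := Ideal.mem_map_of_mem φ.1 (Ideal.pow_le_pow_right (Nat.le_succ n) hp)
      rw [Ideal.map_pow] at h2
      have h3 := Ideal.pow_right_mono h1 n h2
      rw [hn] at h3
      exact Ideal.mem_bot.mp h3
    let ψ : C →ₐ[Λ] A :=
      (Ideal.Quotient.liftₐ (I ^ (n + 1)) φ.1 hker).comp
        ((AdicCompletion.evalₐ I (n + 1)).restrictScalars Λ)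
    have hψ : ∀ p, ψ (ι p) = φ.1 p := fun p => by
      change Ideal.Quotient.liftₐ (I ^ (n + 1)) φ.1 hker
        (AdicCompletion.evalₐ I (n + 1) (AdicCompletion.of I P p)) = _
      rw [AdicCompletion.evalₐ_of]
      rfl
    refine ⟨⟨ψ, AlgHom.ext fun x => ?_⟩, Subtype.ext (AlgHom.ext hψ)⟩
    obtain ⟨p, hp⟩ := hdense (n + 1) x
    have h1 : ψ x - ψ (ι p) ∈ maximalIdeal A ∧ R.res x = R.res (ι p) := by
      refine ⟨?_, ?_⟩
      · rw [← map_sub]
        have hmap : (maximalIdeal C).map ψ ≤ maximalIdeal A := by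
          rw [hJm, Ideal.map_le_iff_le_comap, Ideal.map_le_iff_le_comap]
          intro a ha
          change ψ (ι a) ∈ maximalIdeal A
          rw [hψ, mem_maximalIdeal_iff]
          exact (congrArg (fun t : _ →ₐ[Λ] k => t a) φ.2).trans ha
        exact hmap (Ideal.mem_map_of_mem _ (Ideal.pow_le_self (Nat.succ_ne_zero n) hp))
      · rw [← sub_eq_zero, ← map_sub, ← CRing.mem_maximalIdeal_iff]
        exact Ideal.pow_le_self (Nat.succ_ne_zero n) hp
    change A.res (ψ x) = R.res x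
    rw [h1.2, ← sub_add_cancel (ψ x) (ψ (ι p)), map_add, (A.mem_maximalIdeal_iff _).mp h1.1,
      zero_add, hψ]
    exact (congrArg (fun t : _ →ₐ[Λ] k => t p) φ.2).trans (hres p).symm

theorem exists_isCompl (hρ : Function.Surjective ρ) (hfg : (RingHom.ker ρ).FG) :
    ∃ (R : CRing Λ k) (ι : P →ₐ[Λ] R.carrier), IsCompl ρ R ι := by
  obtain ⟨R, ι, h, -⟩ := exists_isCompl_adic hρ hfg
  exact ⟨R, ι, h⟩

end Compl

section Free

variable [IsNoetherianRing Λ] [Module.Finite Λ k]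

theorem fg_ker_of_quot_finite {P : Type u} [CommRing P] [Algebra Λ P] {I J : Ideal P} (hIJ : I ≤ J)
    (hI : I.FG) [Module.Finite Λ (P ⧸ I)] : J.FG := by
  haveI : IsNoetherianRing (P ⧸ I) := isNoetherian_of_tower Λ inferInstance
  refine Ideal.fg_of_fg_map_of_fg_inf_ker_of_surjective (f := Ideal.Quotient.mk I)
    (IsNoetherian.noetherian _) ?_ Ideal.Quotient.mk_surjective
  rwa [Ideal.mk_ker, inf_eq_right.mpr hIJ]

/-- A polynomial algebra with a surjective augmentation. -/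
theorem exists_free_aug (Λ k : Type u) [CommRing Λ] [Field k] [Algebra Λ k] [IsNoetherianRing Λ]
    [Module.Finite Λ k] :
    ∃ (n : ℕ) (c : Fin n → k), Function.Surjective (MvPolynomial.aeval (R := Λ) c) := by
  obtain ⟨n, c, hc⟩ := Module.Finite.exists_fin (R := Λ) (M := k)
  refine ⟨n, c, fun x => ?_⟩
  have hx : x ∈ Submodule.span Λ (Set.range c) := by rw [hc]; trivial
  obtain ⟨a, ha⟩ := (Submodule.mem_span_range_iff_exists_fun Λ).mp hx
  refine ⟨∑ i, a i • MvPolynomial.X i, ?_⟩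
  rw [map_sum, ← ha]
  exact Finset.sum_congr rfl fun i _ => by rw [map_smul, MvPolynomial.aeval_X]

theorem smooth_of_free {n : ℕ} {c : Fin n → k} {R : CRing Λ k}
    {ι : MvPolynomial (Fin n) Λ →ₐ[Λ] R.carrier}
    (h : IsCompl (MvPolynomial.aeval (R := Λ) c) R ι) :
    IsSmoothFunctor (hR R.carrier R.res) := by
  intro B A μ hμ (φ : HomSet R.carrier R.res A)
  choose b hb using fun i => hμ (φ.1 (ι (MvPolynomial.X i)))
  obtain ⟨ψ, hψ⟩ := h.exists_lift (A := B) ⟨MvPolynomial.aeval b, by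
    refine MvPolynomial.algHom_ext fun i => ?_
    rw [AlgHom.comp_apply, MvPolynomial.aeval_X, MvPolynomial.aeval_X, ← res_app μ, hb]
    exact ((congrArg (fun t : _ →ₐ[Λ] k => t (ι (MvPolynomial.X i))) φ.2).trans
      (congrArg (fun t : _ →ₐ[Λ] k => t (MvPolynomial.X i)) h.res_comp)).trans
      (MvPolynomial.aeval_X _ _)⟩
  refine ⟨ψ, h.homSet_ext (MvPolynomial.algHom_ext fun i => ?_)⟩
  change μ (ψ.1 (ι (MvPolynomial.X i))) = φ.1 (ι (MvPolynomial.X i))
  rw [show ψ.1 (ι (MvPolynomial.X i)) = b i from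
    (congrArg (fun t : _ →ₐ[Λ] B => t (MvPolynomial.X i)) hψ).trans (MvPolynomial.aeval_X _ _), hb]

end Free

end Groth.Agent.H24Art
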