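import Groth.Agent.H24Art.Completion
import Mathlib.RingTheory.TensorProduct.Maps
import Mathlib.RingTheory.TensorProduct.Finite

/-!
Coproducts and pushouts of coefficient rings.
-/

universe u

open CategoryTheory
open scoped TensorProduct

namespace Groth.Agent.H24Art

open ArtFun ArtFun.Art IsLocalRing

variable {Λ : Type u} {k : Type u} [CommRing Λ] [Field k] [Algebra Λ k]
  [IsNoetherianRing Λ] [Module.Finite Λ k]

theorem module_finite_residue (R : CRing Λ k) :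
    Module.Finite Λ (R.carrier ⧸ maximalIdeal R.carrier) := by
  let f : (R.carrier ⧸ maximalIdeal R.carrier) →ₐ[Λ] k :=
    Ideal.Quotient.liftₐ (maximalIdeal R.carrier) R.res fun a ha => (R.mem_maximalIdeal_iff a).mp ha
  refine Module.Finite.of_injective f.toLinearMap fun a b h => ?_
  obtain ⟨a, rfl⟩ := Ideal.Quotient.mk_surjective a
  obtain ⟨b, rfl⟩ := Ideal.Quotient.mk_surjective b
  rw [Ideal.Quotient.eq, CRing.mem_maximalIdeal_iff, map_sub, sub_eq_zero]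
  exact h

theorem exists_coproduct_compl (R S : CRing Λ k) :
    ∃ (P : CRing Λ k) (ι : R.carrier ⊗[Λ] S.carrier →ₐ[Λ] P.carrier),
      IsCompl (Algebra.TensorProduct.productMap R.res S.res) P ι := by
  set ρ := Algebra.TensorProduct.productMap R.res S.res with hρdef
  have hsurj : Function.Surjective ρ := fun c => by
    obtain ⟨a, ha⟩ := R.res_surjective c
    exact ⟨a ⊗ₜ 1, by simp [ρ, ha]⟩
  refine exists_isCompl hsurj ?_
  let i₁ : R.carrier →ₐ[Λ] R.carrier ⊗[Λ] S.carrier := Algebra.TensorProduct.includeLeft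
  let i₂ : S.carrier →ₐ[Λ] R.carrier ⊗[Λ] S.carrier := Algebra.TensorProduct.includeRight
  set I := (maximalIdeal R.carrier).map i₁ ⊔ (maximalIdeal S.carrier).map i₂ with hI
  have hIle : I ≤ RingHom.ker ρ := by
    refine sup_le (Ideal.map_le_iff_le_comap.mpr fun a ha => ?_)
      (Ideal.map_le_iff_le_comap.mpr fun a ha => ?_)
    · simp [i₁, ρ, (R.mem_maximalIdeal_iff a).mp ha]
    · simp [i₂, ρ, (S.mem_maximalIdeal_iff a).mp ha]
  haveI := module_finite_residue R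
  haveI := module_finite_residue S
  let q₁ : (R.carrier ⧸ maximalIdeal R.carrier) →ₐ[Λ] (R.carrier ⊗[Λ] S.carrier) ⧸ I :=
    Ideal.Quotient.liftₐ _ ((Ideal.Quotient.mkₐ Λ I).comp i₁) fun a ha =>
      Ideal.Quotient.eq_zero_iff_mem.mpr (Ideal.mem_sup_left (Ideal.mem_map_of_mem _ ha))
  let q₂ : (S.carrier ⧸ maximalIdeal S.carrier) →ₐ[Λ] (R.carrier ⊗[Λ] S.carrier) ⧸ I :=
    Ideal.Quotient.liftₐ _ ((Ideal.Quotient.mkₐ Λ I).comp i₂) fun a ha =>
      Ideal.Quotient.eq_zero_iff_mem.mpr (Ideal.mem_sup_right (Ideal.mem_map_of_mem _ ha))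
  haveI : Module.Finite Λ ((R.carrier ⊗[Λ] S.carrier) ⧸ I) := by
    refine Module.Finite.of_surjective (Algebra.TensorProduct.productMap q₁ q₂).toLinearMap fun x => ?_
    obtain ⟨x, rfl⟩ := Ideal.Quotient.mk_surjective x
    induction x using TensorProduct.induction_on with
    | zero => exact ⟨0, map_zero _⟩
    | tmul a b =>
      refine ⟨Ideal.Quotient.mk _ a ⊗ₜ Ideal.Quotient.mk _ b, ?_⟩
      simp only [AlgHom.toLinearMap_apply, Algebra.TensorProduct.productMap_apply_tmul]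
      change Ideal.Quotient.mk I (a ⊗ₜ 1) * Ideal.Quotient.mk I (1 ⊗ₜ b) = _
      rw [← map_mul, Algebra.TensorProduct.tmul_mul_tmul, mul_one, one_mul]
    | add x y hx hy =>
      obtain ⟨a, ha⟩ := hx
      obtain ⟨b, hb⟩ := hy
      exact ⟨a + b, by rw [map_add, map_add, ha, hb]⟩
  exact fg_ker_of_quot_finite (Λ := Λ) hIle
    (Submodule.FG.sup (Ideal.FG.map (IsNoetherian.noetherian _) _)
      (Ideal.FG.map (IsNoetherian.noetherian _) _))

theorem exists_coproduct (R S : CRing Λ k) :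
    ∃ (P : CRing Λ k) (i₁ : R.carrier →ₐ[Λ] P.carrier) (i₂ : S.carrier →ₐ[Λ] P.carrier),
      P.res.comp i₁ = R.res ∧ P.res.comp i₂ = S.res ∧
        ∀ (T : CRing Λ k) (g₁ : R.carrier →ₐ[Λ] T.carrier) (g₂ : S.carrier →ₐ[Λ] T.carrier),
          T.res.comp g₁ = R.res → T.res.comp g₂ = S.res →
            ∃! h : P.carrier →ₐ[Λ] T.carrier, T.res.comp h = P.res ∧ h.comp i₁ = g₁ ∧ h.comp i₂ = g₂ := by
  obtain ⟨P, ι, h⟩ := exists_coproduct_compl R S
  refine ⟨P, ι.comp Algebra.TensorProduct.includeLeft, ι.comp Algebra.TensorProduct.includeRight,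
    ?_, ?_, fun T g₁ g₂ h₁ h₂ => ?_⟩
  · rw [← AlgHom.comp_assoc, h.res_comp, Algebra.TensorProduct.productMap_left]
  · rw [← AlgHom.comp_assoc, h.res_comp, Algebra.TensorProduct.productMap_right]
  · obtain ⟨g, hg, hgι⟩ := h.exists_hom T (Algebra.TensorProduct.productMap g₁ g₂) (by
      refine Algebra.TensorProduct.ext' fun a b => ?_
      simp only [AlgHom.comp_apply, Algebra.TensorProduct.productMap_apply_tmul, map_mul]
      rw [show T.res (g₁ a) = R.res a from congrArg (fun t : _ →ₐ[Λ] k => t a) h₁,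
        show T.res (g₂ b) = S.res b from congrArg (fun t : _ →ₐ[Λ] k => t b) h₂])
    refine ⟨g, ⟨hg, ?_, ?_⟩, ?_⟩
    · rw [← AlgHom.comp_assoc, hgι, Algebra.TensorProduct.productMap_left]
    · rw [← AlgHom.comp_assoc, hgι, Algebra.TensorProduct.productMap_right]
    · rintro g' ⟨hg', e₁, e₂⟩
      refine h.hom_ext T hg' hg ?_
      rw [hgι]
      refine Algebra.TensorProduct.ext' fun a b => ?_
      have : (a ⊗ₜ b : R.carrier ⊗[Λ] S.carrier) = (a ⊗ₜ 1) * (1 ⊗ₜ b) := by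
        rw [Algebra.TensorProduct.tmul_mul_tmul, mul_one, one_mul]
      rw [AlgHom.comp_apply, this, map_mul, map_mul,
        show g' (ι (a ⊗ₜ 1)) = g₁ a from congrArg (fun t : _ →ₐ[Λ] T.carrier => t a) e₁,
        show g' (ι (1 ⊗ₜ b)) = g₂ b from congrArg (fun t : _ →ₐ[Λ] T.carrier => t b) e₂]
      simp

theorem exists_pushout (R S₁ S₂ : CRing Λ k)
    (f₁ : R.carrier →ₐ[Λ] S₁.carrier) (hf₁ : S₁.res.comp f₁ = R.res)
    (f₂ : R.carrier →ₐ[Λ] S₂.carrier) (hf₂ : S₂.res.comp f₂ = R.res) :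
    ∃ (P : CRing Λ k) (i₁ : S₁.carrier →ₐ[Λ] P.carrier) (i₂ : S₂.carrier →ₐ[Λ] P.carrier),
      P.res.comp i₁ = S₁.res ∧ P.res.comp i₂ = S₂.res ∧ i₁.comp f₁ = i₂.comp f₂ ∧
        ∀ (T : CRing Λ k) (g₁ : S₁.carrier →ₐ[Λ] T.carrier) (g₂ : S₂.carrier →ₐ[Λ] T.carrier),
          T.res.comp g₁ = S₁.res → T.res.comp g₂ = S₂.res → g₁.comp f₁ = g₂.comp f₂ →
            ∃! h : P.carrier →ₐ[Λ] T.carrier, T.res.comp h = P.res ∧ h.comp i₁ = g₁ ∧ h.comp i₂ = g₂ := by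
  obtain ⟨C, j₁, j₂, hj₁, hj₂, huniv⟩ := exists_coproduct S₁ S₂
  let J : Ideal C.carrier := Ideal.span (Set.range fun r => j₁ (f₁ r) - j₂ (f₂ r))
  have hJ : ∀ a ∈ J, C.res a = 0 := fun a ha => by
    refine RingHom.mem_ker.mp ((Ideal.span_le.mpr ?_ : J ≤ RingHom.ker C.res) ha)
    rintro _ ⟨r, rfl⟩
    change C.res (j₁ (f₁ r) - j₂ (f₂ r)) = 0
    have e₁ : C.res (j₁ (f₁ r)) = R.res r :=
      (congrArg (fun t : _ →ₐ[Λ] k => t (f₁ r)) hj₁).trans (congrArg (fun t : _ →ₐ[Λ] k => t r) hf₁)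
    have e₂ : C.res (j₂ (f₂ r)) = R.res r :=
      (congrArg (fun t : _ →ₐ[Λ] k => t (f₂ r)) hj₂).trans (congrArg (fun t : _ →ₐ[Λ] k => t r) hf₂)
    rw [map_sub, e₁, e₂, sub_self]
  let ρ : C.carrier ⧸ J →ₐ[Λ] k := Ideal.Quotient.liftₐ J C.res hJ
  have hρ : Function.Surjective ρ := fun c => by
    obtain ⟨a, ha⟩ := C.res_surjective c
    exact ⟨Ideal.Quotient.mk J a, ha⟩
  obtain ⟨P, ι, h⟩ := exists_isCompl hρ (IsNoetherian.noetherian _)
  let π : C.carrier →ₐ[Λ] P.carrier := ι.comp (Ideal.Quotient.mkₐ Λ J)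
  have hπ : P.res.comp π = C.res := by
    rw [← AlgHom.comp_assoc, h.res_comp]; exact Ideal.Quotient.liftₐ_comp _ _ _
  refine ⟨P, π.comp j₁, π.comp j₂, by rw [← AlgHom.comp_assoc, hπ, hj₁],
    by rw [← AlgHom.comp_assoc, hπ, hj₂], AlgHom.ext fun r => ?_, fun T g₁ g₂ h₁ h₂ he => ?_⟩
  · change ι (Ideal.Quotient.mk J (j₁ (f₁ r))) = ι (Ideal.Quotient.mk J (j₂ (f₂ r)))
    exact congrArg ι (Ideal.Quotient.eq.mpr
      (Ideal.subset_span ⟨r, rfl⟩ : j₁ (f₁ r) - j₂ (f₂ r) ∈ J))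
  · obtain ⟨g, ⟨hg, hg₁, hg₂⟩, huniq⟩ := huniv T g₁ g₂ h₁ h₂
    have hgJ : ∀ a ∈ J, g a = 0 := fun a ha => by
      refine RingHom.mem_ker.mp ((Ideal.span_le.mpr ?_ : J ≤ RingHom.ker g) ha)
      rintro _ ⟨r, rfl⟩
      change g (j₁ (f₁ r) - j₂ (f₂ r)) = 0
      rw [map_sub, sub_eq_zero,
        show g (j₁ (f₁ r)) = g₁ (f₁ r) from congrArg (fun t : _ →ₐ[Λ] T.carrier => t (f₁ r)) hg₁,
        show g (j₂ (f₂ r)) = g₂ (f₂ r) from congrArg (fun t : _ →ₐ[Λ] T.carrier => t (f₂ r)) hg₂]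
      exact congrArg (fun t : _ →ₐ[Λ] T.carrier => t r) he
    obtain ⟨g', hg', hg'ι⟩ := h.exists_hom T (Ideal.Quotient.liftₐ J g hgJ) (by
      refine Ideal.Quotient.algHom_ext _ (AlgHom.ext fun a => ?_)
      exact congrArg (fun t : _ →ₐ[Λ] k => t a) hg)
    have hg'π : g'.comp π = g := by
      rw [← AlgHom.comp_assoc, hg'ι]; exact Ideal.Quotient.liftₐ_comp _ _ _
    refine ⟨g', ⟨hg', ?_, ?_⟩, ?_⟩
    · rw [← AlgHom.comp_assoc, hg'π, hg₁]
    · rw [← AlgHom.comp_assoc, hg'π, hg₂]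
    · rintro g'' ⟨hg'', e₁, e₂⟩
      refine h.hom_ext T hg'' hg' (Ideal.Quotient.algHom_ext _ ?_)
      have := huniq (g''.comp π) ⟨by rw [← AlgHom.comp_assoc, hg'', hπ],
        by rw [AlgHom.comp_assoc, e₁], by rw [AlgHom.comp_assoc, e₂]⟩
      rw [AlgHom.comp_assoc, AlgHom.comp_assoc]
      exact this.trans hg'π.symm

end Groth.Agent.H24Art
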