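import Groth.Agent.H24Art.Formal
import Mathlib.RingTheory.AdicCompletion.Functoriality
import Mathlib.RingTheory.AdicCompletion.Noetherian
import Mathlib.RingTheory.Nakayama
import Mathlib.RingTheory.Derivation.Basic

/-!
Surjectivity criteria on relative cotangent spaces for `Art Λ k` and `CRing Λ k`.
-/

universe u v

open CategoryTheory

namespace Groth.Agent.H24Art

open ArtFun ArtFun.Art IsLocalRing

/-- A local map between local rings that is surjective on residue fields and on cotangent spaces is
surjective, when the source is complete and the target Noetherian. -/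
theorem surjective_of_cotangent {R S : Type*} [CommRing R] [CommRing S] [IsLocalRing R]
    [IsLocalRing S] [IsNoetherianRing S] [IsPrecomplete (maximalIdeal R) R] (f : R →+* S)
    (hres : ∀ s, ∃ r, s - f r ∈ maximalIdeal S)
    (hcot : (maximalIdeal R).map f ⊔ maximalIdeal S ^ 2 = maximalIdeal S) :
    Function.Surjective f := by
  have hmap : (maximalIdeal R).map f = maximalIdeal S := by
    refine le_antisymm (le_sup_left.trans hcot.le)
      (Submodule.le_of_le_smul_of_le_jacobson_bot (IsNoetherian.noetherian _)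
        (maximalIdeal_le_jacobson _) ?_)
    rw [smul_eq_mul, ← sq, hcot]
  haveI : IsHausdorff ((maximalIdeal R).map f) S := by
    rw [hmap]
    exact IsHausdorff.of_le_jacobson _ S (maximalIdeal_le_jacobson _)
  refine surjective_of_mk_map_comp_surjective (I := maximalIdeal R) f fun s => ?_
  obtain ⟨s, rfl⟩ := Ideal.Quotient.mk_surjective s
  obtain ⟨r, hr⟩ := hres s
  refine ⟨r, ?_⟩
  rw [← hmap] at hr
  exact (Ideal.Quotient.eq.mpr hr).symm

theorem isPrecomplete_of_isNilpotent {R : Type*} [CommRing R] {I : Ideal R} (h : IsNilpotent I) :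
    IsPrecomplete I R := by
  obtain ⟨n, hn⟩ := h
  refine ⟨fun f hf => ⟨f n, fun m => ?_⟩⟩
  rcases le_total m n with hmn | hnm
  · exact hf hmn
  · have e := hf hnm
    rw [hn, Ideal.zero_eq_bot, Submodule.bot_smul, SModEq.bot] at e
    rw [e]

variable {Λ : Type u} {k : Type u} [CommRing Λ] [Field k] [Algebra Λ k]

theorem map_kerBase_le {R S : Type u} [CommRing R] [CommRing S] [IsLocalRing R] [Algebra Λ R]
    [Algebra Λ S] (res : R →ₐ[Λ] k) (hres : Function.Surjective res) (f : R →ₐ[Λ] S) :
    Ideal.map (algebraMap Λ S) (RingHom.ker (algebraMap Λ k)) ≤ Ideal.map f (maximalIdeal R) := by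
  rw [Ideal.map_le_iff_le_comap]
  intro l hl
  rw [Ideal.mem_comap, ← f.commutes]
  refine Ideal.mem_map_of_mem _ ?_
  have hmax : (RingHom.ker (res : R →+* k)).IsMaximal :=
    RingHom.ker_isMaximal_of_surjective (res : R →+* k) hres
  rw [← IsLocalRing.eq_maximalIdeal hmax, RingHom.mem_ker]
  change res (algebraMap Λ R l) = 0
  rw [res.commutes]
  exact hl

theorem tfae_art {A B : Art Λ k} (f : A ⟶ B) :
    List.TFAE [Function.Surjective f,
      Ideal.map f.toAlgHom (maximalIdeal A) ⊔ maximalIdeal B ^ 2 = maximalIdeal B,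
      Ideal.map (algebraMap Λ B) (RingHom.ker (algebraMap Λ k)) ⊔
        Ideal.map f.toAlgHom (maximalIdeal A) ⊔ maximalIdeal B ^ 2 = maximalIdeal B] := by
  tfae_have 1 → 2 := by
    intro hf
    refine le_antisymm (sup_le ?_ (Ideal.pow_le_self two_ne_zero)) fun b hb => ?_
    · exact Ideal.map_le_iff_le_comap.mpr fun a ha => map_mem_maximalIdeal f ha
    · obtain ⟨a, rfl⟩ := hf b
      exact Ideal.mem_sup_left (Ideal.mem_map_of_mem _ ((comap_maximalIdeal f).mp hb))
  tfae_have 2 ↔ 3 := by
    rw [sup_eq_right.mpr (map_kerBase_le A.res A.res_surjective f.toAlgHom)]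
  tfae_have 2 → 1 := by
    intro h
    haveI := isPrecomplete_of_isNilpotent (isNilpotent_maximalIdeal A)
    refine surjective_of_cotangent f.toAlgHom.toRingHom (fun b => ?_) h
    obtain ⟨a, ha⟩ := A.res_surjective (B.res b)
    refine ⟨a, ?_⟩
    rw [mem_maximalIdeal_iff, map_sub, sub_eq_zero, ← ha]
    exact (res_app f a).symm
  tfae_finish

theorem tfae_cring (R S : CRing Λ k) (f : R.carrier →ₐ[Λ] S.carrier) (hf : S.res.comp f = R.res) :
    List.TFAE [Function.Surjective f,
      Ideal.map f (maximalIdeal R.carrier) ⊔ maximalIdeal S.carrier ^ 2 = maximalIdeal S.carrier,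
      Ideal.map (algebraMap Λ S.carrier) (RingHom.ker (algebraMap Λ k)) ⊔
        Ideal.map f (maximalIdeal R.carrier) ⊔ maximalIdeal S.carrier ^ 2 =
        maximalIdeal S.carrier] := by
  have happ : ∀ r, S.res (f r) = R.res r := fun r => congrArg (fun t : _ →ₐ[Λ] k => t r) hf
  tfae_have 1 → 2 := by
    intro hs
    refine le_antisymm (sup_le ?_ (Ideal.pow_le_self two_ne_zero)) fun b hb => ?_
    · refine Ideal.map_le_iff_le_comap.mpr fun a ha => ?_
      rw [Ideal.mem_comap, CRing.mem_maximalIdeal_iff, happ]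
      exact (R.mem_maximalIdeal_iff a).mp ha
    · obtain ⟨a, rfl⟩ := hs b
      refine Ideal.mem_sup_left (Ideal.mem_map_of_mem _ ?_)
      rw [CRing.mem_maximalIdeal_iff, ← happ]
      exact (S.mem_maximalIdeal_iff _).mp hb
  tfae_have 2 ↔ 3 := by
    rw [sup_eq_right.mpr (map_kerBase_le R.res R.res_surjective f)]
  tfae_have 2 → 1 := by
    intro h
    haveI := R.isAdicComplete
    refine surjective_of_cotangent f.toRingHom (fun b => ?_) h
    obtain ⟨a, ha⟩ := R.res_surjective (S.res b)
    refine ⟨a, ?_⟩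
    rw [CRing.mem_maximalIdeal_iff, map_sub, sub_eq_zero, ← ha]
    exact (happ a).symm
  tfae_finish

/-- If the cotangent map is not surjective there is a nonzero derivation killing the source. -/
theorem cotangent_eq_of_derivation {R S : Type u} [CommRing R] [CommRing S] [IsLocalRing R]
    [IsLocalRing S] [Algebra Λ R] [Algebra Λ S] (resR : R →ₐ[Λ] k)
    (hresR : Function.Surjective resR) [Algebra S k] [IsScalarTower Λ S k]
    (hres : Function.Surjective (algebraMap S k)) (f : R →ₐ[Λ] S)
    (hf : (IsScalarTower.toAlgHom Λ S k).comp f = resR)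
    (hD : ∀ D : Derivation Λ S k, (∀ r, D (f r) = 0) → D = 0) :
    Ideal.map f (maximalIdeal R) ⊔ maximalIdeal S ^ 2 = maximalIdeal S := by
  classical
  have hmS : maximalIdeal S = RingHom.ker (algebraMap S k) := by
    haveI := RingHom.ker_isMaximal_of_surjective (algebraMap S k) hres
    exact (IsLocalRing.eq_maximalIdeal inferInstance).symm
  have hmR : maximalIdeal R = RingHom.ker (resR : R →+* k) :=
    (IsLocalRing.eq_maximalIdeal
      (RingHom.ker_isMaximal_of_surjective (resR : R →+* k) hresR)).symm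
  have happ : ∀ r, algebraMap S k (f r) = resR r := fun r => congrArg (fun t : _ →ₐ[Λ] k => t r) hf
  set J := Ideal.map f (maximalIdeal R) ⊔ maximalIdeal S ^ 2 with hJdef
  have hJ : J ≤ maximalIdeal S := by
    refine sup_le (Ideal.map_le_iff_le_comap.mpr fun a ha => ?_) (Ideal.pow_le_self two_ne_zero)
    rw [Ideal.mem_comap, hmS, RingHom.mem_ker, happ]
    rw [hmR] at ha
    exact ha
  refine le_antisymm hJ fun t ht => ?_
  by_contra htJ
  -- the section `k → S ⧸ J`
  let q : R →ₐ[Λ] S ⧸ J := (Ideal.Quotient.mkₐ Λ J).comp f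
  have hq : ∀ a, resR a = 0 → q a = 0 := fun a ha =>
    Ideal.Quotient.eq_zero_iff_mem.mpr (Ideal.mem_sup_left (Ideal.mem_map_of_mem _ (by
      rw [hmR]; exact ha)))
  let σ : k →+* S ⧸ J := RingHom.liftOfRightInverse (resR : R →+* k) (Function.surjInv hresR)
    (Function.rightInverse_surjInv hresR) ⟨q.toRingHom, fun a ha => RingHom.mem_ker.mpr (hq a ha)⟩
  have hσ : ∀ r, σ (resR r) = q r := fun r =>
    RingHom.liftOfRightInverse_comp_apply (resR : R →+* k) (Function.surjInv hresR)
      (Function.rightInverse_surjInv hresR) ⟨q.toRingHom, fun a ha => RingHom.mem_ker.mpr (hq a ha)⟩ r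
  letI algT : Algebra k (S ⧸ J) := σ.toAlgebra
  let ρ : (S ⧸ J) →+* k := Ideal.Quotient.lift J (algebraMap S k) fun a ha => by
    rw [← RingHom.mem_ker, ← hmS]; exact hJ ha
  have hρσ : ∀ c : k, ρ (algebraMap k (S ⧸ J) c) = c := by
    intro c
    obtain ⟨r, rfl⟩ := hresR c
    change ρ (σ (resR r)) = resR r
    rw [hσ]
    exact happ r
  let W : Submodule k (S ⧸ J) := LinearMap.range (Algebra.linearMap k (S ⧸ J))
  have htW : Submodule.Quotient.mk (p := W) (Ideal.Quotient.mk J t) ≠ 0 := by
    rw [ne_eq, Submodule.Quotient.mk_eq_zero]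
    rintro ⟨c, hc⟩
    have hc : algebraMap k (S ⧸ J) c = Ideal.Quotient.mk J t := hc
    have h0 : c = 0 := by
      rw [← hρσ c, hc]
      change algebraMap S k t = 0
      rw [← RingHom.mem_ker, ← hmS]; exact ht
    rw [h0, map_zero] at hc
    exact htJ (Ideal.Quotient.eq_zero_iff_mem.mp hc.symm)
  obtain ⟨l₀, hl₀⟩ := Module.Projective.exists_dual_ne_zero k htW
  let l : (S ⧸ J) →ₗ[k] k := l₀ ∘ₗ W.mkQ
  have hlW : ∀ c : k, l (algebraMap k (S ⧸ J) c) = 0 := fun c => by
    change l₀ (Submodule.Quotient.mk (algebraMap k (S ⧸ J) c)) = 0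
    rw [(Submodule.Quotient.mk_eq_zero W).mpr (⟨c, rfl⟩ : algebraMap k (S ⧸ J) c ∈ W), map_zero]
  have hlmul : ∀ x y : S ⧸ J, l (x * y) = ρ x * l y + ρ y * l x := by
    intro x y
    have h0 : (x - algebraMap k _ (ρ x)) * (y - algebraMap k _ (ρ y)) = 0 := by
      obtain ⟨a, ha⟩ := Ideal.Quotient.mk_surjective (x - algebraMap k _ (ρ x))
      obtain ⟨b, hb⟩ := Ideal.Quotient.mk_surjective (y - algebraMap k _ (ρ y))
      have haz : algebraMap S k a = 0 := by
        have e := congrArg ρ ha
        rw [map_sub, hρσ, sub_self] at e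
        exact e
      have hbz : algebraMap S k b = 0 := by
        have e := congrArg ρ hb
        rw [map_sub, hρσ, sub_self] at e
        exact e
      rw [← ha, ← hb, ← map_mul, Ideal.Quotient.eq_zero_iff_mem]
      refine Ideal.mem_sup_right ?_
      rw [sq]
      exact Ideal.mul_mem_mul (by rw [hmS]; exact RingHom.mem_ker.mpr haz)
        (by rw [hmS]; exact RingHom.mem_ker.mpr hbz)
    have e : x * y = ρ x • y + ρ y • x - algebraMap k _ (ρ x * ρ y) := by
      rw [Algebra.smul_def, Algebra.smul_def, map_mul]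
      linear_combination h0
    rw [e, map_sub, map_add, map_smul, map_smul, hlW, sub_zero, smul_eq_mul, smul_eq_mul]
  have hΛ : ∀ r : Λ, algebraMap Λ (S ⧸ J) r = algebraMap k (S ⧸ J) (algebraMap Λ k r) := fun r => by
    change _ = σ (algebraMap Λ k r)
    rw [← resR.commutes, hσ, q.commutes]
  let D : Derivation Λ S k := Derivation.mk'
    { toFun := fun s => l (Ideal.Quotient.mk J s)
      map_add' := fun x y => by rw [map_add, map_add]
      map_smul' := fun r x => by
        change l (Ideal.Quotient.mk J (r • x)) = r • l (Ideal.Quotient.mk J x)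
        rw [← Ideal.Quotient.mkₐ_eq_mk Λ, map_smul, Algebra.smul_def, hΛ, ← Algebra.smul_def,
          map_smul, smul_eq_mul, ← Algebra.smul_def] }
    fun x y => by
      change l (Ideal.Quotient.mk J (x * y)) =
        x • l (Ideal.Quotient.mk J y) + y • l (Ideal.Quotient.mk J x)
      rw [map_mul, hlmul, Algebra.smul_def, Algebra.smul_def]
      rfl
  have hDf : ∀ r, D (f r) = 0 := fun r => by
    change l (q r) = 0
    rw [← hσ]
    exact hlW _
  have := congrArg (fun E : Derivation Λ S k => E t) (hD D hDf)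
  exact hl₀ this

theorem finite_derivation [IsNoetherianRing Λ] [Module.Finite Λ k] (S : Type u) [CommRing S]
    [Algebra Λ S] [IsNoetherianRing S] [Algebra S k] [IsScalarTower Λ S k]
    (hres : Function.Surjective (algebraMap S k)) : Module.Finite k (Derivation Λ S k) := by
  classical
  obtain ⟨n, c, hc⟩ := Module.Finite.exists_fin (R := Λ) (M := k)
  choose e he using fun i => hres (c i)
  obtain ⟨G, hG⟩ := (IsNoetherian.noetherian (RingHom.ker (algebraMap S k)) :
    (RingHom.ker (algebraMap S k)).FG)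
  let ev : Derivation Λ S k →ₗ[k] (Fin n → k) × (G → k) :=
    { toFun := fun D => (fun i => D (e i), fun g => D g.1)
      map_add' := fun _ _ => rfl
      map_smul' := fun _ _ => rfl }
  refine Module.Finite.of_injective ev ?_
  rw [← LinearMap.ker_eq_bot, LinearMap.ker_eq_bot']
  intro D hD
  have he0 : ∀ i, D (e i) = 0 := fun i => congrFun (congrArg Prod.fst hD) i
  have hg0 : ∀ g ∈ G, D g = 0 := fun g hg => congrFun (congrArg Prod.snd hD) ⟨g, hg⟩
  have hker : ∀ x ∈ RingHom.ker (algebraMap S k), D x = 0 := by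
    intro x hx
    have hx' : x ∈ Submodule.span S (G : Set S) := by rw [hG]; exact hx
    have h2 : D x = 0 ∧ algebraMap S k x = 0 := by
      induction hx' using Submodule.span_induction with
      | mem y hy =>
        refine ⟨hg0 y hy, ?_⟩
        have : y ∈ RingHom.ker (algebraMap S k) := hG ▸ Submodule.subset_span hy
        exact this
      | zero => exact ⟨map_zero _, map_zero _⟩
      | add a b ha hb iha ihb =>
        have ha' : a ∈ RingHom.ker (algebraMap S k) := hG ▸ ha
        have hb' : b ∈ RingHom.ker (algebraMap S k) := hG ▸ hb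
        exact ⟨by rw [map_add, (iha ha').1, (ihb hb').1, add_zero],
          by rw [map_add, (iha ha').2, (ihb hb').2, add_zero]⟩
      | smul a b hb ihb =>
        have hb' : b ∈ RingHom.ker (algebraMap S k) := hG ▸ hb
        refine ⟨?_, by rw [smul_eq_mul, map_mul, (ihb hb').2, mul_zero]⟩
        rw [smul_eq_mul, D.leibniz, (ihb hb').1, smul_zero, Algebra.smul_def, (ihb hb').2, zero_mul,
          add_zero]
    exact h2.1
  refine Derivation.ext fun s => ?_
  have hs : algebraMap S k s ∈ Submodule.span Λ (Set.range c) := by rw [hc]; trivial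
  obtain ⟨a, ha⟩ := (Submodule.mem_span_range_iff_exists_fun Λ).mp hs
  have hm : s - ∑ i, a i • e i ∈ RingHom.ker (algebraMap S k) := by
    rw [RingHom.mem_ker, map_sub, map_sum, sub_eq_zero, ← ha]
    refine Finset.sum_congr rfl fun i _ => ?_
    rw [Algebra.smul_def, Algebra.smul_def, map_mul, ← IsScalarTower.algebraMap_apply, he]
  have h := hker _ hm
  rw [map_sub, map_sum, Finset.sum_eq_zero (fun i _ => by rw [D.map_smul, he0, smul_zero]),
    sub_zero] at h
  exact h

end Groth.Agent.H24Art
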