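import Groth.Agent.H24Art.Limit
import Mathlib.RingTheory.Ideal.Cotangent
import Mathlib.RingTheory.Length

/-!
Smooth coefficient rings covering a given object, and limits of systems with bounded cotangent
dimension.
-/

universe u v

open CategoryTheory

namespace Groth.Agent.H24Art

open ArtFun ArtFun.Art IsLocalRing

variable {Λ : Type u} {k : Type u} [CommRing Λ] [Field k] [Algebra Λ k]
  [IsNoetherianRing Λ] [Module.Finite Λ k]

theorem exists_smooth_cover (A : Art Λ k) :
    ∃ (S : CRing Λ k) (q : HomSet S.carrier S.res A),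
      IsSmoothFunctor (hR S.carrier S.res) ∧ Function.Surjective q.1 := by
  haveI := moduleFinite A
  obtain ⟨n, e, he⟩ := Module.Finite.exists_fin (R := Λ) (M := A)
  have hsurj : Function.Surjective (MvPolynomial.aeval (R := Λ) e) := fun x => by
    have hx : x ∈ Submodule.span Λ (Set.range e) := by rw [he]; trivial
    obtain ⟨a, ha⟩ := (Submodule.mem_span_range_iff_exists_fun Λ).mp hx
    refine ⟨∑ i, a i • MvPolynomial.X i, ?_⟩
    rw [map_sum, ← ha]
    exact Finset.sum_congr rfl fun i _ => by rw [map_smul, MvPolynomial.aeval_X]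
  have hcomp : A.res.comp (MvPolynomial.aeval (R := Λ) e) =
      MvPolynomial.aeval (fun i => A.res (e i)) :=
    MvPolynomial.algHom_ext fun i => by
      rw [AlgHom.comp_apply, MvPolynomial.aeval_X, MvPolynomial.aeval_X]
  have hρ : Function.Surjective (MvPolynomial.aeval (R := Λ) fun i => A.res (e i)) := by
    rw [← hcomp]; exact A.res_surjective.comp hsurj
  obtain ⟨S, ι, h⟩ := exists_isCompl (Λ := Λ) hρ
    (IsNoetherian.noetherian (RingHom.ker (MvPolynomial.aeval (R := Λ) fun i => A.res (e i))))
  obtain ⟨q, hq⟩ := h.exists_lift (A := A) ⟨MvPolynomial.aeval e, hcomp⟩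
  refine ⟨S, q, smooth_of_free h, fun x => ?_⟩
  obtain ⟨p, rfl⟩ := hsurj x
  exact ⟨ι p, congrArg (fun t : _ →ₐ[Λ] A => t p) hq⟩

theorem cotangentLength_eq_finrank (A : Art Λ k) :
    Module.length A (maximalIdeal A).Cotangent =
      Module.finrank (ResidueField A) (CotangentSpace A) := by
  rw [← Module.length_eq_finrank (ResidueField A) (CotangentSpace A)]
  exact Module.length_eq_of_surjective (S := A) (R := ResidueField A) IsLocalRing.residue_surjective

omit [IsNoetherianRing Λ] [Module.Finite Λ k] in
theorem cotangent_step {A B : Art Λ k} (f : B ⟶ A) (hf : Function.Surjective f) :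
    Module.length A (maximalIdeal A).Cotangent ≤ Module.length B (maximalIdeal B).Cotangent ∧
    (Module.length A (maximalIdeal A).Cotangent = Module.length B (maximalIdeal B).Cotangent →
      ∀ x : B, f x = 0 → x ∈ maximalIdeal B ^ 2) := by
  letI : Algebra B A := f.toAlgHom.toRingHom.toAlgebra
  have hle : maximalIdeal B ≤ (maximalIdeal A).comap (Algebra.ofId B A) := fun b hb =>
    map_mem_maximalIdeal f hb
  let φ : (maximalIdeal B).Cotangent →ₗ[B] (maximalIdeal A).Cotangent :=
    Ideal.mapCotangent _ _ (Algebra.ofId B A) hle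
  have hφ : Function.Surjective φ := by
    intro y
    obtain ⟨⟨a, ha⟩, rfl⟩ := Ideal.toCotangent_surjective _ y
    obtain ⟨b, rfl⟩ := hf a
    exact ⟨Ideal.toCotangent _ ⟨b, (comap_maximalIdeal f).mp ha⟩, rfl⟩
  have hlen : Module.length B (maximalIdeal A).Cotangent = Module.length A (maximalIdeal A).Cotangent :=
    Module.length_eq_of_surjective (S := B) (R := A) hf
  refine ⟨?_, fun he x hx => ?_⟩
  · rw [← hlen]; exact Module.length_le_of_surjective φ hφ
  · have hadd := Module.length_eq_add_of_exact (LinearMap.ker φ).subtype φ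
      (Submodule.subtype_injective _) hφ (LinearMap.exact_subtype_ker_map φ)
    rw [hlen, he] at hadd
    haveI : Module.Finite B (maximalIdeal B).Cotangent :=
      Module.Finite.of_surjective _ (maximalIdeal B).toCotangent_surjective
    have hfin : Module.length B (maximalIdeal B).Cotangent ≠ ⊤ := Module.length_ne_top
    have hker : Module.length B (LinearMap.ker φ) = 0 := by
      revert hadd hfin
      generalize Module.length B (maximalIdeal B).Cotangent = a
      generalize Module.length B (LinearMap.ker φ) = b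
      intro hadd hfin
      exact (ENat.add_left_injective_of_ne_top hfin (by simpa using hadd.symm) : b = 0)
    rw [Module.length_eq_zero_iff] at hker
    have hxm : x ∈ maximalIdeal B := by
      rw [← comap_maximalIdeal f, hx]; exact zero_mem _
    have hmem : Ideal.toCotangent _ (⟨x, hxm⟩ : maximalIdeal B) ∈ LinearMap.ker φ := by
      rw [LinearMap.mem_ker]
      change Ideal.toCotangent _ (⟨f x, map_mem_maximalIdeal f hxm⟩ : maximalIdeal A) = 0
      rw [Ideal.toCotangent_eq_zero]
      change f x ∈ _
      rw [hx]; exact zero_mem _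
    have h0 := congrArg Subtype.val (Subsingleton.elim (⟨_, hmem⟩ : LinearMap.ker φ) 0)
    exact (Ideal.toCotangent_eq_zero _ _).mp h0

/-- The transition map of a system. -/
noncomputable def trans {A : ℕ → Art Λ k} (f : ∀ n, A (n + 1) ⟶ A n) (m n : ℕ) (h : m ≤ n) :
    A n ⟶ A m :=
  Nat.leRec (motive := fun n _ => A n ⟶ A m) (𝟙 _) (fun n _ g => f n ≫ g) h

omit [IsNoetherianRing Λ] [Module.Finite Λ k] in
theorem trans_succ {A : ℕ → Art Λ k} (f : ∀ n, A (n + 1) ⟶ A n) (m n : ℕ) (h : m ≤ n) :
    trans f m (n + 1) (h.trans (Nat.le_succ n)) = f n ≫ trans f m n h :=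
  Nat.leRec_succ _ _ h

omit [IsNoetherianRing Λ] [Module.Finite Λ k] in
theorem trans_self {A : ℕ → Art Λ k} (f : ∀ n, A (n + 1) ⟶ A n) (m : ℕ) :
    trans f m m le_rfl = 𝟙 (A m) :=
  Nat.leRec_self _ _

omit [IsNoetherianRing Λ] [Module.Finite Λ k] in
theorem trans_surjective {A : ℕ → Art Λ k} (f : ∀ n, A (n + 1) ⟶ A n)
    (hf : ∀ n, Function.Surjective (f n)) (m n : ℕ) (h : m ≤ n) :
    Function.Surjective (trans f m n h) := by
  induction n, h using Nat.le_induction with
  | base => rw [trans_self]; exact fun a => ⟨a, rfl⟩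
  | succ n hmn ih => rw [trans_succ f m n hmn]; exact ih.comp (hf n)

omit [IsNoetherianRing Λ] [Module.Finite Λ k] in
theorem trans_comp {A : ℕ → Art Λ k} (f : ∀ n, A (n + 1) ⟶ A n) (m n : ℕ) (h : m + 1 ≤ n) :
    trans f (m + 1) n h ≫ f m = trans f m n ((Nat.le_succ m).trans h) := by
  induction n, h using Nat.le_induction with
  | base =>
    rw [trans_self, Category.id_comp]
    have := trans_succ f m m le_rfl
    rw [trans_self, Category.comp_id] at this
    exact this.symm
  | succ n hmn ih =>
    rw [trans_succ f (m + 1) n hmn, Category.assoc, ih,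
      trans_succ f m n ((Nat.le_succ m).trans hmn)]

theorem exists_cover_system (A : ℕ → Art Λ k) (f : ∀ n, A (n + 1) ⟶ A n)
    (hf : ∀ n, Function.Surjective (f n)) (d : ℕ)
    (hd : ∀ n, Module.finrank (ResidueField (A n)) (CotangentSpace (A n)) ≤ d) :
    ∃ (S : CRing Λ k) (q : ∀ n, HomSet S.carrier S.res (A n)),
      (∀ n, HomSet.map (f n) (q (n + 1)) = q n) ∧ ∀ n, Function.Surjective (q n).1 := by
  classical
  let r : ℕ → ℕ := fun n => Module.finrank (ResidueField (A n)) (CotangentSpace (A n))
  have hmono : ∀ n, r n ≤ r (n + 1) := fun n => by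
    have h := (cotangent_step (f n) (hf n)).1
    rw [cotangentLength_eq_finrank, cotangentLength_eq_finrank] at h
    exact_mod_cast h
  obtain ⟨N, hN⟩ : ∃ N, ∀ n, N ≤ n → r n = r N := by
    by_contra h
    push_neg at h
    have hgrow : ∀ j, ∃ n, j ≤ r n := fun j => by
      induction j with
      | zero => exact ⟨0, Nat.zero_le _⟩
      | succ j ih =>
        obtain ⟨n, hn⟩ := ih
        obtain ⟨n', hn', hne⟩ := h n
        have hle : r n ≤ r n' := monotone_nat_of_le_succ hmono hn'
        exact ⟨n', by omega⟩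
    obtain ⟨n, hn⟩ := hgrow (d + 1)
    have := hd n
    simp only [r] at hn
    omega
  obtain ⟨S, qN, hS, hqN⟩ := exists_smooth_cover (A N)
  have hstep : ∀ j, ∀ q : {q : HomSet S.carrier S.res (A (N + j)) // Function.Surjective q.1},
      ∃ q' : {q : HomSet S.carrier S.res (A (N + (j + 1))) // Function.Surjective q.1},
        HomSet.map (f (N + j)) q'.1 = q.1 := by
    rintro j ⟨q, hq⟩
    obtain ⟨q', hq'⟩ := hS (f (N + j)) (hf _) q
    have hq' : HomSet.map (f (N + j)) q' = q := hq'
    refine ⟨⟨q', ?_⟩, hq'⟩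
    have he := (cotangent_step (f (N + j)) (hf _)).2 (by
      rw [cotangentLength_eq_finrank, cotangentLength_eq_finrank,
        show Module.finrank _ (CotangentSpace (A (N + j))) = r (N + j) from rfl,
        show Module.finrank _ (CotangentSpace (A (N + j + 1))) = r (N + j + 1) from rfl,
        hN (N + j) (by omega), hN (N + j + 1) (by omega)])
    have hmS : ∀ s, s ∈ maximalIdeal S.carrier ↔ (q'.1 s) ∈ maximalIdeal (A (N + (j + 1))) :=
      fun s => by
        rw [CRing.mem_maximalIdeal_iff, mem_maximalIdeal_iff]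
        exact Iff.of_eq (congrArg (· = 0) (congrArg (fun t : _ →ₐ[Λ] k => t s) q'.2).symm)
    haveI := S.isAdicComplete
    refine surjective_of_cotangent q'.1.toRingHom (fun y => ?_) (le_antisymm ?_ fun x hx => ?_)
    · obtain ⟨s, hs⟩ := S.res_surjective ((A _).res y)
      refine ⟨s, ?_⟩
      rw [mem_maximalIdeal_iff, map_sub, sub_eq_zero, ← hs]
      exact (congrArg (fun t : _ →ₐ[Λ] k => t s) q'.2).symm
    · exact sup_le (Ideal.map_le_iff_le_comap.mpr fun s hs => (hmS s).mp hs)
        (Ideal.pow_le_self two_ne_zero)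
    · obtain ⟨s, hs⟩ := hq (f (N + j) x)
      have hfs : f (N + j) (x - q'.1 s) = 0 := by
        rw [map_sub, sub_eq_zero, ← hs, ← hq']
        rfl
      have hxs := he _ hfs
      have hs' : s ∈ maximalIdeal S.carrier := (hmS s).mpr (by
        have e : q'.1 s = x - (x - q'.1 s) := by ring
        rw [e]
        exact sub_mem hx (Ideal.pow_le_self two_ne_zero hxs))
      rw [show x = q'.1.toRingHom s + (x - q'.1 s) by change x = q'.1 s + _; ring]
      exact Submodule.add_mem_sup (Ideal.mem_map_of_mem _ hs') hxs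
  choose st hst using hstep
  let Q : ∀ j, {q : HomSet S.carrier S.res (A (N + j)) // Function.Surjective q.1} :=
    Nat.rec (motive := fun j => {q : HomSet S.carrier S.res (A (N + j)) // Function.Surjective q.1})
      ⟨qN, hqN⟩ (fun j q => st j q)
  refine ⟨S, fun n => HomSet.map (trans f n (N + n) (Nat.le_add_left n N)) (Q n).1,
    fun n => ?_, fun n => (trans_surjective f hf n _ _).comp (Q n).2⟩
  dsimp only
  rw [show (Q n).1 = HomSet.map (f (N + n)) (Q (n + 1)).1 from (hst n (Q n)).symm]
  refine Subtype.ext (AlgHom.ext fun s => ?_)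
  change f n (trans f (n + 1) (N + (n + 1)) _ ((Q (n + 1)).1.1 s)) =
    trans f n (N + n) _ (f (N + n) ((Q (n + 1)).1.1 s))
  rw [← Art.comp_apply, ← Art.comp_apply, trans_comp f n _ (Nat.le_add_left (n + 1) N)]
  exact congrArg (fun g : A (N + (n + 1)) ⟶ A n => g ((Q (n + 1)).1.1 s))
    (trans_succ f n (N + n) (Nat.le_add_left n N))

end Groth.Agent.H24Art
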