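import Groth.Agent.H24Art.Formal
import Groth.Agent.H24Art.Cotangent
import Groth.Agent.H24Art.Double
import Groth.Prelude.Def_W4sfdMinVersal
import Mathlib.RingTheory.Ideal.GoingUp
import Mathlib.RingTheory.Artinian.Module

/-!
Stable images of endomorphisms: idempotents preserving a formal element.
-/

universe u v

open CategoryTheory

namespace Groth.Agent.H24Art

open ArtFun ArtFun.Art IsLocalRing

variable {Λ : Type u} {k : Type u} [CommRing Λ] [Field k] [Algebra Λ k]
variable [IsNoetherianRing Λ] [Module.Finite Λ k]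

theorem isArtinian_residue : IsArtinian Λ k := by
  haveI : (RingHom.ker (algebraMap Λ k)).IsMaximal := by
    haveI : (⊥ : Ideal k).IsMaximal := Ideal.bot_isMaximal
    exact Ideal.isMaximal_comap_of_isIntegral_of_isMaximal (R := Λ) (⊥ : Ideal k)
  letI := Ideal.Quotient.field (RingHom.ker (algebraMap Λ k))
  letI : Algebra (Λ ⧸ RingHom.ker (algebraMap Λ k)) k :=
    (RingHom.kerLift (algebraMap Λ k)).toAlgebra
  haveI : IsScalarTower Λ (Λ ⧸ RingHom.ker (algebraMap Λ k)) k :=
    IsScalarTower.of_algebraMap_eq fun _ => rfl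
  haveI : Module.Finite (Λ ⧸ RingHom.ker (algebraMap Λ k)) k :=
    Module.Finite.of_restrictScalars_finite Λ _ _
  exact isArtinian_of_surjective_algebraMap (R := Λ ⧸ RingHom.ker (algebraMap Λ k))
    Ideal.Quotient.mk_surjective

theorem isArtinian_art (A : Art Λ k) : IsArtinian Λ A := by
  haveI := isArtinian_residue (Λ := Λ) (k := k)
  refine art_induction (fun A : Art Λ k => IsArtinian Λ A) ?_ ?_ ?_ A
  · intro A B e he ih
    exact isArtinian_of_linearEquiv
      (AlgEquiv.ofBijective e.toAlgHom (bijective_of_isIso e)).toLinearEquiv.symm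
  · intro A B p hp ih
    obtain ⟨t, ht⟩ := exists_gen hp
    let g : B →ₗ[Λ] B := LinearMap.mulRight Λ t
    have hle : LinearMap.ker B.res.toLinearMap ≤ LinearMap.ker g := fun b hb => by
      have h : b * t ∈ maximalIdeal B * RingHom.ker p.toAlgHom :=
        Ideal.mul_mem_mul ((B.mem_maximalIdeal_iff b).mpr hb)
          (ht ▸ Ideal.mem_span_singleton_self t)
      rw [hp.isSemismallExt.2, Ideal.mem_bot] at h
      exact h
    let f : k →ₗ[Λ] B := ((LinearMap.ker B.res.toLinearMap).liftQ g hle).comp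
      (LinearMap.quotKerEquivOfSurjective B.res.toLinearMap B.res_surjective).symm.toLinearMap
    have hrange : LinearMap.range f = LinearMap.ker p.toAlgHom.toLinearMap := by
      rw [LinearMap.range_comp, LinearEquiv.range, Submodule.map_top, Submodule.range_liftQ]
      ext b
      rw [LinearMap.mem_range, LinearMap.mem_ker]
      refine ⟨?_, fun hb => ?_⟩
      · rintro ⟨a, rfl⟩
        have h1 : a * t ∈ RingHom.ker p.toAlgHom := by
          rw [ht]; exact Ideal.mem_span_singleton'.mpr ⟨a, rfl⟩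
        exact h1
      · have hb' : b ∈ RingHom.ker p.toAlgHom := hb
        rw [ht, Ideal.mem_span_singleton'] at hb'
        exact hb'
    exact isArtinian_of_range_eq_ker f p.toAlgHom.toLinearMap hrange
  · exact inferInstanceAs (IsArtinian Λ k)

/-- The stable idempotent of an endomorphism. -/
theorem exists_retraction (A : Art Λ k) (e : A ⟶ A) :
    ∃ (N : ℕ) (ρ : A ⟶ A), ∀ j, N ≤ j →
      (∀ x, ∃ y, ρ x = (e.toAlgHom ^ j) y) ∧ (∀ x, (e.toAlgHom ^ j) (ρ x) = (e.toAlgHom ^ j) x) ∧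
      (∀ x, (e.toAlgHom ^ j) ((e.toAlgHom ^ j) x) = 0 → (e.toAlgHom ^ j) x = 0) := by
  classical
  haveI := isArtinian_art A
  haveI := moduleFinite A
  haveI : IsNoetherian Λ A := inferInstance
  let f : Module.End Λ A := e.toAlgHom.toLinearMap
  have hf : ∀ j x, (f ^ j) x = (e.toAlgHom ^ j) x := fun j => by
    induction j with
    | zero => exact fun _ => rfl
    | succ j ih => intro x; rw [pow_succ, pow_succ, Module.End.mul_apply, AlgHom.mul_apply, ih]; rfl
  obtain ⟨N, hN⟩ := Filter.eventually_atTop.mp (f.eventually_isCompl_ker_pow_range_pow.and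
    (f.eventually_iInf_range_pow_eq.and f.eventually_iSup_ker_pow_eq))
  set g := e.toAlgHom ^ N with hg
  have hex : ∀ x, ∃! v, (∃ y, v = g y) ∧ g v = g x := by
    intro x
    obtain ⟨w, hw, v, hv, hwv⟩ := Submodule.mem_sup.mp
      ((hN N le_rfl).1.codisjoint.eq_top.ge (Submodule.mem_top : x ∈ ⊤))
    obtain ⟨y, rfl⟩ := hv
    refine ⟨(f ^ N) y, ⟨⟨y, hf N y⟩, ?_⟩, fun v' hv' => ?_⟩
    · rw [hg, ← hf, ← hf N x, ← hwv, map_add, LinearMap.mem_ker.mp hw, zero_add]
    · obtain ⟨⟨y', rfl⟩, hy'⟩ := hv'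
      refine sub_eq_zero.mp ((Submodule.disjoint_def.mp (hN N le_rfl).1.disjoint) _ ?_ ?_)
      · rw [LinearMap.mem_ker, map_sub, sub_eq_zero, hf, ← hg, hy']
        rw [hg, ← hf, ← hwv, map_add, LinearMap.mem_ker.mp hw, zero_add]
      · exact ⟨y' - y, by rw [map_sub, hf N y']⟩
  choose ρf hρ huniq using hex
  have hres : ∀ j x, A.res ((e.toAlgHom ^ j) x) = A.res x := fun j => by
    induction j with
    | zero => exact fun _ => rfl
    | succ j ih => intro x; rw [pow_succ', AlgHom.mul_apply, res_app]; exact ih x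
  let ρ : A →ₐ[Λ] A :=
    { toFun := ρf
      map_one' := (huniq 1 1 ⟨⟨1, (map_one g).symm⟩, rfl⟩).symm
      map_mul' := fun a b => (huniq (a * b) _ ⟨by
        obtain ⟨y, hy⟩ := (hρ a).1
        obtain ⟨z, hz⟩ := (hρ b).1
        exact ⟨y * z, by rw [hy, hz, map_mul]⟩, by
        rw [map_mul, (hρ a).2, (hρ b).2, map_mul]⟩).symm
      map_zero' := (huniq 0 0 ⟨⟨0, (map_zero g).symm⟩, rfl⟩).symm
      map_add' := fun a b => (huniq (a + b) _ ⟨by
        obtain ⟨y, hy⟩ := (hρ a).1
        obtain ⟨z, hz⟩ := (hρ b).1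
        exact ⟨y + z, by rw [hy, hz, map_add]⟩, by
        rw [map_add, (hρ a).2, (hρ b).2, map_add]⟩).symm
      commutes' := fun r => (huniq _ _ ⟨⟨algebraMap Λ A r, (g.commutes r).symm⟩, rfl⟩).symm }
  refine ⟨N, ⟨ρ, AlgHom.ext fun x => ?_⟩, fun j hj => ?_⟩
  · change A.res (ρf x) = A.res x
    rw [← hres N (ρf x)]
    exact (congrArg A.res (hρ x).2).trans (hres N x)
  · have hr : LinearMap.range (f ^ N) = LinearMap.range (f ^ j) :=
      (hN N le_rfl).2.1.symm.trans (hN j hj).2.1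
    have hk : LinearMap.ker (f ^ N) = LinearMap.ker (f ^ j) :=
      (hN N le_rfl).2.2.symm.trans (hN j hj).2.2
    refine ⟨fun x => ?_, fun x => ?_, fun x hx => ?_⟩
    · obtain ⟨y, hy⟩ := (hρ x).1
      obtain ⟨z, hz⟩ : (f ^ N) y ∈ LinearMap.range (f ^ j) := hr ▸ ⟨y, rfl⟩
      exact ⟨z, hy.trans ((hf N y).symm.trans (hz.symm.trans (hf j z)))⟩
    · have h : ρf x - x ∈ LinearMap.ker (f ^ N) := by
        rw [LinearMap.mem_ker, map_sub, sub_eq_zero, hf, hf]
        exact (hρ x).2
      rw [hk, LinearMap.mem_ker, map_sub, sub_eq_zero, hf, hf] at h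
      exact h
    · refine (Submodule.disjoint_def.mp (hN j hj).1.disjoint) _ ?_ ⟨x, hf j x⟩
      rw [LinearMap.mem_ker, hf]
      exact hx

variable {F : Art Λ k ⥤ Type v}

/-- An endomorphism preserving a family gives an idempotent one, surjective only if the first is. -/
theorem exists_idempotent {R : CRing Λ k} (ξ : Family R.carrier R.res F)
    (e : R.carrier →ₐ[Λ] R.carrier) (he : R.res.comp e = R.res)
    (hξ : (ξ.along e he).toFormalElt = ξ.toFormalElt) :
    ∃ (ρ : R.carrier →ₐ[Λ] R.carrier) (hρ : R.res.comp ρ = R.res),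
      (∀ x, ρ (ρ x) = ρ x) ∧ (ξ.along ρ hρ).toFormalElt = ξ.toFormalElt ∧
      ((∀ x, ρ x = x) → Function.Surjective e) := by
  let E : ∀ n, R.trunc n ⟶ R.trunc n := fun n => CRing.truncMapOfHom e he n
  choose N ρ hρ using fun n => exists_retraction (R.trunc n) (E n)
  have hE : ∀ n x, (R.truncMap n) ((E (n + 1)) x) = E n (R.truncMap n x) := fun n x => by
    obtain ⟨a, rfl⟩ := Ideal.Quotient.mk_surjective x
    rfl
  have hEj : ∀ n j x, R.truncMap n (((E (n + 1)).toAlgHom ^ j) x) =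
      ((E n).toAlgHom ^ j) (R.truncMap n x) := fun n j => by
    induction j with
    | zero => exact fun _ => rfl
    | succ j ih => intro x; rw [pow_succ', pow_succ', AlgHom.mul_apply, AlgHom.mul_apply, hE, ih]
  have hinj : ∀ n j, N n ≤ j → ∀ a b, (∃ y, a = ((E n).toAlgHom ^ j) y) →
      (∃ y, b = ((E n).toAlgHom ^ j) y) →
      ((E n).toAlgHom ^ j) a = ((E n).toAlgHom ^ j) b → a = b := by
    rintro n j hj _ _ ⟨y, rfl⟩ ⟨z, rfl⟩ h
    rw [← sub_eq_zero, ← map_sub]
    refine (hρ n j hj).2.2 _ ?_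
    rw [map_sub, map_sub, h, sub_self]
  have hcompat : ∀ n x, R.truncMap n (ρ (n + 1) x) = ρ n (R.truncMap n x) := fun n x => by
    have hj := le_max_left (N n) (N (n + 1))
    have hj' := le_max_right (N n) (N (n + 1))
    refine hinj n _ hj _ _ ?_ ((hρ n _ hj).1 _) ?_
    · obtain ⟨y, hy⟩ := (hρ (n + 1) _ hj').1 x
      exact ⟨R.truncMap n y, by rw [hy, hEj]⟩
    · rw [← hEj, (hρ (n + 1) _ hj').2.1, (hρ n _ hj).2.1, hEj]
  obtain ⟨r, hr, hrn⟩ := exists_hom_of_system R
    (fun n => HomSet.map (ρ n) (R.truncHom n)) (fun n => Subtype.ext (AlgHom.ext fun a => by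
      change R.truncMap n (ρ (n + 1) ((R.truncHom (n + 1)).1 a)) = ρ n ((R.truncHom n).1 a)
      rw [hcompat]
      rfl))
  have hrn' : ∀ n a, (R.truncHom n).1 (r a) = ρ n ((R.truncHom n).1 a) := fun n a =>
    congrArg (fun t : _ →ₐ[Λ] R.trunc n => t a) (hrn n)
  refine ⟨r, hr, fun x => ?_, FormalElt.ext' fun n => ?_, fun hid => ?_⟩
  · refine congrArg (fun t : _ →ₐ[Λ] R.carrier => t x) (hom_ext_of_trunc R (g := r.comp r) (g' := r)
      fun n => AlgHom.ext fun a => ?_)
    change (R.truncHom n).1 (r (r a)) = (R.truncHom n).1 (r a)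
    rw [hrn', hrn']
    exact hinj n (N n) le_rfl _ _ ((hρ n _ le_rfl).1 _) ((hρ n _ le_rfl).1 _)
      ((hρ n _ le_rfl).2.1 _)
  · have hfix : F.map (E n) (ξ.app _ (R.truncHom n)) = ξ.app _ (R.truncHom n) := by
      refine Eq.trans ?_ (congrArg (fun t : FormalElt F R => t.elt n) hξ)
      rw [← ξ.natural]
      exact congrArg (ξ.app _) (Subtype.ext (AlgHom.ext fun a => rfl))
    change ξ.app _ ⟨(R.truncHom n).1.comp r, _⟩ = ξ.app _ (R.truncHom n)
    refine (congrArg (ξ.app _) (Subtype.ext (hrn n) :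
      _ = HomSet.map (ρ n) (R.truncHom n))).trans ?_
    have hP : ∀ j, ∃ P : R.trunc n ⟶ R.trunc n, P.toAlgHom = (E n).toAlgHom ^ j ∧
        F.map P (ξ.app _ (R.truncHom n)) = ξ.app _ (R.truncHom n) := by
      intro j
      induction j with
      | zero => exact ⟨𝟙 _, rfl, map_id_apply' F _⟩
      | succ j ih =>
        obtain ⟨P, hP, hPx⟩ := ih
        refine ⟨P ≫ E n, ?_, by rw [map_comp_apply', hPx, hfix]⟩
        rw [pow_succ', ← hP]
        rfl
    obtain ⟨P, hP, hPx⟩ := hP (N n)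
    have hPρ : P ≫ ρ n = P := Art.hom_ext (AlgHom.ext fun a => by
      change ρ n (P.toAlgHom a) = P.toAlgHom a
      rw [hP]
      exact hinj n _ le_rfl _ _ ((hρ n _ le_rfl).1 _) ⟨a, rfl⟩ ((hρ n _ le_rfl).2.1 _))
    rw [ξ.natural]
    conv_lhs => rw [← hPx]
    rw [← map_comp_apply', hPρ, hPx]
  · haveI := R.isAdicComplete
    have h1 : Function.Surjective (E 1) := fun x => by
      obtain ⟨y, hy⟩ := (hρ 1 (N 1 + 1) (Nat.le_succ _)).1 x
      obtain ⟨a, rfl⟩ := Ideal.Quotient.mk_surjective x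
      refine ⟨((E 1).toAlgHom ^ N 1) y, ?_⟩
      rw [pow_succ', AlgHom.mul_apply] at hy
      refine hy.symm.trans ((hrn' 1 a).symm.trans ?_)
      rw [hid]
      rfl
    have happ : ∀ a, R.res (e a) = R.res a := fun a => congrArg (fun t : _ →ₐ[Λ] k => t a) he
    refine ((tfae_cring R R e he).out 1 0).mp (le_antisymm
      (sup_le ?_ (Ideal.pow_le_self two_ne_zero)) fun b hb => ?_)
    · refine Ideal.map_le_iff_le_comap.mpr fun a ha => ?_
      rw [Ideal.mem_comap, CRing.mem_maximalIdeal_iff, happ]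
      exact (R.mem_maximalIdeal_iff a).mp ha
    · obtain ⟨z, hz⟩ := h1 ((R.truncHom 1).1 b)
      obtain ⟨a, rfl⟩ := Ideal.Quotient.mk_surjective z
      have h2 : e a - b ∈ R.mpow 1 := Ideal.Quotient.eq.mp hz
      rw [CRing.mpow] at h2
      have ham : a ∈ maximalIdeal R.carrier := by
        have h3 := Ideal.pow_le_self two_ne_zero h2
        rw [CRing.mem_maximalIdeal_iff, map_sub, happ, (R.mem_maximalIdeal_iff b).mp hb,
          sub_zero] at h3
        exact (R.mem_maximalIdeal_iff a).mpr h3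
      rw [show b = e a - (e a - b) by ring]
      exact sub_mem (Ideal.mem_sup_left (Ideal.mem_map_of_mem _ ham)) (Ideal.mem_sup_right h2)

end Groth.Agent.H24Art
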