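import Groth.Agent.H24Art.Cotangent
import Groth.Agent.H24Art.Retraction
import Mathlib.RingTheory.Kaehler.Basic
import Mathlib.RingTheory.Etale.Field
import Mathlib.LinearAlgebra.TensorProduct.Tower

/-!
# Essential surjections of Artinian algebras via derivations (helper24)
-/

set_option autoImplicit false
set_option linter.style.haveILetI false
universe u v

open CategoryTheory TensorProduct

namespace Groth.Agent.H24Art.Essential

open ArtFun ArtFun.Art IsLocalRing

variable {Λ : Type u} {k : Type u} [CommRing Λ] [Field k] [Algebra Λ k]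
variable [IsNoetherianRing Λ] [Module.Finite Λ k] {A B : Art Λ k} (f : B ⟶ A)

/-- A surjection all of whose derivations into `k` kill the kernel is essential, and conversely. -/
def KillsKer : Prop :=
  letI : Algebra B k := B.res.toRingHom.toAlgebra
  ∀ (D : Derivation Λ B k) (i : B), f i = 0 → D i = 0

theorem surjective_of_killsKer (hf : KillsKer f) (C : Art Λ k) (g : C ⟶ B)
    (hg : Function.Surjective (g ≫ f)) : Function.Surjective g := by
  letI : Algebra B k := B.res.toRingHom.toAlgebra
  haveI : IsScalarTower Λ B k := IsScalarTower.of_algebraMap_eq fun r => (B.res.commutes r).symm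
  haveI := isPrecomplete_of_isNilpotent (isNilpotent_maximalIdeal C)
  refine surjective_of_cotangent g.toAlgHom.toRingHom (fun s => ?_) ?_
  · obtain ⟨r, hr⟩ := C.res_surjective (B.res s)
    refine ⟨r, ?_⟩
    rw [ArtFun.Art.mem_maximalIdeal_iff, map_sub, sub_eq_zero, ← hr]
    exact (ArtFun.Art.res_app g r).symm
  refine cotangent_eq_of_derivation C.res C.res_surjective B.res_surjective
    g.toAlgHom (AlgHom.ext fun r => ArtFun.Art.res_app g r) fun D hD => Derivation.ext fun b => ?_
  obtain ⟨c, hc⟩ := hg (f b)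
  have h : D (b - g c) = 0 := hf D _ (by rw [map_sub, sub_eq_zero]; exact hc.symm)
  rw [map_sub, hD, sub_zero] at h
  exact h

/-- The constants of a derivation. -/
def constants {R : Type u} [CommRing R] [Algebra Λ R] [Algebra R k] [IsScalarTower Λ R k]
    (D : Derivation Λ R k) : Subalgebra Λ R where
  carrier := {b | D b = 0}
  mul_mem' {a b} ha hb := by
    simp only [Set.mem_setOf_eq] at ha hb ⊢
    rw [D.leibniz, ha, hb, smul_zero, smul_zero, add_zero]
  one_mem' := D.map_one_eq_zero
  add_mem' {a b} ha hb := by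
    simp only [Set.mem_setOf_eq] at ha hb ⊢
    rw [map_add, ha, hb, add_zero]
  zero_mem' := map_zero D
  algebraMap_mem' r := D.map_algebraMap r

theorem killsKer_of_essential (hf : Function.Surjective f)
    (hess : ∀ (C : Art Λ k) (g : C ⟶ B), Function.Surjective (g ≫ f) → Function.Surjective g) :
    KillsKer f := by
  letI : Algebra B k := B.res.toRingHom.toAlgebra
  haveI : IsScalarTower Λ B k := IsScalarTower.of_algebraMap_eq fun r => (B.res.commutes r).symm
  intro D i hi
  by_contra hDi
  let C := constants D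
  have hmem : ∀ b : B, b ∈ C ↔ D b = 0 := fun b => Iff.rfl
  have hsurj : ∀ a : A, ∃ b ∈ C, f b = a := by
    intro a
    obtain ⟨b, rfl⟩ := hf a
    obtain ⟨s, hs⟩ := B.res_surjective (D b / D i)
    have hi0 : B.res i = 0 := by
      rw [← res_app f, hi, map_zero]
    refine ⟨b - s * i, ?_, by rw [map_sub, map_mul, hi, mul_zero, sub_zero]⟩
    rw [hmem, map_sub, D.leibniz, Algebra.smul_def, Algebra.smul_def,
      show algebraMap B k s = B.res s from rfl, show algebraMap B k i = B.res i from rfl, hi0, zero_mul, add_zero,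
      hs, div_mul_cancel₀ _ hDi, sub_self]
  haveI : Nontrivial C := ⟨⟨0, 1, fun h => zero_ne_one (α := B) (congrArg Subtype.val h)⟩⟩
  haveI : IsLocalRing C := by
    have hu : ∀ x : C, IsUnit (x : B) → IsUnit x := by
      intro x hx
      have h := D.leibniz (↑hx.unit⁻¹ : B) (x : B)
      rw [hx.val_inv_mul, D.map_one_eq_zero, (hmem x).mp x.2, smul_zero, zero_add] at h
      refine IsUnit.of_mul_eq_one ⟨(↑hx.unit⁻¹ : B), ?_⟩ (Subtype.ext hx.mul_val_inv)
      rw [hmem]
      have hx0 : algebraMap B k x ≠ 0 := (hx.map (algebraMap B k)).ne_zero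
      rw [Algebra.smul_def] at h
      exact (mul_eq_zero.mp h.symm).resolve_left hx0
    refine IsLocalRing.of_isUnit_or_isUnit_one_sub_self fun x => ?_
    rcases IsLocalRing.isUnit_or_isUnit_one_sub_self (x : B) with h | h
    · exact Or.inl (hu x h)
    · exact Or.inr (hu (1 - x) h)
  haveI : IsArtinianRing C := by
    haveI := isArtinian_art B
    haveI : IsArtinian Λ C := inferInstanceAs (IsArtinian Λ (Subalgebra.toSubmodule C))
    exact isArtinian_of_tower Λ inferInstance
  have hres : Function.Surjective (B.res.comp C.val) := fun c => by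
    obtain ⟨a, rfl⟩ := A.res_surjective c
    obtain ⟨b, hb, rfl⟩ := hsurj a
    exact ⟨⟨b, hb⟩, (res_app f b).symm⟩
  let C₀ : Art Λ k := Art.of C (B.res.comp C.val) hres
  let g : C₀ ⟶ B := homMk C.val rfl
  obtain ⟨c, hc⟩ := hess C₀ g (fun a => by
    obtain ⟨b, hb, rfl⟩ := hsurj a
    exact ⟨⟨b, hb⟩, rfl⟩) i
  exact hDi (hc ▸ (hmem _).mp c.2)

theorem essential_iff :
    (Function.Surjective f ∧ ∀ (C : Art Λ k) (g : C ⟶ B), Function.Surjective (g ≫ f) → Function.Surjective g) ↔
      (Function.Surjective f ∧ KillsKer f) :=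
  ⟨fun h => ⟨h.1, killsKer_of_essential f h.1 h.2⟩, fun h => ⟨h.1, surjective_of_killsKer f h.2⟩⟩

theorem killsKer_iff_finrank (hf : Function.Surjective f) :
    letI : Algebra A k := A.res.toRingHom.toAlgebra
    letI : Algebra B k := B.res.toRingHom.toAlgebra
    KillsKer f ↔ Module.finrank k (k ⊗[B] Ω[B⁄Λ]) = Module.finrank k (k ⊗[A] Ω[A⁄Λ]) := by
  letI algBA : Algebra B A := f.toAlgHom.toRingHom.toAlgebra
  letI : Algebra A k := A.res.toRingHom.toAlgebra
  letI : Algebra B k := B.res.toRingHom.toAlgebra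
  haveI : IsScalarTower Λ A k := IsScalarTower.of_algebraMap_eq fun r => (A.res.commutes r).symm
  haveI : IsScalarTower Λ B k := IsScalarTower.of_algebraMap_eq fun r => (B.res.commutes r).symm
  haveI : IsScalarTower Λ B A := IsScalarTower.of_algebraMap_eq fun r => (f.toAlgHom.commutes r).symm
  haveI : IsScalarTower B A k := IsScalarTower.of_algebraMap_eq fun b => (res_app f b).symm
  haveI := moduleFinite A
  haveI := moduleFinite B
  let ι : Ω[B⁄Λ] →ₗ[B] k ⊗[A] Ω[A⁄Λ] :=
    ((TensorProduct.mk A k Ω[A⁄Λ] 1).restrictScalars B) ∘ₗ KaehlerDifferential.map Λ Λ B A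
  let φ : k ⊗[B] Ω[B⁄Λ] →ₗ[k] k ⊗[A] Ω[A⁄Λ] := ι.liftBaseChange k
  have hφD : ∀ (c : k) b, φ (c ⊗ₜ KaehlerDifferential.D Λ B b) = c ⊗ₜ KaehlerDifferential.D Λ A (f b) := by
    intro c b
    rw [LinearMap.liftBaseChange_tmul]
    simp only [ι, LinearMap.comp_apply, KaehlerDifferential.map_D, LinearMap.restrictScalars_apply,
      TensorProduct.mk_apply, TensorProduct.smul_tmul', smul_eq_mul, mul_one]
    rfl
  have hφ : Function.Surjective φ := by
    intro z
    induction z using TensorProduct.induction_on with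
    | zero => exact ⟨0, map_zero φ⟩
    | add a b ha hb =>
      obtain ⟨a, rfl⟩ := ha; obtain ⟨b, rfl⟩ := hb
      exact ⟨a + b, map_add φ a b⟩
    | tmul c w =>
      obtain ⟨v, rfl⟩ := KaehlerDifferential.map_surjective_of_surjective (R := Λ) (S := Λ) (A := B) (B := A) hf w
      refine ⟨c ⊗ₜ v, ?_⟩
      rw [LinearMap.liftBaseChange_tmul]
      simp [ι, TensorProduct.smul_tmul']
  have hext : ∀ ℓ ℓ' : k ⊗[B] Ω[B⁄Λ] →ₗ[k] k,
      (∀ b, ℓ (1 ⊗ₜ KaehlerDifferential.D Λ B b) = ℓ' (1 ⊗ₜ KaehlerDifferential.D Λ B b)) → ℓ = ℓ' := by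
    intro ℓ ℓ' h
    refine TensorProduct.AlgebraTensorModule.ext fun c w => ?_
    have hc : ∀ w : Ω[B⁄Λ], ℓ (1 ⊗ₜ w) = ℓ' (1 ⊗ₜ w) := by
      intro w
      have hw : w ∈ Submodule.span B (Set.range (KaehlerDifferential.D Λ B)) := by
        rw [KaehlerDifferential.span_range_derivation]; trivial
      induction hw using Submodule.span_induction with
      | mem x hx => obtain ⟨b, rfl⟩ := hx; exact h b
      | zero => simp
      | add x y _ _ hx hy => rw [TensorProduct.tmul_add, map_add, map_add, hx, hy]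
      | smul a x _ hx =>
        rw [TensorProduct.tmul_smul, LinearMap.map_smul_of_tower, LinearMap.map_smul_of_tower, hx]
    rw [show c ⊗ₜ[B] w = c • ((1 : k) ⊗ₜ[B] w) by rw [TensorProduct.smul_tmul', smul_eq_mul, mul_one],
      map_smul, map_smul, hc]
  have hinj : KillsKer f ↔ Function.Injective φ := by
    constructor
    · intro hk
      refine (injective_iff_map_eq_zero φ).mpr fun z hz => ?_
      refine (Module.forall_dual_apply_eq_zero_iff k z).mp fun ℓ => ?_
      let D : Derivation Λ B k :=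
        ((ℓ.restrictScalars B) ∘ₗ TensorProduct.mk B k Ω[B⁄Λ] 1).compDer (KaehlerDifferential.D Λ B)
      have hker : ∀ b b', f b = f b' → D b = D b' := fun b b' h => by
        have := hk D (b - b') (by rw [map_sub, h, sub_self])
        rwa [map_sub, sub_eq_zero] at this
      let D' : Derivation Λ A k := Derivation.mk'
        { toFun := fun a => D (Function.surjInv hf a)
          map_add' := fun x y => by
            rw [← map_add]
            exact hker _ _ (by simp only [map_add, Function.surjInv_eq hf])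
          map_smul' := fun r x => by
            rw [RingHom.id_apply, ← Derivation.map_smul]
            exact hker _ _ (by simp only [map_smul, Function.surjInv_eq hf]) }
        fun x y => by
          change D _ = x • D _ + y • D _
          rw [hker _ (Function.surjInv hf x * Function.surjInv hf y) (by simp only [map_mul, Function.surjInv_eq hf]),
            D.leibniz]
          have hz : ∀ (z : A) (m : k), z • m = Function.surjInv hf z • m := fun z m => by
            rw [← algebraMap_smul A (Function.surjInv hf z) m]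
            exact congrArg (· • m) (Function.surjInv_eq hf z).symm
          rw [hz x, hz y]
      let ℓ' : k ⊗[A] Ω[A⁄Λ] →ₗ[k] k := D'.liftKaehlerDifferential.liftBaseChange k
      have h : ℓ = ℓ' ∘ₗ φ := by
        refine hext _ _ fun b => ?_
        rw [LinearMap.comp_apply, hφD]
        simp only [ℓ', LinearMap.liftBaseChange_tmul, Derivation.liftKaehlerDifferential_comp_D, one_smul]
        exact (hker (Function.surjInv hf (f b)) b (Function.surjInv_eq hf _)).symm
      rw [h, LinearMap.comp_apply, hz, map_zero]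
    · intro hφi D i hi
      let ℓ : k ⊗[B] Ω[B⁄Λ] →ₗ[k] k := D.liftKaehlerDifferential.liftBaseChange k
      have h0 : (1 : k) ⊗ₜ[B] KaehlerDifferential.D Λ B i = 0 :=
        hφi (by rw [hφD, hi, map_zero, TensorProduct.tmul_zero, map_zero])
      have h1 := congrArg ℓ h0
      rw [LinearMap.liftBaseChange_tmul, Derivation.liftKaehlerDifferential_comp_D, one_smul, map_zero] at h1
      exact h1
  rw [hinj]
  constructor
  · intro h
    exact (LinearEquiv.ofBijective φ ⟨h, hφ⟩).finrank_eq
  · intro h
    exact (LinearMap.injective_iff_surjective_of_finrank_eq_finrank h).mpr hφ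

omit [IsNoetherianRing Λ] in
theorem exists_section [Algebra.IsSeparable (↥(algebraMap Λ k).range) k] (B : Art Λ k) :
    ∃ σ : k →+* B ⧸ (Ideal.map (algebraMap Λ B) (RingHom.ker (algebraMap Λ k)) ⊔ maximalIdeal B ^ 2),
      (∀ c b, σ c = Ideal.Quotient.mk _ b → B.res b = c) ∧
      ∀ r : Λ, σ (algebraMap Λ k r) = Ideal.Quotient.mk _ (algebraMap Λ B r) := by
  let K := (algebraMap Λ k).range
  letI : Algebra Λ K := (algebraMap Λ k).rangeRestrict.toAlgebra
  haveI : IsScalarTower Λ K k := IsScalarTower.of_algebraMap_eq (fun _ ↦ rfl)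
  haveI : Module.Finite K k := Module.Finite.of_restrictScalars_finite Λ _ _
  have hF : IsField K := isField_of_isIntegral_of_isField Subtype.val_injective (Field.toIsField k)
  letI : Field K := hF.toField
  haveI : Algebra.FormallyEtale K k := Algebra.FormallyEtale.of_isSeparable K k
  set J := Ideal.map (algebraMap Λ B) (RingHom.ker (algebraMap Λ k)) ⊔ maximalIdeal B ^ 2 with hJdef
  have hJ : J ≤ maximalIdeal B := sup_le
    (((map_kerBase_le B.res B.res_surjective (AlgHom.id Λ B))).trans (Ideal.map_id _).le)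
    (Ideal.pow_le_self two_ne_zero)
  let ψ : K →+* B ⧸ J := RingHom.liftOfRightInverse (algebraMap Λ k).rangeRestrict
    (Function.surjInv (algebraMap Λ k).rangeRestrict_surjective) (Function.rightInverse_surjInv _)
    ⟨(Ideal.Quotient.mk J).comp (algebraMap Λ B), fun r hr => by
      rw [RingHom.mem_ker, RingHom.comp_apply, Ideal.Quotient.eq_zero_iff_mem]
      exact Ideal.mem_sup_left (Ideal.mem_map_of_mem _ (RingHom.mem_ker.mpr (congrArg Subtype.val (RingHom.mem_ker.mp hr))))⟩
  have hψ : ∀ r, ψ ((algebraMap Λ k).rangeRestrict r) = Ideal.Quotient.mk J (algebraMap Λ B r) := fun r =>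
    RingHom.liftOfRightInverse_comp_apply (algebraMap Λ k).rangeRestrict
      (Function.surjInv (algebraMap Λ k).rangeRestrict_surjective) (Function.rightInverse_surjInv _) _ r
  letI : Algebra K (B ⧸ J) := ψ.toAlgebra
  let ρ₀ : B ⧸ J →+* k := Ideal.Quotient.lift J (B.res : B →+* k) fun a ha => (B.mem_maximalIdeal_iff a).mp (hJ ha)
  let ρ : B ⧸ J →ₐ[K] k :=
    { toRingHom := ρ₀
      commutes' := fun c => by
        obtain ⟨r, rfl⟩ := (algebraMap Λ k).rangeRestrict_surjective c
        change ρ₀ (ψ ((algebraMap Λ k).rangeRestrict r)) = _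
        rw [hψ]
        exact B.res.commutes r }
  have hρ : Function.Surjective ρ := fun c => by
    obtain ⟨b, rfl⟩ := B.res_surjective c
    exact ⟨Ideal.Quotient.mk J b, rfl⟩
  have hnil : IsNilpotent (RingHom.ker (ρ : B ⧸ J →+* k)) := by
    refine ⟨2, ?_⟩
    rw [Ideal.zero_eq_bot, eq_bot_iff, pow_two, Ideal.mul_le]
    intro x hx y hy
    obtain ⟨a, rfl⟩ := Ideal.Quotient.mk_surjective x
    obtain ⟨b, rfl⟩ := Ideal.Quotient.mk_surjective y
    rw [← map_mul, Ideal.mem_bot, Ideal.Quotient.eq_zero_iff_mem]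
    refine Ideal.mem_sup_right ?_
    rw [pow_two]
    exact Ideal.mul_mem_mul ((B.mem_maximalIdeal_iff a).mpr hx) ((B.mem_maximalIdeal_iff b).mpr hy)
  let σ := Algebra.FormallySmooth.liftOfSurjective (AlgHom.id K k) ρ hρ hnil
  refine ⟨σ.toRingHom, fun c b hb => ?_, fun r => ?_⟩
  · have h := Algebra.FormallySmooth.liftOfSurjective_apply (AlgHom.id K k) ρ hρ hnil c
    change ρ (σ c) = c at h
    rw [show σ c = Ideal.Quotient.mk J b from hb] at h
    exact h
  · exact (σ.commutes ((algebraMap Λ k).rangeRestrict r)).trans (hψ r)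

omit [IsNoetherianRing Λ] in
theorem exists_derivation_ne_zero [Algebra.IsSeparable (↥(algebraMap Λ k).range) k] (B : Art Λ k) {t : B}
    (ht : t ∈ maximalIdeal B)
    (htJ : t ∉ Ideal.map (algebraMap Λ B) (RingHom.ker (algebraMap Λ k)) ⊔ maximalIdeal B ^ 2) :
    letI : Algebra B k := B.res.toRingHom.toAlgebra
    ∃ D : Derivation Λ B k, D t ≠ 0 ∧
      ∀ b ∈ Ideal.map (algebraMap Λ B) (RingHom.ker (algebraMap Λ k)) ⊔ maximalIdeal B ^ 2, D b = 0 := by
  letI : Algebra B k := B.res.toRingHom.toAlgebra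
  haveI : IsScalarTower Λ B k := IsScalarTower.of_algebraMap_eq fun r => (B.res.commutes r).symm
  set J := Ideal.map (algebraMap Λ B) (RingHom.ker (algebraMap Λ k)) ⊔ maximalIdeal B ^ 2 with hJdef
  obtain ⟨σ, hσρ, hσΛ⟩ : ∃ σ : k →+* B ⧸ J, (∀ c b, σ c = Ideal.Quotient.mk J b → B.res b = c) ∧
      ∀ r : Λ, σ (algebraMap Λ k r) = Ideal.Quotient.mk J (algebraMap Λ B r) := exists_section B
  letI algT : Algebra k (B ⧸ J) := σ.toAlgebra
  let W : Submodule k (B ⧸ J) := LinearMap.range (Algebra.linearMap k (B ⧸ J))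
  have htW : Submodule.Quotient.mk (p := W) (Ideal.Quotient.mk J t) ≠ 0 := by
    rw [ne_eq, Submodule.Quotient.mk_eq_zero]
    rintro ⟨c, hc⟩
    have h0 : c = 0 := (hσρ c t hc).symm.trans ((B.mem_maximalIdeal_iff t).mp ht)
    rw [h0, map_zero] at hc
    exact htJ (Ideal.Quotient.eq_zero_iff_mem.mp hc.symm)
  obtain ⟨l₀, hl₀⟩ := Module.Projective.exists_dual_ne_zero k htW
  let l : (B ⧸ J) →ₗ[k] k := l₀ ∘ₗ W.mkQ
  have hlW : ∀ c : k, l (algebraMap k (B ⧸ J) c) = 0 := fun c => by
    change l₀ (Submodule.Quotient.mk (algebraMap k (B ⧸ J) c)) = 0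
    rw [(Submodule.Quotient.mk_eq_zero W).mpr (⟨c, rfl⟩ : algebraMap k (B ⧸ J) c ∈ W), map_zero]
  have hlmul : ∀ a b : B, l (Ideal.Quotient.mk J (a * b)) =
      B.res a * l (Ideal.Quotient.mk J b) + B.res b * l (Ideal.Quotient.mk J a) := by
    intro a b
    obtain ⟨a', ha'⟩ := Ideal.Quotient.mk_surjective (σ (B.res a))
    obtain ⟨b', hb'⟩ := Ideal.Quotient.mk_surjective (σ (B.res b))
    have ha : a - a' ∈ maximalIdeal B := by
      rw [B.mem_maximalIdeal_iff, map_sub, hσρ _ a' ha'.symm, sub_self]
    have hb : b - b' ∈ maximalIdeal B := by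
      rw [B.mem_maximalIdeal_iff, map_sub, hσρ _ b' hb'.symm, sub_self]
    have h0 : Ideal.Quotient.mk J ((a - a') * (b - b')) = 0 := Ideal.Quotient.eq_zero_iff_mem.mpr
      (Ideal.mem_sup_right (by rw [pow_two]; exact Ideal.mul_mem_mul ha hb))
    rw [map_mul, map_sub, map_sub, ha', hb'] at h0
    have e : Ideal.Quotient.mk J (a * b) = B.res a • Ideal.Quotient.mk J b + B.res b • Ideal.Quotient.mk J a -
        algebraMap k _ (B.res a * B.res b) := by
      rw [Algebra.smul_def, Algebra.smul_def, map_mul, map_mul]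
      change _ = σ (B.res a) * _ + σ (B.res b) * _ - σ (B.res a) * σ (B.res b)
      linear_combination h0
    rw [e, map_sub, map_add, map_smul, map_smul, hlW, sub_zero, smul_eq_mul, smul_eq_mul]
  let D : Derivation Λ B k := Derivation.mk'
    { toFun := fun s => l (Ideal.Quotient.mk J s)
      map_add' := fun x y => by rw [map_add, map_add]
      map_smul' := fun r x => by
        change l (Ideal.Quotient.mk J (r • x)) = r • l (Ideal.Quotient.mk J x)
        rw [Algebra.smul_def, map_mul, ← hσΛ, Algebra.smul_def r (l _), ← smul_eq_mul (algebraMap Λ k r), ← map_smul,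
          Algebra.smul_def (algebraMap Λ k r)]
        rfl }
    fun x y => by
      change l (Ideal.Quotient.mk J (x * y)) =
        x • l (Ideal.Quotient.mk J y) + y • l (Ideal.Quotient.mk J x)
      rw [hlmul, Algebra.smul_def, Algebra.smul_def]
      rfl
  refine ⟨D, hl₀, fun b hb => ?_⟩
  change l (Ideal.Quotient.mk J b) = 0
  rw [Ideal.Quotient.eq_zero_iff_mem.mpr hb, map_zero]

end Groth.Agent.H24Art.Essential
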