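import Groth.Agent.H24Art.Retraction
import Groth.Agent.H24Art.Relative

/-!
Minimal versal families.
-/

universe u v

open CategoryTheory

namespace Groth.Agent.H24Art

open ArtFun ArtFun.Art IsLocalRing

variable {Λ : Type u} {k : Type u} [CommRing Λ] [Field k] [Algebra Λ k]
variable {F : Art Λ k ⥤ Type v}

theorem push_toFormalElt {R' R : CRing Λ k} (η : Family R'.carrier R'.res F)
    (f : R'.carrier →ₐ[Λ] R.carrier) (hf : R.res.comp f = R'.res) :
    η.toFormalElt.push f hf = (η.along f hf).toFormalElt :=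
  FormalElt.ext' fun n => (η.natural _ _).symm.trans
    (congrArg (η.app _) (Subtype.ext (AlgHom.ext fun _ => rfl)))

theorem sub_linear_mem {R : CRing Λ k} {n : ℕ} (s : (pscr R n).carrier) :
    ∃ (a : R.carrier) (c : Fin n → R.carrier),
      s - (psC a + ∑ i, psC (c i) * psX i) ∈ maximalIdeal (pscr R n).carrier ^ 2 ∧
        (pscr R n).res s = R.res a := by
  classical
  refine ⟨MvPowerSeries.constantCoeff s,
    fun i => MvPowerSeries.coeff (Finsupp.single i 1) s, ?_, rfl⟩
  refine mem_pow_of_coeff fun d hd => ?_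
  have hterm : ∀ i, MvPowerSeries.coeff d (psC (R := R) (n := n)
      (MvPowerSeries.coeff (Finsupp.single i 1) s) * psX i) =
      if d = Finsupp.single i 1 then MvPowerSeries.coeff (Finsupp.single i 1) s else 0 := fun i => by
    change MvPowerSeries.coeff d (MvPowerSeries.C _ * MvPowerSeries.X i) = _
    rw [MvPowerSeries.coeff_C_mul, MvPowerSeries.coeff_X]
    split <;> simp
  rw [map_sub, map_add, map_sum]
  simp only [hterm]
  rw [psC_apply, MvPowerSeries.coeff_C]
  by_cases h0 : d = 0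
  · subst h0
    rw [if_pos rfl, Finset.sum_eq_zero fun i _ =>
      if_neg fun h => one_ne_zero ((Finsupp.single_eq_zero).mp h.symm),
      add_zero, MvPowerSeries.coeff_zero_eq_constantCoeff_apply, sub_self]
    exact zero_mem _
  · rw [if_neg h0, zero_add]
    have h1 : Finsupp.degree d = 1 := by
      have : Finsupp.degree d ≠ 0 := fun h => h0 ((Finsupp.degree_eq_zero_iff d).mp h)
      omega
    obtain ⟨i, rfl⟩ : ∃ i, d = Finsupp.single i 1 := by
      obtain ⟨i, hi⟩ := Finsupp.support_nonempty_iff.mpr h0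
      refine ⟨i, ?_⟩
      have hle : Finsupp.single i 1 ≤ d :=
        Finsupp.single_le_iff.mpr (Nat.one_le_iff_ne_zero.mpr (Finsupp.mem_support_iff.mp hi))
      obtain ⟨c, rfl⟩ := exists_add_of_le hle
      rw [map_add, Finsupp.degree_single] at h1
      rw [(Finsupp.degree_eq_zero_iff c).mp (by omega), add_zero]
    rw [Finset.sum_eq_single i (fun j _ hj => if_neg fun h =>
      hj (Finsupp.single_left_injective one_ne_zero h).symm) (fun h => absurd (Finset.mem_univ i) h),
      if_pos rfl, sub_self]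
    exact zero_mem _

attribute [local instance] algK

theorem exists_ps_iso_of_section [IsNoetherianRing Λ] [Module.Finite Λ k] {R R' : CRing Λ k}
    (ξ : Family R.carrier R.res F) (hξ : IsVersal ξ) (π : R.carrier →ₐ[Λ] R'.carrier)
    (hπ : R'.res.comp π = R.res) (g : R'.carrier →ₐ[Λ] R.carrier) (hg : R.res.comp g = R'.res)
    (hπg : ∀ a, π (g a) = a)
    (hpres : ((ξ.along π hπ).along g hg).toFormalElt = ξ.toFormalElt) :
    ∃ (n : ℕ) (e : R.carrier ≃ₐ[Λ] MvPowerSeries (Fin n) R'.carrier),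
      ∀ a, e (g a) = MvPowerSeries.C a := by
  let W : Submodule k (Derivation Λ R.carrier k) :=
    { carrier := {D | ∀ r, D (g r) = 0}
      add_mem' := fun {D E} hD hE r => by rw [Derivation.add_apply, hD, hE, add_zero]
      zero_mem' := fun r => rfl
      smul_mem' := fun c D hD r => by rw [Derivation.smul_apply, hD, smul_zero] }
  have hgres : ∀ a, R.res (g a) = R'.res a := fun a => congrArg (fun t : _ →ₐ[Λ] k => t a) hg
  obtain ⟨n, y, hy, hyW, hyc⟩ := exists_coordinates R W fun D hD h => Derivation.ext fun s => by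
    obtain ⟨r, hr⟩ := R'.res_surjective (R.res s)
    have h2 : s - g r ∈ maximalIdeal R.carrier := by
      rw [R.mem_maximalIdeal_iff, map_sub, ← hr, hgres, sub_self]
    have h3 := h _ h2
    rw [map_sub, hD r, sub_zero] at h3
    exact h3
  have hy0 : ∀ i, R.res (y i) = 0 := fun i => (R.mem_maximalIdeal_iff _).mp (hy i)
  obtain ⟨Φ, hΦ, hΦC, hΦX⟩ := ps_exists_hom R g hg y hy0
  have hΦC' : ∀ a, Φ (psC a) = g a := fun a => congrArg (fun t : _ →ₐ[Λ] R.carrier => t a) hΦC
  have hΦs : Function.Surjective Φ := surjective_of_der _ _ Φ hΦ fun D hD => hyW D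
    (fun r => by rw [← hΦC']; exact hD (psC r)) (fun i => by rw [← hΦX i]; exact hD (psX i))
  let T := pscr R' n
  have hmapT : maximalIdeal R.carrier ≤ (maximalIdeal T.carrier).map Φ := fun b hb => by
    obtain ⟨a, rfl⟩ := hΦs b
    refine Ideal.mem_map_of_mem _ ((T.mem_maximalIdeal_iff a).mpr ?_)
    refine (congrArg (fun t : _ →ₐ[Λ] k => t a) hΦ).symm.trans ?_
    exact (R.mem_maximalIdeal_iff _).mp hb
  choose D hD hDy using fun i : Fin n => hyc (fun j => if i = j then 1 else 0)
  have hker : ∀ s : T.carrier, Φ s = 0 → s ∈ maximalIdeal T.carrier ^ 2 := by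
    intro s hs
    obtain ⟨a, c, hac, hres⟩ := sub_linear_mem (R := R') (n := n) s
    have h2 : g a + ∑ i, g (c i) * y i ∈ maximalIdeal R.carrier ^ 2 := by
      have h := Ideal.mem_map_of_mem Φ hac
      rw [Ideal.map_pow] at h
      have h' := Ideal.pow_right_mono (Ideal.map_le_iff_le_comap.mpr
        (CRing.maximalIdeal_le_comap (R' := T) (R := R) Φ hΦ)) 2 h
      rw [map_sub, hs, zero_sub, map_add, map_sum, neg_mem_iff] at h'
      simp only [map_mul, hΦC', hΦX] at h'
      exact h'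
    have hcm : ∀ i, c i ∈ maximalIdeal R'.carrier := fun i => by
      have hzero : ∀ z ∈ maximalIdeal R.carrier ^ 2, D i z = 0 := fun z hz => by
        rw [sq] at hz
        refine Submodule.mul_induction_on hz (fun p hp q hq => ?_)
          fun p q hp hq => by rw [map_add, hp, hq, add_zero]
        rw [(D i).leibniz, smul_algK, smul_algK, (R.mem_maximalIdeal_iff _).mp hp,
          (R.mem_maximalIdeal_iff _).mp hq, zero_mul, zero_mul, add_zero]
      have h := hzero _ h2
      rw [map_add, hD i a, zero_add, map_sum, Finset.sum_eq_single i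
        (fun j _ hj => by rw [(D i).leibniz, smul_algK, smul_algK, hD i (c j), hDy,
          if_neg fun h => hj h.symm, mul_zero, mul_zero, add_zero])
        (fun hni => absurd (Finset.mem_univ i) hni)] at h
      rw [(D i).leibniz, smul_algK, smul_algK, hD i (c i), hDy, if_pos rfl, mul_zero, add_zero,
        mul_one, hgres] at h
      exact (R'.mem_maximalIdeal_iff _).mpr h
    have hga : g a ∈ maximalIdeal R.carrier ^ 2 := by
      have hsum : ∑ i, g (c i) * y i ∈ maximalIdeal R.carrier ^ 2 := by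
        refine Submodule.sum_mem _ fun i _ => ?_
        rw [sq]
        refine Ideal.mul_mem_mul ?_ (hy i)
        rw [R.mem_maximalIdeal_iff, hgres]
        exact (R'.mem_maximalIdeal_iff _).mp (hcm i)
      have := sub_mem h2 hsum
      rwa [add_sub_cancel_right] at this
    have ha : a ∈ maximalIdeal R'.carrier ^ 2 := by
      have h := Ideal.mem_map_of_mem π hga
      rw [Ideal.map_pow, hπg] at h
      exact Ideal.pow_right_mono (Ideal.map_le_iff_le_comap.mpr
        (CRing.maximalIdeal_le_comap (R' := R) (R := R') π hπ)) 2 h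
    have hle : (maximalIdeal R'.carrier).map (psC (n := n)) ≤ maximalIdeal T.carrier :=
      Ideal.map_le_iff_le_comap.mpr
        (CRing.maximalIdeal_le_comap (R' := R') (R := T) psC res_psC)
    have hlin : psC a + ∑ i, psC (c i) * psX i ∈ maximalIdeal T.carrier ^ 2 := by
      refine add_mem ?_ (Submodule.sum_mem _ fun i _ => ?_)
      · have h := Ideal.mem_map_of_mem (psC (n := n)) ha
        rw [Ideal.map_pow] at h
        exact Ideal.pow_right_mono hle 2 h
      · rw [sq]
        exact Ideal.mul_mem_mul (hle (Ideal.mem_map_of_mem _ (hcm i)))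
          ((T.mem_maximalIdeal_iff _).mpr (res_psX i))
    have := add_mem hac hlin
    rwa [sub_add_cancel] at this
  let P : T.trunc 1 ⟶ R.trunc 1 := CRing.truncMapOfHom Φ hΦ 1
  have hPb : Function.Bijective P := by
    refine ⟨(injective_iff_map_eq_zero P.toAlgHom).mpr fun z hz => ?_, fun z => ?_⟩
    · obtain ⟨s, rfl⟩ := Ideal.Quotient.mk_surjective z
      have h1 : Φ s ∈ maximalIdeal R.carrier ^ 2 := Ideal.Quotient.eq_zero_iff_mem.mp hz
      have h2 := Ideal.pow_right_mono hmapT 2 h1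
      rw [← Ideal.map_pow, Ideal.mem_map_iff_of_surjective _ hΦs] at h2
      obtain ⟨s', hs', hΦs'⟩ := h2
      refine Ideal.Quotient.eq_zero_iff_mem.mpr ?_
      have h3 := hker (s - s') (by rw [map_sub, hΦs', sub_self])
      have := add_mem h3 hs'
      rwa [sub_add_cancel] at this
    · obtain ⟨b, rfl⟩ := Ideal.Quotient.mk_surjective z
      obtain ⟨a, rfl⟩ := hΦs b
      exact ⟨Ideal.Quotient.mk _ a, rfl⟩
  haveI := isIso_of_bijective P hPb
  let cT : ∀ m, F.obj (T.trunc m) := fun m => (ξ.along π hπ).app _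
    ⟨(T.truncHom m).1.comp psC, by rw [← AlgHom.comp_assoc, (T.truncHom m).2, res_psC]⟩
  let q : HomSet R.carrier R.res (T.trunc 1) := HomSet.map (inv P) (R.truncHom 1)
  have hq : ξ.app _ q = cT 1 := by
    refine (map_bijective_of_isIso F P).injective ?_
    rw [← ξ.natural]
    refine Eq.trans ?_ ((ξ.along π hπ).natural P _)
    have h1 : HomSet.map P q = R.truncHom 1 := Subtype.ext (AlgHom.ext fun a => by
      change (inv P ≫ P) ((R.truncHom 1).1 a) = (R.truncHom 1).1 a
      rw [IsIso.inv_hom_id]; rfl)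
    rw [h1]
    refine ((congrArg (fun t : FormalElt F R => t.elt 1) hpres).symm.trans ?_)
    refine congrArg ((ξ.along π hπ).app _) (Subtype.ext (AlgHom.ext fun a => ?_))
    change (R.truncHom 1).1 (g a) = (R.truncHom 1).1 (Φ (psC a))
    rw [hΦC']
  have step : ∀ (m : ℕ) (φ : {φ : HomSet R.carrier R.res (T.trunc m) // ξ.app _ φ = cT m}),
      ∃ φ' : {φ : HomSet R.carrier R.res (T.trunc (m + 1)) // ξ.app _ φ = cT (m + 1)},
        HomSet.map (T.truncMap m) φ'.1 = φ.1 := by
    rintro m ⟨φ, hφ⟩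
    obtain ⟨ψ, h₁, h₂⟩ := hξ (T.truncMap m) (truncMap_surjective T m) φ (cT (m + 1))
      ((((ξ.along π hπ).natural (T.truncMap m) _).symm.trans
        (congrArg ((ξ.along π hπ).app _) (Subtype.ext (AlgHom.ext fun r => rfl)))).trans hφ.symm)
    exact ⟨⟨ψ, h₂⟩, h₁⟩
  choose st hst using step
  let φ : ∀ m, {φ : HomSet R.carrier R.res (T.trunc (m + 1)) // ξ.app _ φ = cT (m + 1)} :=
    Nat.rec (motive := fun m => {φ : HomSet R.carrier R.res (T.trunc (m + 1)) //
      ξ.app _ φ = cT (m + 1)}) ⟨q, hq⟩ (fun m x => st (m + 1) x)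
  let φ' : ∀ m, HomSet R.carrier R.res (T.trunc m)
    | 0 => HomSet.map (T.truncMap 0) (φ 0).1
    | m + 1 => (φ m).1
  obtain ⟨ψ, hψ, hψm⟩ := exists_hom_of_system T φ' (fun m => by
    cases m with
    | zero => rfl
    | succ m => exact hst (m + 1) (φ m))
  have hψΦ : (pscr R' n).res.comp (ψ.comp Φ) = (pscr R' n).res := by
    rw [← AlgHom.comp_assoc, hψ, hΦ]
  have h1 : ∀ s, (T.truncHom 1).1 (ψ (Φ s)) = (T.truncHom 1).1 s := fun s => by
    refine (congrArg (fun t : _ →ₐ[Λ] T.trunc 1 => t (Φ s)) (hψm 1)).trans ?_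
    change (P ≫ inv P) ((T.truncHom 1).1 s) = (T.truncHom 1).1 s
    rw [IsIso.hom_inv_id]; rfl
  have hbij : Function.Bijective (ψ.comp Φ) := bijective_of_tangent_injective _ hψΦ fun a b hab => by
    have key : ∀ (a : HomSet T.carrier T.res (dual Λ k)) (s : T.carrier),
        a.1 (ψ (Φ s)) = a.1 s := fun a s => by
      have hle : T.mpow 1 ≤ RingHom.ker a.1 := by
        rw [CRing.mpow, sq, Ideal.mul_le]
        intro p hp q' hq'
        rw [RingHom.mem_ker, map_mul]
        refine TrivSqZeroExt.ext ?_ ?_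
        · refine (TrivSqZeroExt.fst_mul _ _).trans ?_
          exact (congrArg (· * _) ((fst_homSet a p).trans ((T.mem_maximalIdeal_iff p).mp hp))).trans
            (zero_mul _)
        · refine (TrivSqZeroExt.snd_mul _ _).trans ?_
          refine Eq.trans ?_ (zero_add (0 : k))
          exact congrArg₂ (· + ·)
            ((congrArg (fun c : k => c • _) ((fst_homSet a p).trans
              ((T.mem_maximalIdeal_iff p).mp hp))).trans (zero_smul k _))
            ((congrArg (fun c : k => MulOpposite.op c • _) ((fst_homSet a q').trans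
              ((T.mem_maximalIdeal_iff q').mp hq'))).trans (by simp))
      have h := map_truncLift a 1 hle
      rw [← h]
      exact congrArg (truncLift a 1 hle) (h1 s)
    refine Subtype.ext (AlgHom.ext fun s => ?_)
    rw [← key a s, ← key b s]
    exact congrArg (fun t : _ →ₐ[Λ] dual Λ k => t s) hab
  have hΦb : Function.Bijective Φ := ⟨fun a b h => hbij.1 (congrArg ψ h), hΦs⟩
  refine ⟨n, (AlgEquiv.ofBijective Φ hΦb).symm, fun r => ?_⟩
  rw [AlgEquiv.symm_apply_eq]
  exact (hΦC' r).symm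

theorem exists_minimal_versal [IsNoetherianRing Λ] [Module.Finite Λ k] (h0 : H0 F)
    {R : CRing Λ k} (ξ : Family R.carrier R.res F) (hξ : IsVersal ξ) :
    ∃ (R' : CRing Λ k) (π : R.carrier →ₐ[Λ] R'.carrier) (hπ : R'.res.comp π = R.res)
      (g : R'.carrier →ₐ[Λ] R.carrier) (hg : R.res.comp g = R'.res), (∀ a, π (g a) = a) ∧
      (ξ.along π hπ).IsMinimalVersal ∧
      ((ξ.along π hπ).along g hg).toFormalElt = ξ.toFormalElt := by
  classical
  let S : Set (Ideal R.carrier) := {I | ∃ (ρ : R.carrier →ₐ[Λ] R.carrier) (hρ : R.res.comp ρ = R.res),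
    (∀ x, ρ (ρ x) = ρ x) ∧ (ξ.along ρ hρ).toFormalElt = ξ.toFormalElt ∧ RingHom.ker ρ = I}
  obtain ⟨I, ⟨ρ₀, hρ₀, hid, hpres, rfl⟩, hmax⟩ :=
    set_has_maximal_iff_noetherian.mpr (inferInstance : IsNoetherianRing R.carrier) S
      ⟨_, AlgHom.id Λ _, AlgHom.comp_id _, fun _ => rfl,
        FormalElt.ext' fun _ => congrArg (ξ.app _) (Subtype.ext (AlgHom.ext fun _ => rfl)), rfl⟩
  have hρres : ∀ a, R.res (ρ₀ a) = R.res a := fun a => congrArg (fun t : _ →ₐ[Λ] k => t a) hρ₀
  obtain ⟨R', π, hπ, hπs, hπk⟩ := exists_quotient_cring R (RingHom.ker ρ₀) fun a ha => by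
    rw [R.mem_maximalIdeal_iff, ← hρres, RingHom.mem_ker.mp ha, map_zero]
  let g : R'.carrier →ₐ[Λ] R.carrier := AlgHom.liftOfSurjective π hπs ρ₀ hπk.le
  have hgπ : ∀ x, g (π x) = ρ₀ x := fun x => AlgHom.liftOfSurjective_apply π hπs ρ₀ hπk.le x
  have hπg : ∀ a, π (g a) = a := fun a => by
    obtain ⟨x, rfl⟩ := hπs a
    rw [hgπ, ← sub_eq_zero, ← map_sub, ← RingHom.mem_ker, hπk, RingHom.mem_ker, map_sub, hid,
      sub_self]
  have hg : R.res.comp g = R'.res := AlgHom.ext fun a => by
    obtain ⟨x, rfl⟩ := hπs a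
    rw [AlgHom.comp_apply, hgπ, hρres]
    exact (congrArg (fun t : _ →ₐ[Λ] k => t x) hπ).symm
  have hρφ : ∀ (A : Art Λ k) (φ φ' : HomSet R.carrier R.res A),
      (∀ x, φ.1 (ρ₀ x) = φ'.1 x) → ξ.app A φ = ξ.app A φ' := fun A φ φ' h => by
    rw [← family_app_eq hpres A φ]
    exact congrArg (ξ.app A) (Subtype.ext (AlgHom.ext h))
  have hpres' : ((ξ.along π hπ).along g hg).toFormalElt = ξ.toFormalElt :=
    FormalElt.ext' fun n => by
      change ξ.app _ _ = ξ.app _ _
      refine Eq.trans ?_ (congrArg (fun t : FormalElt F R => t.elt n) hpres)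
      exact congrArg (ξ.app _) (Subtype.ext (AlgHom.ext fun x =>
        congrArg (R.truncHom n).1 (hgπ x)))
  have hv : IsVersal (ξ.along π hπ) := by
    intro B A μ hμ φ y hy
    obtain ⟨ψ, hψ, hψy⟩ := hξ μ hμ ⟨φ.1.comp π, by rw [← AlgHom.comp_assoc, φ.2, hπ]⟩ y hy
    refine ⟨⟨ψ.1.comp g, by rw [← AlgHom.comp_assoc, ψ.2, hg]⟩,
      Subtype.ext (AlgHom.ext fun a => ?_), ?_⟩
    · exact (congrArg (fun t : HomSet R.carrier R.res A => t.1 (g a)) hψ).trans
        (congrArg φ.1 (hπg a))
    · rw [← hψy]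
      change ξ.app B ⟨(ψ.1.comp g).comp π, _⟩ = ξ.app B ψ
      exact (hρφ B ψ ⟨(ψ.1.comp g).comp π, by
          rw [AlgHom.comp_assoc, ← AlgHom.comp_assoc, ψ.2, ← AlgHom.comp_assoc, hg, hπ]⟩
        fun x => congrArg ψ.1 (hgπ x).symm).symm
  refine ⟨R', π, hπ, g, hg, hπg, ⟨hv, fun R₁ u f hf hu => ?_⟩, hpres'⟩
  obtain ⟨h, hh, hhu⟩ := exists_along (S := R₁) h0 (ξ.along π hπ) hv u
  rw [← hhu, push_toFormalElt] at hu
  have he : R'.res.comp (f.comp h) = R'.res := by rw [← AlgHom.comp_assoc, hf, hh]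
  have he' : ((ξ.along π hπ).along (f.comp h) he).toFormalElt = (ξ.along π hπ).toFormalElt := hu
  obtain ⟨r, hr, hrid, hrpres, hrs⟩ := exists_idempotent (ξ.along π hπ) (f.comp h) he he'
  by_cases hall : ∀ x, r x = x
  · exact fun b => by
      obtain ⟨a, ha⟩ := hrs hall b
      exact ⟨h a, ha⟩
  · exfalso
    obtain ⟨x₁, hx₁⟩ := not_forall.mp hall
    let ρ₂ : R.carrier →ₐ[Λ] R.carrier := g.comp (r.comp π)
    have hρ₂ : R.res.comp ρ₂ = R.res := by
      rw [← AlgHom.comp_assoc, hg, ← AlgHom.comp_assoc, hr, hπ]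
    refine hmax _ ⟨ρ₂, hρ₂, fun x => ?_, FormalElt.ext' fun n => ?_, rfl⟩
      (lt_of_le_of_ne (fun x hx => ?_) fun heq => ?_)
    · change g (r (π (g (r (π x))))) = g (r (π x))
      rw [hπg, hrid]
    · refine Eq.trans ?_ (congrArg (fun t : FormalElt F R => t.elt n) hpres')
      change ξ.app _ _ = ξ.app _ _
      let φ : HomSet R'.carrier R'.res (R.trunc n) :=
        ⟨(R.truncHom n).1.comp g, by rw [← AlgHom.comp_assoc, (R.truncHom n).2, hg]⟩
      exact (congrArg (ξ.app _) (Subtype.ext (AlgHom.ext fun _ => rfl))).trans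
        ((family_app_eq hrpres _ φ).trans
          (congrArg (ξ.app _) (Subtype.ext (AlgHom.ext fun _ => rfl))))
    · have h1 : π x = 0 := by rw [← RingHom.mem_ker, hπk]; exact hx
      rw [RingHom.mem_ker]
      change g (r (π x)) = 0
      rw [h1, map_zero, map_zero]
    · have h1 : g (x₁ - r x₁) ∈ RingHom.ker ρ₂ := by
        rw [RingHom.mem_ker]
        change g (r (π (g (x₁ - r x₁)))) = 0
        rw [hπg, map_sub r, hrid, sub_self, map_zero]
      rw [← heq, ← hπk, RingHom.mem_ker, hπg, sub_eq_zero] at h1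
      exact hx₁ h1.symm

end Groth.Agent.H24Art
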