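import Groth.Agent.H24Art.Point
import Groth.Agent.H24Obs.Presentation

/-!
# Dimension estimates for a pro-representing ring
-/

set_option autoImplicit false
set_option linter.style.haveILetI false
universe u v
open CategoryTheory ArtFun ArtFun.Art IsLocalRing

namespace Groth.Agent.H24Art

variable {k : Type u} [Field k] {F : Art k k ⥤ Type v}

/-- An obstruction theory of a pro-represented functor is one of the ring. -/
theorem nonempty_obsTheory_hR (R : ProRep F) {V : Type u} [AddCommGroup V] [Module k V] (T : ObsTheory F V) :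
    HasObsTheory (hR R.ring.carrier R.ring.res) V :=
  ⟨{ obs := fun {C' C} p hp φ => T.obs p hp (R.family.app C φ)
     obs_eq_zero_iff := fun {C' C} p hp φ => by
       rw [T.obs_eq_zero_iff]
       constructor
       · rintro ⟨y, hy⟩
         obtain ⟨ψ, rfl⟩ := (R.universal C').2 y
         exact ⟨ψ, (R.universal C).1 ((R.family.natural p ψ).trans hy)⟩
       · rintro ⟨ψ, hψ⟩
         exact ⟨R.family.app C' ψ, (R.family.natural p ψ).symm.trans (congrArg (R.family.app C) hψ)⟩
     obs_quot := fun {C' C} p hp K hK hKJ hq φ => T.obs_quot p hp K hK hKJ hq _ }⟩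

/-- The embedding dimension of a pro-representing ring. -/
theorem finrank_cotangent_proRep (R : ProRep F) [TangentStr F] :
    Module.finrank (ResidueField R.ring.carrier) (CotangentSpace R.ring.carrier) = Module.finrank k (TangentSpace F) :=
  finrank_cotangentSpace_eq_tangent R.family R.ring.res_surjective R.universal

/-- A coefficient ring of maximal dimension is a power series ring, so its functor is smooth. -/
theorem isSmoothFunctor_hR_of_dim (C : CRing k k)
    (h : ringKrullDim C.carrier = (Module.finrank (ResidueField C.carrier) (CotangentSpace C.carrier) : WithBot ℕ∞)) :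
    IsSmoothFunctor (hR C.carrier C.res) := by
  obtain ⟨d, π, hπ, hker⟩ := H24Obs.exists_presentation C
  haveI := H02CA.PS.isRegularLocalRing_fin (k := k) d
  have hdim : ringKrullDim (MvPowerSeries (Fin d) k) = ringKrullDim C.carrier := by
    rw [h, ← spanFinrank_maximalIdeal_eq_finrank_cotangentSpace,
      H24Obs.spanFinrank_maximalIdeal_eq (π : MvPowerSeries (Fin d) k →+* C.carrier) hπ hker,
      IsRegularLocalRing.spanFinrank_maximalIdeal]
  have hinj : Function.Injective π := by
    rw [injective_iff_map_eq_zero]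
    intro r hr
    by_contra hr0
    have h1 := ringKrullDim_succ_le_of_surjective (π : MvPowerSeries (Fin d) k →+* C.carrier) hπ
      (mem_nonZeroDivisors_of_ne_zero hr0) hr
    rw [hdim, h] at h1
    norm_cast at h1
    omega
  let e := AlgEquiv.ofBijective π ⟨hinj, hπ⟩
  intro B A p hp φ
  obtain ⟨χ, hχ, hχp⟩ := H24Obs.exists_lift C.res π p hp φ
  refine ⟨⟨χ.comp (e.symm : C.carrier →ₐ[k] MvPowerSeries (Fin d) k), ?_⟩, Subtype.ext (AlgHom.ext fun c => ?_)⟩
  · refine AlgHom.ext fun c => ?_
    obtain ⟨s, rfl⟩ := hπ c
    show B.res (χ (e.symm (π s))) = C.res (π s)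
    rw [show e.symm (π s) = s from e.symm_apply_apply s]
    exact (AlgHom.congr_fun hχ s).trans (AlgHom.congr_fun (H24Obs.algHom_to_k (C.res.comp π)) s).symm
  · obtain ⟨s, rfl⟩ := hπ c
    show p (χ (e.symm (π s))) = φ.1 (π s)
    rw [show e.symm (π s) = s from e.symm_apply_apply s, hχp]

/-- Estimates for a pro-representing ring. -/
theorem estimates_proRep (R : ProRep F) [TangentStr F] (V : Type u) [AddCommGroup V] [Module k V] [Module.Finite k V]
    (T : HasObsTheory F V) :
    ringKrullDim R.ring.carrier ≤ (Module.finrank k (TangentSpace F) : WithBot ℕ∞) ∧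
      (Module.finrank k (TangentSpace F) : WithBot ℕ∞) ≤
        ringKrullDim R.ring.carrier + (Module.finrank k V : WithBot ℕ∞) ∧
      (ringKrullDim R.ring.carrier = (Module.finrank k (TangentSpace F) : WithBot ℕ∞) ↔ IsSmoothFunctor F) := by
  obtain ⟨d, π, hπ, hker⟩ := H24Obs.exists_presentation R.ring
  obtain ⟨T⟩ := T
  obtain ⟨T'⟩ := nonempty_obsTheory_hR R T
  haveI := H02CA.PS.isRegularLocalRing_fin (k := k) d
  obtain ⟨h1, h2, -, -⟩ := H24Obs.estimates (π : MvPowerSeries (Fin d) k →+* R.ring.carrier) hπ hker _
    (H24Obs.spanFinrank_le_of_obsTheory_fun R.ring.res π hπ hker V T')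
  rw [finrank_cotangent_proRep R] at h1 h2
  have hiff := isSmoothFunctor_iff_of_isVersal (h0_of_isUniversal R.family R.universal) R.family
    (isVersal_of_isUniversal R.family R.universal)
  refine ⟨h1, h2, fun h => hiff.2 (isSmoothFunctor_hR_of_dim R.ring ?_), fun h => ?_⟩
  · rw [finrank_cotangent_proRep R, h]
  · haveI := isRegularLocalRing_of_smooth R.ring (hiff.1 h)
    rw [← finrank_cotangent_proRep R, ← spanFinrank_maximalIdeal_eq_finrank_cotangentSpace,
      IsRegularLocalRing.spanFinrank_maximalIdeal]

end Groth.Agent.H24Art
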