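import Groth.Agent.H24Art.Tangent
import Groth.Prelude.Def_ArtFun5
import Mathlib.RingTheory.AdicCompletion.RingHom
import Mathlib.RingTheory.Filtration

/-!
Families over a coefficient ring and formal elements; lifting along versal families.
-/

universe u v

open CategoryTheory

namespace Groth.Agent.H24Art

open ArtFun ArtFun.Art IsLocalRing

variable {Λ : Type u} {k : Type u} [CommRing Λ] [Field k] [Algebra Λ k]
variable {R : CRing Λ k} {F : Art Λ k ⥤ Type v}

theorem truncMap_surjective (R : CRing Λ k) (n : ℕ) : Function.Surjective (R.truncMap n) := fun a => by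
  obtain ⟨a, rfl⟩ := Ideal.Quotient.mk_surjective a
  exact ⟨Ideal.Quotient.mk _ a, rfl⟩

theorem truncHom_surjective (R : CRing Λ k) (n : ℕ) : Function.Surjective (R.truncHom n).1 :=
  Ideal.Quotient.mk_surjective

theorem mpow_le_ker {A : Art Λ k} (φ : HomSet R.carrier R.res A) :
    ∃ n, R.mpow n ≤ RingHom.ker φ.1 := by
  obtain ⟨n, hn⟩ := isNilpotent_maximalIdeal A
  refine ⟨n, ?_⟩
  intro r hr
  have h1 : (maximalIdeal R.carrier).map φ.1 ≤ maximalIdeal A := by
    rw [Ideal.map_le_iff_le_comap]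
    intro a ha
    rw [Ideal.mem_comap, mem_maximalIdeal_iff]
    have e : A.res (φ.1 a) = R.res a := congrArg (fun f : _ →ₐ[Λ] k => f a) φ.2
    rw [e]
    exact (R.mem_maximalIdeal_iff a).mp ha
  have h2 := Ideal.mem_map_of_mem φ.1 (Ideal.pow_le_pow_right (Nat.le_succ n) hr)
  rw [Ideal.map_pow] at h2
  have h3 := Ideal.pow_right_mono h1 n h2
  rw [hn] at h3
  exact Ideal.mem_bot.mp h3

/-- The map `R/m^(n+1) → A` induced by `φ : R → A`. -/
noncomputable def truncLift {A : Art Λ k} (φ : HomSet R.carrier R.res A) (n : ℕ)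
    (hn : R.mpow n ≤ RingHom.ker φ.1) : R.trunc n ⟶ A :=
  ⟨Ideal.Quotient.liftₐ (R.mpow n) φ.1 (fun _ ha => RingHom.mem_ker.mp (hn ha)), by
    refine AlgHom.ext fun x => ?_
    obtain ⟨a, rfl⟩ := Ideal.Quotient.mk_surjective x
    exact congrArg (fun f : _ →ₐ[Λ] k => f a) φ.2⟩

theorem map_truncLift {A : Art Λ k} (φ : HomSet R.carrier R.res A) (n : ℕ)
    (hn : R.mpow n ≤ RingHom.ker φ.1) : HomSet.map (truncLift φ n hn) (R.truncHom n) = φ :=
  Subtype.ext (AlgHom.ext fun _ => rfl)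

theorem eq_truncLift {A : Art Λ k} {n : ℕ} (f : R.trunc n ⟶ A) (φ : HomSet R.carrier R.res A)
    (hf : HomSet.map f (R.truncHom n) = φ) (hn : R.mpow n ≤ RingHom.ker φ.1) :
    f = truncLift φ n hn := by
  subst hf
  refine Art.hom_ext (AlgHom.ext fun x => ?_)
  obtain ⟨a, rfl⟩ := Ideal.Quotient.mk_surjective x
  rfl

theorem formalElt_indep (u : FormalElt F R) {A : Art Λ k} (φ : HomSet R.carrier R.res A) {n : ℕ}
    (hn : R.mpow n ≤ RingHom.ker φ.1) {m : ℕ} (hm : R.mpow m ≤ RingHom.ker φ.1) :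
    F.map (truncLift φ n hn) (u.elt n) = F.map (truncLift φ m hm) (u.elt m) := by
  have step : ∀ (n m : ℕ) (hn : R.mpow n ≤ RingHom.ker φ.1) (hm : R.mpow m ≤ RingHom.ker φ.1),
      n ≤ m → F.map (truncLift φ m hm) (u.elt m) = F.map (truncLift φ n hn) (u.elt n) := by
    intro n m hn hm hle
    induction m, hle using Nat.le_induction with
    | base => rfl
    | succ m hle ih =>
      have hm' : R.mpow m ≤ RingHom.ker φ.1 :=
        le_trans (Ideal.pow_le_pow_right (by omega)) hn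
      rw [← ih hm', ← u.compat m, ← map_comp_apply']
      congr 2
      refine congrArg F.map (eq_truncLift _ φ ?_ hm).symm
      exact Subtype.ext (AlgHom.ext fun _ => rfl)
  rcases le_total n m with h | h
  · exact (step n m hn hm h).symm
  · exact step m n hm hn h

theorem exists_family (u : FormalElt F R) :
    ∃ ξ : Family R.carrier R.res F, ξ.toFormalElt = u := by
  classical
  choose N hN using fun (A : Art Λ k) (φ : HomSet R.carrier R.res A) => mpow_le_ker φ
  refine ⟨⟨fun A φ => F.map (truncLift φ (N A φ) (hN A φ)) (u.elt _), fun {A B} f φ => ?_⟩,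
    FormalElt.ext' fun n => ?_⟩
  · have hn : R.mpow (N A φ) ≤ RingHom.ker (HomSet.map f φ).1 := fun a ha => by
      change f (φ.1 a) = 0
      rw [RingHom.mem_ker.mp (hN A φ ha), map_zero]
    rw [formalElt_indep u _ (hN B (HomSet.map f φ)) hn, ← map_comp_apply']
    congr 2
    refine congrArg F.map (eq_truncLift _ _ ?_ hn).symm
    exact Subtype.ext (AlgHom.ext fun _ => rfl)
  · have hn : R.mpow n ≤ RingHom.ker (R.truncHom n).1 := fun a ha =>
      Ideal.Quotient.eq_zero_iff_mem.mpr ha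
    change F.map _ _ = u.elt n
    rw [formalElt_indep u (R.truncHom n) _ hn, ← eq_truncLift (𝟙 _) _ ?_ hn, map_id_apply']
    exact Subtype.ext (AlgHom.ext fun _ => rfl)

theorem family_app_eq {ξ η : Family R.carrier R.res F} (h : ξ.toFormalElt = η.toFormalElt)
    (A : Art Λ k) (φ : HomSet R.carrier R.res A) : ξ.app A φ = η.app A φ := by
  obtain ⟨n, hn⟩ := mpow_le_ker φ
  rw [← map_truncLift φ n hn, ξ.natural, η.natural]
  exact congrArg _ (congrArg (fun e : FormalElt F R => e.elt n) h)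

theorem family_ext {R : Type u} [CommRing R] [Algebra Λ R] {resR : R →ₐ[Λ] k}
    {ξ η : Family R resR F} (h : ∀ A φ, ξ.app A φ = η.app A φ) : ξ = η := by
  cases ξ; cases η; congr; funext A φ; exact h A φ

theorem bijective_toFormalElt :
    Function.Bijective (fun ξ : Family R.carrier R.res F => ξ.toFormalElt) :=
  ⟨fun _ _ h => family_ext (family_app_eq h), exists_family⟩

section Lift

variable {R₀ : Type u} [CommRing R₀] [Algebra Λ R₀] {res₀ : R₀ →ₐ[Λ] k} (S : CRing Λ k)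

theorem exists_hom_of_system (φ : ∀ n, HomSet R₀ res₀ (S.trunc n))
    (hφ : ∀ n, HomSet.map (S.truncMap n) (φ (n + 1)) = φ n) :
    ∃ (g : R₀ →ₐ[Λ] S.carrier) (_ : S.res.comp g = res₀), ∀ n, (S.truncHom n).1.comp g = (φ n).1 := by
  classical
  haveI := S.isAdicComplete
  let f : (n : ℕ) → R₀ →ₐ[Λ] S.carrier ⧸ maximalIdeal S.carrier ^ n := fun n =>
    (Ideal.Quotient.factorₐ Λ (Ideal.pow_le_pow_right (Nat.le_succ n))).comp (φ n).1
  have hchain : ∀ {m n : ℕ} (hle : m ≤ n) (r : R₀),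
      Ideal.Quotient.factor (Ideal.pow_le_pow_right (Nat.succ_le_succ hle)) ((φ n).1 r) =
        (φ m).1 r := by
    intro m n hle r
    induction n, hle using Nat.le_induction with
    | base => exact congrArg (fun z => z) (by
        obtain ⟨a, ha⟩ := Ideal.Quotient.mk_surjective ((φ m).1 r)
        rw [← ha]; rfl)
    | succ n hle ih =>
      rw [← ih, ← show (S.truncMap n) ((φ (n + 1)).1 r) = (φ n).1 r from
        congrArg (fun t => t.1 r) (hφ n)]
      obtain ⟨a, ha⟩ := Ideal.Quotient.mk_surjective ((φ (n + 1)).1 r)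
      rw [← ha]
      rfl
  have hf : ∀ {m n : ℕ} (hle : m ≤ n),
      (Ideal.Quotient.factorₐ Λ (Ideal.pow_le_pow_right hle)).comp (f n) = f m := by
    intro m n hle
    refine AlgHom.ext fun r => ?_
    change Ideal.Quotient.factor (Ideal.pow_le_pow_right (I := maximalIdeal S.carrier) hle)
        (Ideal.Quotient.factor
          (Ideal.pow_le_pow_right (I := maximalIdeal S.carrier) (Nat.le_succ n)) ((φ n).1 r)) =
      Ideal.Quotient.factor (Ideal.pow_le_pow_right (I := maximalIdeal S.carrier) (Nat.le_succ m))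
        ((φ m).1 r)
    rw [← hchain hle r]
    obtain ⟨a, ha⟩ := Ideal.Quotient.mk_surjective ((φ n).1 r)
    rw [← ha]
    rfl
  let g := IsAdicComplete.liftAlgHom (maximalIdeal S.carrier) f hf
  have hg : ∀ n r, Ideal.Quotient.mk (maximalIdeal S.carrier ^ (n + 1)) (g r) = (φ n).1 r := by
    intro n r
    have := IsAdicComplete.mk_liftAlgHom (maximalIdeal S.carrier) f hf (n + 1) r
    rw [this]
    change Ideal.Quotient.factor
      (Ideal.pow_le_pow_right (I := maximalIdeal S.carrier) (Nat.le_succ (n + 1))) ((φ (n + 1)).1 r) = _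
    rw [← hchain (Nat.le_succ n) r]
  refine ⟨g, AlgHom.ext fun r => ?_, fun n => AlgHom.ext (hg n)⟩
  have h0 : (S.trunc 0).res ((φ 0).1 r) = res₀ r := congrArg (fun t : _ →ₐ[Λ] k => t r) (φ 0).2
  rw [← hg 0 r] at h0
  exact h0

theorem hom_ext_of_trunc {g g' : R₀ →ₐ[Λ] S.carrier}
    (h : ∀ n, (S.truncHom n).1.comp g = (S.truncHom n).1.comp g') : g = g' := by
  haveI := S.isAdicComplete
  refine AlgHom.ext fun r => sub_eq_zero.mp (IsHausdorff.haus (I := maximalIdeal S.carrier)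
    inferInstance _ fun n => ?_)
  rw [SModEq.zero, smul_eq_mul, Ideal.mul_top]
  refine Ideal.pow_le_pow_right (Nat.le_succ n) (Ideal.Quotient.eq.mp ?_)
  exact congrArg (fun t : _ →ₐ[Λ] S.trunc n => t r) (h n)

theorem isIso_toBase_trunc_zero : IsIso (toBase (S.trunc 0)) := by
  refine isIso_of_bijective _ ⟨fun x y h => ?_, (S.trunc 0).res_surjective⟩
  obtain ⟨a, rfl⟩ := Ideal.Quotient.mk_surjective x
  obtain ⟨b, rfl⟩ := Ideal.Quotient.mk_surjective y
  refine Ideal.Quotient.eq.mpr ?_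
  rw [CRing.mpow, zero_add, pow_one, CRing.mem_maximalIdeal_iff, map_sub, sub_eq_zero]
  exact h

theorem exists_along (h0 : H0 F) (ξ : Family R₀ res₀ F) (hξ : IsVersal ξ) (η : FormalElt F S) :
    ∃ (g : R₀ →ₐ[Λ] S.carrier) (hg : S.res.comp g = res₀), (ξ.along g hg).toFormalElt = η := by
  haveI := isIso_toBase_trunc_zero S
  have step : ∀ (n : ℕ) (φ : {φ : HomSet R₀ res₀ (S.trunc n) // ξ.app _ φ = η.elt n}),
      ∃ φ' : {φ : HomSet R₀ res₀ (S.trunc (n + 1)) // ξ.app _ φ = η.elt (n + 1)},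
        HomSet.map (S.truncMap n) φ'.1 = φ.1 := by
    rintro n ⟨φ, hφ⟩
    obtain ⟨ψ, h₁, h₂⟩ := hξ (S.truncMap n) (truncMap_surjective S n) φ (η.elt (n + 1))
      ((η.compat n).trans hφ.symm)
    exact ⟨⟨ψ, h₂⟩, h₁⟩
  choose st hst using step
  let φ₀ : HomSet R₀ res₀ (base Λ k) := ⟨res₀, AlgHom.id_comp _⟩
  have h00 : ξ.app _ (HomSet.map (inv (toBase (S.trunc 0))) φ₀) = η.elt 0 := by
    refine (map_bijective_of_isIso F (toBase (S.trunc 0))).injective ?_
    exact h0.2.elim _ _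
  let φ : ∀ n, {φ : HomSet R₀ res₀ (S.trunc n) // ξ.app _ φ = η.elt n} :=
    Nat.rec (motive := fun n => {φ : HomSet R₀ res₀ (S.trunc n) // ξ.app _ φ = η.elt n})
      ⟨_, h00⟩ (fun n x => st n x)
  obtain ⟨g, hg, hgn⟩ := exists_hom_of_system S (fun n => (φ n).1) (fun n => hst n (φ n))
  refine ⟨g, hg, FormalElt.ext' fun n => ?_⟩
  change ξ.app _ ⟨(S.truncHom n).1.comp g, _⟩ = η.elt n
  rw [← (φ n).2]
  exact congrArg _ (Subtype.ext (hgn n))

end Lift

section Versal

variable {R₀ : Type u} [CommRing R₀] [Algebra Λ R₀] {res₀ : R₀ →ₐ[Λ] k}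

theorem subsingleton_homSet_base : Subsingleton (HomSet R₀ res₀ (base Λ k)) :=
  ⟨fun φ ψ => Subtype.ext (AlgHom.ext fun r => by
    have a := congrArg (fun t : _ →ₐ[Λ] k => t r) φ.2
    have b := congrArg (fun t : _ →ₐ[Λ] k => t r) ψ.2
    exact a.trans b.symm)⟩

theorem app_surjective_of_isVersal (h0 : H0 F) (ξ : Family R₀ res₀ F) (hξ : IsVersal ξ)
    (A : Art Λ k) : Function.Surjective (ξ.app A) := fun y => by
  obtain ⟨ψ, -, hψ⟩ := hξ (toBase A) A.res_surjective ⟨res₀, AlgHom.id_comp _⟩ y (h0.2.elim _ _)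
  exact ⟨ψ, hψ⟩

theorem h0_of_surjective (ξ : Family R₀ res₀ F) (hs : ∀ A, Function.Surjective (ξ.app A)) :
    H0 F :=
  ⟨⟨ξ.app _ ⟨res₀, AlgHom.id_comp _⟩⟩,
    haveI := subsingleton_homSet_base (R₀ := R₀) (res₀ := res₀)
    (hs (base Λ k)).subsingleton⟩

theorem exists_homSet_pair {B A A' A'' : Art Λ k} {p' : B ⟶ A'} {p'' : B ⟶ A''} {f' : A' ⟶ A}
    {f'' : A'' ⟶ A} (h : IsFibreProd p' p'' f' f'') (φ' : HomSet R₀ res₀ A')
    (φ'' : HomSet R₀ res₀ A'') (w : HomSet.map f' φ' = HomSet.map f'' φ'') :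
    ∃ ψ : HomSet R₀ res₀ B, HomSet.map p' ψ = φ' ∧ HomSet.map p'' ψ = φ'' := by
  have hex : ∀ r, ∃ b : B, p' b = φ'.1 r ∧ p'' b = φ''.1 r := fun r =>
    h.surj _ _ (congrArg (fun t => t.1 r) w)
  choose f h₁ h₂ using hex
  let fA : R₀ →ₐ[Λ] B :=
    { toFun := f
      map_one' := h.inj _ _ (by simp [h₁]) (by simp [h₂])
      map_mul' := fun x y => h.inj _ _ (by simp [h₁]) (by simp [h₂])
      map_zero' := h.inj _ _ (by simp [h₁]) (by simp [h₂])
      map_add' := fun x y => h.inj _ _ (by simp [h₁]) (by simp [h₂])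
      commutes' := fun c => h.inj _ _ (by rw [h₁, AlgHom.commutes, AlgHom.commutes])
        (by rw [h₂, AlgHom.commutes, AlgHom.commutes]) }
  refine ⟨⟨fA, AlgHom.ext fun r => ?_⟩, Subtype.ext (AlgHom.ext h₁), Subtype.ext (AlgHom.ext h₂)⟩
  change B.res (f r) = res₀ r
  rw [← res_app p', h₁]
  exact congrArg (fun t : _ →ₐ[Λ] k => t r) φ'.2

theorem s1_of_isVersal (ξ : Family R₀ res₀ F) (hξ : IsVersal ξ)
    (hs : ∀ A, Function.Surjective (ξ.app A)) : S1 F := by
  rintro B A A' A'' p' p'' f' f'' h hf ⟨⟨a', a''⟩, ha⟩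
  obtain ⟨φ', rfl⟩ := hs A' a'
  obtain ⟨φ'', hφ'', rfl⟩ := hξ f'' hf (HomSet.map f' φ') a'' (ha.symm.trans (ξ.natural f' φ').symm)
  obtain ⟨ψ, h₁, h₂⟩ := exists_homSet_pair h φ' φ'' hφ''.symm
  exact ⟨ξ.app B ψ, FibProd.ext ((ξ.natural p' ψ).symm.trans (congrArg _ h₁))
    ((ξ.natural p'' ψ).symm.trans (congrArg _ h₂))⟩

theorem heps_of_isMiniversal (ξ : Family R₀ res₀ F) (hξ : IsMiniversal ξ)
    (hs : ∀ A, Function.Surjective (ξ.app A)) : Heps F := by
  intro B A' p' p'' h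
  constructor
  · intro z z' hz
    have e₁ : F.map p' z = F.map p' z' := congrArg (fun w => w.1.1) hz
    have e₂ : F.map p'' z = F.map p'' z' := congrArg (fun w => w.1.2) hz
    obtain ⟨ψ, rfl⟩ := hs B z
    obtain ⟨ψ', hψ', rfl⟩ := hξ.1 p' (fst_surjective h (dual Λ k).res_surjective) (HomSet.map p' ψ) z'
      (e₁.symm.trans (ξ.natural p' ψ).symm)
    have : HomSet.map p'' ψ' = HomSet.map p'' ψ := hξ.2.injective (by
      rw [ξ.natural, ξ.natural, e₂])
    refine congrArg _ (Subtype.ext (AlgHom.ext fun r => h.inj _ _ ?_ ?_))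
    · exact (congrArg (fun t => t.1 r) hψ').symm
    · exact (congrArg (fun t => t.1 r) this).symm
  · rintro ⟨⟨a, θ⟩, ha⟩
    obtain ⟨φ', rfl⟩ := hs A' a
    obtain ⟨φ'', rfl⟩ := hs _ θ
    obtain ⟨ψ, h₁, h₂⟩ := exists_homSet_pair h φ' φ''
      ((subsingleton_homSet_base (R₀ := R₀) (res₀ := res₀)).elim _ _)
    exact ⟨ξ.app B ψ, FibProd.ext ((ξ.natural p' ψ).symm.trans (congrArg _ h₁))
      ((ξ.natural p'' ψ).symm.trans (congrArg _ h₂))⟩

/-- Maps to `k[ε]` separate the points of a square-zero object with a section. -/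
theorem eq_zero_of_forall_dual [IsNoetherianRing Λ] [Module.Finite Λ k] (E : Art Λ k) :
    (base Λ k ⟶ E) → maximalIdeal E ^ 2 = ⊥ → ∀ z : E, (∀ g : E ⟶ dual Λ k, g z = 0) → z = 0 := by
  refine art_induction (fun E => (base Λ k ⟶ E) → maximalIdeal E ^ 2 = ⊥ →
    ∀ z : E, (∀ g : E ⟶ dual Λ k, g z = 0) → z = 0) ?_ ?_ ?_ E
  · intro E' E e he ih σ hE z hz
    have hbij := bijective_of_isIso e
    apply hbij.1
    rw [map_zero]
    refine ih (σ ≫ e) ?_ (e z) fun g => hz (e ≫ g)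
    rw [eq_bot_iff, sq, Ideal.mul_le]
    intro a ha b hb
    obtain ⟨a, rfl⟩ := hbij.2 a
    obtain ⟨b, rfl⟩ := hbij.2 b
    have : a * b ∈ maximalIdeal E ^ 2 := by
      rw [sq]; exact Ideal.mul_mem_mul ((comap_maximalIdeal e).mp ha) ((comap_maximalIdeal e).mp hb)
    rw [hE, Ideal.mem_bot] at this
    rw [Ideal.mem_bot, ← map_mul, this, map_zero]
  · intro E' E p hp ih σ hE z hz
    obtain ⟨g, hg⟩ := exists_split hp σ hE
    refine hg.inj z 0 ?_ ?_
    · rw [map_zero]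
      refine ih (σ ≫ p) ?_ (p z) fun g' => hz (p ≫ g')
      rw [eq_bot_iff, sq, Ideal.mul_le]
      intro a ha b hb
      obtain ⟨a, rfl⟩ := hp.1 a
      obtain ⟨b, rfl⟩ := hp.1 b
      have : a * b ∈ maximalIdeal E ^ 2 := by
        rw [sq]
        exact Ideal.mul_mem_mul ((comap_maximalIdeal p).mp ha) ((comap_maximalIdeal p).mp hb)
      rw [hE, Ideal.mem_bot] at this
      rw [Ideal.mem_bot, ← map_mul, this, map_zero]
    · rw [hz g, map_zero]
  · intro _ _ z hz
    have h := congrArg TrivSqZeroExt.fst (hz (toBase _ ≫ baseToDual))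
    exact h

end Versal

end Groth.Agent.H24Art
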