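import Groth.Agent.H24Art.Basic
import Mathlib.CategoryTheory.Limits.Types.Pullbacks
import Mathlib.CategoryTheory.Limits.FunctorCategory.Basic
import Mathlib.CategoryTheory.Limits.Preserves.Shapes.Pullbacks
import Mathlib.CategoryTheory.Limits.Shapes.Pullback.IsPullback.Basic
import Mathlib.CategoryTheory.Limits.Preserves.Shapes.BinaryProducts

/-!
Formal facts on functors of Artin rings: evaluation of fibre products of functors, reduction of
smoothness and of the Schlessinger conditions to small extensions, and the difference map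
`B ×_A B → k[ε]` of a small extension.
-/

universe u v

open CategoryTheory CategoryTheory.Limits

namespace Groth.Agent.H24Art

open ArtFun ArtFun.Art IsLocalRing

variable {Λ : Type u} {k : Type u} [CommRing Λ] [Field k] [Algebra Λ k]

theorem map_comp_apply' (F : Art Λ k ⥤ Type v) {A B C : Art Λ k} (f : A ⟶ B) (g : B ⟶ C)
    (x : F.obj A) : F.map (f ≫ g) x = F.map g (F.map f x) := by
  simp

theorem map_id_apply' (F : Art Λ k ⥤ Type v) {A : Art Λ k} (x : F.obj A) : F.map (𝟙 A) x = x := by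
  simp

theorem nat' {F G : Art Λ k ⥤ Type v} (η : F ⟶ G) {A B : Art Λ k} (f : A ⟶ B) (x : F.obj A) :
    η.app B (F.map f x) = G.map f (η.app A x) :=
  NatTrans.naturality_apply η f x

theorem map_bijective_of_isIso (F : Art Λ k ⥤ Type v) {A B : Art Λ k} (f : A ⟶ B) [IsIso f] :
    Function.Bijective (F.map f) :=
  (isIso_iff_bijective (F.map f)).mp inferInstance

theorem bijective_of_isIso {A B : Art Λ k} (f : A ⟶ B) [IsIso f] : Function.Bijective f := by
  refine Function.bijective_iff_has_inverse.mpr ⟨inv f, fun a => ?_, fun b => ?_⟩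
  · change (f ≫ inv f) a = a
    rw [IsIso.hom_inv_id]; rfl
  · change (inv f ≫ f) b = b
    rw [IsIso.inv_hom_id]; rfl

section Eval

variable {F G H : Art Λ k ⥤ Type v} (f : F ⟶ H) (g : G ⟶ H)

theorem exists_pullback_elt {A : Art Λ k} (a : F.obj A) (b : G.obj A) (h : f.app A a = g.app A b) :
    ∃ z, (pullback.fst f g).app A z = a ∧ (pullback.snd f g).app A z = b :=
  Types.exists_of_isPullback
    (((evaluation (Art Λ k) (Type v)).obj A).map_isPullback (IsPullback.of_hasPullback f g)) a b h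

theorem pullback_elt_ext {A : Art Λ k} {z z' : (pullback f g).obj A}
    (h₁ : (pullback.fst f g).app A z = (pullback.fst f g).app A z')
    (h₂ : (pullback.snd f g).app A z = (pullback.snd f g).app A z') : z = z' :=
  Types.ext_of_isPullback
    (((evaluation (Art Λ k) (Type v)).obj A).map_isPullback (IsPullback.of_hasPullback f g)) h₁ h₂

theorem pullback_elt_w {A : Art Λ k} (z : (pullback f g).obj A) :
    f.app A ((pullback.fst f g).app A z) = g.app A ((pullback.snd f g).app A z) := by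
  change ((pullback.fst f g ≫ f).app A) z = ((pullback.snd f g ≫ g).app A) z
  rw [pullback.condition]

theorem exists_prod_elt {A : Art Λ k} (a : F.obj A) (b : G.obj A) :
    ∃ z : (F ⨯ G).obj A, (prod.fst : F ⨯ G ⟶ F).app A z = a ∧ (prod.snd : F ⨯ G ⟶ G).app A z = b := by
  obtain ⟨l, h₁, h₂⟩ := BinaryFan.IsLimit.lift'
    (mapIsLimitOfPreservesOfIsLimit ((evaluation (Art Λ k) (Type v)).obj A) _ _ (prodIsProd F G))
    (W := PUnit.{v + 1}) (↾fun _ => a) (↾fun _ => b)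
  exact ⟨l PUnit.unit, ConcreteCategory.congr_hom h₁ PUnit.unit,
    ConcreteCategory.congr_hom h₂ PUnit.unit⟩

end Eval

section Reduction

variable {F G : Art Λ k ⥤ Type v}

theorem isSmooth_of_smallExt (η : F ⟶ G)
    (h : ∀ ⦃B A : Art Λ k⦄ (μ : B ⟶ A), IsSmallExt μ → Function.Surjective (relCmp η μ)) :
    IsSmooth η := by
  intro B A μ hμ
  refine surjective_induction (fun A B μ => Function.Surjective (relCmp η μ)) ?_
    (fun A B μ hμ => h μ hμ) ?_ μ hμ
  · intro A B e he ⟨⟨x, y⟩, hxy⟩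
    refine ⟨F.map (inv e) x, Subtype.ext (Prod.ext ?_ ?_)⟩
    · change F.map e (F.map (inv e) x) = x
      rw [← map_comp_apply', IsIso.inv_hom_id, map_id_apply']
    · change η.app B (F.map (inv e) x) = y
      refine (map_bijective_of_isIso G e).injective ?_
      rw [nat', ← map_comp_apply', IsIso.inv_hom_id, map_id_apply']
      exact hxy
  · intro A B C p q hp hq ⟨⟨x, y⟩, hxy⟩
    obtain ⟨xB, hB⟩ := hq ⟨(x, G.map p y), by rw [← map_comp_apply']; exact hxy⟩
    have h1 : F.map q xB = x := congrArg (fun z => z.1.1) hB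
    have h2 : η.app B xB = G.map p y := congrArg (fun z => z.1.2) hB
    obtain ⟨z, hz⟩ := hp ⟨(xB, y), h2⟩
    have h3 : F.map p z = xB := congrArg (fun z => z.1.1) hz
    have h4 : η.app C z = y := congrArg (fun z => z.1.2) hz
    refine ⟨z, Subtype.ext (Prod.ext ?_ h4)⟩
    change F.map (p ≫ q) z = x
    rw [map_comp_apply', h3, h1]

theorem IsFibreProd.exists_lift {T B A A₁ A₂ : Art Λ k} {p₁ : B ⟶ A₁} {p₂ : B ⟶ A₂}
    {f₁ : A₁ ⟶ A} {f₂ : A₂ ⟶ A} (h : IsFibreProd p₁ p₂ f₁ f₂) (g₁ : T ⟶ A₁) (g₂ : T ⟶ A₂)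
    (w : g₁ ≫ f₁ = g₂ ≫ f₂) : ∃ r : T ⟶ B, r ≫ p₁ = g₁ ∧ r ≫ p₂ = g₂ := by
  have hex : ∀ t : T, ∃ b : B, p₁ b = g₁ t ∧ p₂ b = g₂ t := fun t => h.surj _ _ (by
    rw [← Art.comp_apply, ← Art.comp_apply, w])
  choose r h₁ h₂ using hex
  let rA : T →ₐ[Λ] B :=
    { toFun := r
      map_one' := h.inj _ _ (by simp [h₁]) (by simp [h₂])
      map_mul' := fun x y => h.inj _ _ (by simp [h₁]) (by simp [h₂])
      map_zero' := h.inj _ _ (by simp [h₁]) (by simp [h₂])
      map_add' := fun x y => h.inj _ _ (by simp [h₁]) (by simp [h₂])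
      commutes' := fun c => h.inj _ _ (by rw [h₁, AlgHom.commutes, AlgHom.commutes])
        (by rw [h₂, AlgHom.commutes, AlgHom.commutes]) }
  refine ⟨⟨rA, AlgHom.ext fun t => ?_⟩, Art.hom_ext (AlgHom.ext h₁), Art.hom_ext (AlgHom.ext h₂)⟩
  change B.res (r t) = T.res t
  rw [← res_app p₁, h₁, res_app]

theorem IsFibreProd.hom_ext {T B A A₁ A₂ : Art Λ k} {p₁ : B ⟶ A₁} {p₂ : B ⟶ A₂}
    {f₁ : A₁ ⟶ A} {f₂ : A₂ ⟶ A} (h : IsFibreProd p₁ p₂ f₁ f₂) {r r' : T ⟶ B}
    (h₁ : r ≫ p₁ = r' ≫ p₁) (h₂ : r ≫ p₂ = r' ≫ p₂) : r = r' :=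
  Art.hom_ext (AlgHom.ext fun t => h.inj _ _ (by rw [← Art.comp_apply, ← Art.comp_apply, h₁])
    (by rw [← Art.comp_apply, ← Art.comp_apply, h₂]))

variable [IsNoetherianRing Λ] [Module.Finite Λ k] (F)

theorem surjective_cmp_of_smallExt
    (hs : ∀ ⦃B A A' A'' : Art Λ k⦄ (p' : B ⟶ A') (p'' : B ⟶ A'') (f' : A' ⟶ A) (f'' : A'' ⟶ A)
      (h : IsFibreProd p' p'' f' f''), IsSmallExt f'' → Function.Surjective (cmp F h))
    ⦃B A A' A'' : Art Λ k⦄ (p' : B ⟶ A') (p'' : B ⟶ A'') (f' : A' ⟶ A) (f'' : A'' ⟶ A)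
    (h : IsFibreProd p' p'' f' f'') (hf : Function.Surjective f'') :
    Function.Surjective (cmp F h) := by
  suffices key : Function.Surjective f'' ∧ ∀ ⦃B A' : Art Λ k⦄ (p' : B ⟶ A') (p'' : B ⟶ A'')
      (f' : A' ⟶ A) (h : IsFibreProd p' p'' f' f''), Function.Surjective (cmp F h) from
    key.2 p' p'' f' h
  refine surjective_induction (fun A A'' f'' => Function.Surjective f'' ∧
    ∀ ⦃B A' : Art Λ k⦄ (p' : B ⟶ A') (p'' : B ⟶ A'') (f' : A' ⟶ A)
      (h : IsFibreProd p' p'' f' f''), Function.Surjective (cmp F h)) ?_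
    (fun A A'' f'' hf => ⟨hf.1, fun B A' p' p'' f' h => hs p' p'' f' f'' h hf⟩) ?_ f'' hf
  · intro A A'' e he
    refine ⟨(bijective_of_isIso e).surjective, fun B A' p' p'' f' h ⟨⟨a', a''⟩, ha⟩ => ?_⟩
    have hp : Function.Bijective p' := by
      refine ⟨fun x y hxy => h.inj x y hxy ((bijective_of_isIso e).injective ?_),
        fst_surjective h (bijective_of_isIso e).surjective⟩
      rw [← h.w_apply, ← h.w_apply, hxy]
    haveI := isIso_of_bijective p' hp
    refine ⟨F.map (inv p') a', FibProd.ext ?_ ?_⟩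
    · change F.map p' (F.map (inv p') a') = a'
      rw [← map_comp_apply', IsIso.inv_hom_id, map_id_apply']
    · change F.map p'' (F.map (inv p') a') = a''
      refine (map_bijective_of_isIso F e).injective ?_
      rw [← map_comp_apply', ← map_comp_apply', ← h.w, IsIso.inv_hom_id_assoc]
      exact ha
  · intro A C A'' p q ⟨hp, hp'⟩ ⟨hq, hq'⟩
    refine ⟨hq.comp hp, fun B A' p' p'' f' h ⟨⟨a', a''⟩, ha⟩ => ?_⟩
    obtain ⟨B₁, q₁, q₂, h₁⟩ := exists_fibre_of_surjective f' q hq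
    obtain ⟨r, hr₁, hr₂⟩ := IsFibreProd.exists_lift h₁ p' (p'' ≫ p)
      (by rw [h.w, Category.assoc])
    have hsq : IsFibreProd r p'' q₂ p := by
      refine ⟨hr₂, fun b b' e₁ e₂ => h.inj b b' ?_ e₂, fun b₁ c hc => ?_⟩
      · rw [← hr₁, Art.comp_apply, Art.comp_apply, e₁]
      · obtain ⟨b, hb₁, hb₂⟩ := h.surj (q₁ b₁) c
          (by rw [h₁.w_apply, hc]; rfl)
        refine ⟨b, h₁.inj _ _ ?_ ?_, hb₂⟩
        · rw [← Art.comp_apply, hr₁, hb₁]
        · rw [← Art.comp_apply, hr₂, Art.comp_apply, hb₂, hc]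
    obtain ⟨z₁, hz₁⟩ := hq' q₁ q₂ f' h₁ ⟨(a', F.map p a''), by
      rw [← map_comp_apply']; exact ha⟩
    have e₁ : F.map q₁ z₁ = a' := congrArg (fun z => z.1.1) hz₁
    have e₂ : F.map q₂ z₁ = F.map p a'' := congrArg (fun z => z.1.2) hz₁
    obtain ⟨z, hz⟩ := hp' r p'' q₂ hsq ⟨(z₁, a''), e₂⟩
    have e₃ : F.map r z = z₁ := congrArg (fun z => z.1.1) hz
    have e₄ : F.map p'' z = a'' := congrArg (fun z => z.1.2) hz
    refine ⟨z, FibProd.ext ?_ e₄⟩
    change F.map p' z = a'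
    rw [← hr₁, map_comp_apply', e₃, e₁]

theorem injective_cmp_of_smallExt
    (hs : ∀ ⦃B A A' A'' : Art Λ k⦄ (p' : B ⟶ A') (p'' : B ⟶ A'') (f' : A' ⟶ A) (f'' : A'' ⟶ A)
      (h : IsFibreProd p' p'' f' f''), IsSmallExt f'' → Function.Injective (cmp F h))
    ⦃B A A' A'' : Art Λ k⦄ (p' : B ⟶ A') (p'' : B ⟶ A'') (f' : A' ⟶ A) (f'' : A'' ⟶ A)
    (h : IsFibreProd p' p'' f' f'') (hf : Function.Surjective f'') :
    Function.Injective (cmp F h) := by
  suffices key : Function.Surjective f'' ∧ ∀ ⦃B A' : Art Λ k⦄ (p' : B ⟶ A') (p'' : B ⟶ A'')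
      (f' : A' ⟶ A) (h : IsFibreProd p' p'' f' f''), Function.Injective (cmp F h) from
    key.2 p' p'' f' h
  refine surjective_induction (fun A A'' f'' => Function.Surjective f'' ∧
    ∀ ⦃B A' : Art Λ k⦄ (p' : B ⟶ A') (p'' : B ⟶ A'') (f' : A' ⟶ A)
      (h : IsFibreProd p' p'' f' f''), Function.Injective (cmp F h)) ?_
    (fun A A'' f'' hf => ⟨hf.1, fun B A' p' p'' f' h => hs p' p'' f' f'' h hf⟩) ?_ f'' hf
  · intro A A'' e he
    refine ⟨(bijective_of_isIso e).surjective, fun B A' p' p'' f' h z z' hz => ?_⟩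
    have hp : Function.Bijective p' := by
      refine ⟨fun x y hxy => h.inj x y hxy ((bijective_of_isIso e).injective ?_),
        fst_surjective h (bijective_of_isIso e).surjective⟩
      rw [← h.w_apply, ← h.w_apply, hxy]
    haveI := isIso_of_bijective p' hp
    exact (map_bijective_of_isIso F p').injective (congrArg (fun z => z.1.1) hz)
  · intro A C A'' p q ⟨hp, hp'⟩ ⟨hq, hq'⟩
    refine ⟨hq.comp hp, fun B A' p' p'' f' h z z' hz => ?_⟩
    obtain ⟨B₁, q₁, q₂, h₁⟩ := exists_fibre_of_surjective f' q hq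
    obtain ⟨r, hr₁, hr₂⟩ := IsFibreProd.exists_lift h₁ p' (p'' ≫ p)
      (by rw [h.w, Category.assoc])
    have hsq : IsFibreProd r p'' q₂ p := by
      refine ⟨hr₂, fun b b' e₁ e₂ => h.inj b b' ?_ e₂, fun b₁ c hc => ?_⟩
      · rw [← hr₁, Art.comp_apply, Art.comp_apply, e₁]
      · obtain ⟨b, hb₁, hb₂⟩ := h.surj (q₁ b₁) c
          (by rw [h₁.w_apply, hc]; rfl)
        refine ⟨b, h₁.inj _ _ ?_ ?_, hb₂⟩
        · rw [← Art.comp_apply, hr₁, hb₁]
        · rw [← Art.comp_apply, hr₂, Art.comp_apply, hb₂, hc]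
    have e₁ : F.map p' z = F.map p' z' := congrArg (fun z => z.1.1) hz
    have e₂ : F.map p'' z = F.map p'' z' := congrArg (fun z => z.1.2) hz
    refine hp' r p'' q₂ hsq (FibProd.ext (hq' q₁ q₂ f' h₁ (FibProd.ext ?_ ?_)) e₂)
    · change F.map q₁ (F.map r z) = F.map q₁ (F.map r z')
      rw [← map_comp_apply', ← map_comp_apply', hr₁, e₁]
    · change F.map q₂ (F.map r z) = F.map q₂ (F.map r z')
      rw [← map_comp_apply', ← map_comp_apply', hr₂, map_comp_apply', map_comp_apply', e₂]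

end Reduction

end Groth.Agent.H24Art
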