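import Mathlib
import Groth.Agent.H8Props.NLH1.Ring

/-!
# `H₁` of the cotangent complex along a separable extension of a residue field (helper24)
-/

set_option autoImplicit false
set_option linter.style.haveILetI false
universe u
open TensorProduct Polynomial Groth.Agent Algebra

namespace Groth.Agent.H24Art.H1Sep

attribute [local instance] Algebra.TensorProduct.rightAlgebra

/-- For a flat formally étale change of base, `H₁` of the naive cotangent complex base changes. -/
theorem bijective_baseChange (R S R' : Type u) [CommRing R] [CommRing S] [CommRing R'] [Algebra R S]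
    [Algebra R R'] [Module.Flat R R'] [Algebra.FormallyEtale R R'] :
    Function.Bijective ((H1Cotangent.map R R S (R' ⊗[R] S)).liftBaseChange (R' ⊗[R] S)) := by
  let T := R' ⊗[R] S
  let H := H1Cotangent R S
  let L := (H1Cotangent.map R R S T).liftBaseChange T
  let β := H1Cotangent.map R R' T T
  let δ : R' ⊗[R] H →ₗ[R'] T ⊗[S] H := TensorProduct.AlgebraTensorModule.lift
    { toFun := fun r =>
        { toFun := fun x => ((r ⊗ₜ[R] (1 : S) : T)) ⊗ₜ[S] x
          map_add' := fun x y => TensorProduct.tmul_add _ _ _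
          map_smul' := fun c x => TensorProduct.tmul_smul _ _ _ }
      map_add' := fun r r' => LinearMap.ext fun x => by
        simp [TensorProduct.add_tmul]
      map_smul' := fun c r => LinearMap.ext fun x => by
        simp only [LinearMap.coe_mk, AddHom.coe_mk, RingHom.id_apply, LinearMap.smul_apply]
        rw [TensorProduct.smul_tmul', TensorProduct.smul_tmul', smul_eq_mul] }
  have hδ : ∀ r x, δ (r ⊗ₜ x) = ((r ⊗ₜ[R] (1 : S) : T)) ⊗ₜ[S] x := fun r x => rfl
  have hδsurj : Function.Surjective δ := by
    intro z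
    induction z using TensorProduct.induction_on with
    | zero => exact ⟨0, map_zero _⟩
    | add a b ha hb =>
      obtain ⟨a, rfl⟩ := ha; obtain ⟨b, rfl⟩ := hb
      exact ⟨a + b, map_add _ _ _⟩
    | tmul t x =>
      induction t using TensorProduct.induction_on with
      | zero => exact ⟨0, by simp⟩
      | add a b ha hb =>
        obtain ⟨y, hy⟩ := ha; obtain ⟨y', hy'⟩ := hb
        exact ⟨y + y', by rw [map_add, hy, hy', TensorProduct.add_tmul]⟩
      | tmul r s =>
        refine ⟨r ⊗ₜ (s • x), ?_⟩
        rw [hδ, ← TensorProduct.smul_tmul]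
        congr 1
        rw [Algebra.smul_def]
        change ((1 : R') ⊗ₜ[R] s) * (r ⊗ₜ[R] (1 : S)) = r ⊗ₜ[R] s
        simp
  have hcomp : ∀ z, β (L (δ z)) = Algebra.tensorH1CotangentOfFlat R S R' z := by
    intro z
    induction z using TensorProduct.induction_on with
    | zero => simp
    | add a b ha hb => simp only [map_add, ha, hb]
    | tmul r x =>
      rw [hδ, LinearMap.liftBaseChange_tmul, map_smul, Algebra.tensorH1CotangentOfFlat_tmul,
        H8Props.NLH1.map_eq_comp (R := R) (R' := R') (S := S) (T := T) x]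
      exact algebraMap_smul T r _
  have hβ : Function.Bijective β := H8Props.NLH1.map_base_bijective R R' T
  have hLδ : Function.Bijective (L ∘ δ) := by
    refine ⟨fun a b h => (Algebra.tensorH1CotangentOfFlat R S R').injective ?_, fun y => ?_⟩
    · rw [← hcomp, ← hcomp]; exact congrArg β h
    · obtain ⟨z, hz⟩ := (Algebra.tensorH1CotangentOfFlat R S R').surjective (β y)
      exact ⟨z, hβ.1 ((hcomp z).trans hz)⟩
  refine ⟨fun a b h => ?_, hLδ.2.of_comp⟩
  obtain ⟨a, rfl⟩ := hδsurj a
  obtain ⟨b, rfl⟩ := hδsurj b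
  rw [hLδ.1 h]

/-- Transport along an isomorphism of targets. -/
theorem bijective_of_algEquiv (R S T T' : Type u) [CommRing R] [CommRing S] [CommRing T] [CommRing T']
    [Algebra R S] [Algebra R T] [Algebra R T'] [Algebra S T] [Algebra S T'] [IsScalarTower R S T]
    [IsScalarTower R S T'] (e : T ≃ₐ[S] T')
    (h : Function.Bijective ((H1Cotangent.map R R S T).liftBaseChange T)) :
    Function.Bijective ((H1Cotangent.map R R S T').liftBaseChange T') := by
  let eR : T ≃ₐ[R] T' := e.restrictScalars R
  letI : Algebra T T' := eR.toRingHom.toAlgebra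
  haveI : IsScalarTower R T T' := .of_algebraMap_eq fun r => (eR.commutes r).symm
  haveI : IsScalarTower S T T' := .of_algebraMap_eq fun s => (e.commutes s).symm
  let m := H1Cotangent.mapEquiv R T T' eR
  have hm : ∀ x, m x = H1Cotangent.map R R T T' x := fun x => rfl
  let δ : T ⊗[S] H1Cotangent R S ≃ₗ[S] T' ⊗[S] H1Cotangent R S :=
    TensorProduct.congr e.toLinearEquiv (LinearEquiv.refl _ _)
  have hcomp : ∀ z, (H1Cotangent.map R R S T').liftBaseChange T' (δ z) =
      m ((H1Cotangent.map R R S T).liftBaseChange T z) := by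
    intro z
    induction z using TensorProduct.induction_on with
    | zero => simp
    | add a b ha hb => simp only [map_add, ha, hb]
    | tmul t x =>
      simp only [δ, TensorProduct.congr_tmul, LinearEquiv.refl_apply, AlgEquiv.toLinearEquiv_apply,
        LinearMap.liftBaseChange_tmul, hm]
      rw [map_smul, ← algebraMap_smul T' t]
      congr 1
      show Extension.H1Cotangent.map _ x = Extension.H1Cotangent.map _ (Extension.H1Cotangent.map _ x)
      rw [← Extension.H1Cotangent.map_comp_apply, Extension.H1Cotangent.map_eq]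
  constructor
  · intro a b hab
    obtain ⟨a, rfl⟩ := δ.surjective a
    obtain ⟨b, rfl⟩ := δ.surjective b
    rw [hcomp, hcomp] at hab
    rw [h.1 (m.injective hab)]
  · intro y
    obtain ⟨z, hz⟩ := h.2 (m.symm y)
    exact ⟨δ z, by rw [hcomp, hz, m.apply_symm_apply]⟩

theorem bijective_separable (Λ K k : Type u) [CommRing Λ] [IsNoetherianRing Λ] [Field K] [Field k]
    [Algebra Λ K] [Algebra Λ k] [Algebra K k] [IsScalarTower Λ K k] [FiniteDimensional K k]
    [Algebra.IsSeparable K k] (hK : Function.Surjective (algebraMap Λ K)) :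
    Function.Bijective ((H1Cotangent.map Λ Λ K k).liftBaseChange k) := by
  haveI : Nontrivial Λ := (algebraMap Λ K).domain_nontrivial
  let pb := Field.powerBasisOfFiniteOfSeparable K k
  have hmonic : (minpoly K pb.gen).Monic := minpoly.monic (Algebra.IsIntegral.isIntegral pb.gen)
  obtain ⟨g, hg, -, hgm⟩ := lifts_and_degree_eq_and_monic
    ((Polynomial.mem_lifts _).mpr (map_surjective (algebraMap Λ K) hK (minpoly K pb.gen))) hmonic
  let P : StandardEtalePair Λ :=
    { f := g, monic_f := hgm, g := derivative g, cond := ⟨1, 0, 1, by simp⟩ }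
  haveI : Module.Flat Λ P.Ring := Algebra.Smooth.flat Λ P.Ring
  have heval : ∀ {B : Type u} [CommRing B] [Algebra Λ B] [Algebra K B] [IsScalarTower Λ K B] (x : B)
      (p : Λ[X]), aeval x p = aeval x (p.map (algebraMap Λ K)) := fun x p => (aeval_map_algebraMap K x p).symm
  have hmap : P.HasMap pb.gen := by
    constructor
    · rw [heval, show P.f.map (algebraMap Λ K) = minpoly K pb.gen from hg, minpoly.aeval]
    · rw [heval, show P.g.map (algebraMap Λ K) = derivative (minpoly K pb.gen) by
        rw [← hg, derivative_map]]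
      exact isUnit_iff_ne_zero.mpr
        ((Algebra.IsSeparable.isSeparable K pb.gen).aeval_derivative_ne_zero (minpoly.aeval _ _))
  let T := P.Ring ⊗[Λ] K
  let θ₀ : T →ₐ[Λ] k := Algebra.TensorProduct.lift (P.lift pb.gen hmap) (IsScalarTower.toAlgHom Λ K k)
    fun _ _ => Commute.all _ _
  have hθ₀ : ∀ a b, θ₀ (a ⊗ₜ[Λ] b) = P.lift pb.gen hmap a * algebraMap K k b := fun a b =>
    Algebra.TensorProduct.lift_tmul _ _ _ a b
  let θ : T →ₐ[K] k :=
    { toRingHom := θ₀.toRingHom
      commutes' := fun c => by
        change θ₀ ((1 : P.Ring) ⊗ₜ[Λ] c) = _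
        rw [hθ₀, map_one, one_mul] }
  let x : T := P.X ⊗ₜ[Λ] 1
  have hx : aeval x (minpoly K pb.gen) = 0 := by
    rw [← hg, ← heval, show x = (Algebra.TensorProduct.includeLeft : P.Ring →ₐ[Λ] T) P.X from rfl,
      aeval_algHom_apply, show aeval P.X g = 0 from (StandardEtalePair.hasMap_X (P := P)).1, map_zero]
  let η : k →ₐ[K] T := pb.lift x hx
  have h1 : η.comp θ = AlgHom.id K T := by
    have hL : (η.restrictScalars Λ).comp ((θ.restrictScalars Λ).comp Algebra.TensorProduct.includeLeft) =
        (Algebra.TensorProduct.includeLeft : P.Ring →ₐ[Λ] T) := by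
      refine P.hom_ext ?_
      change η (θ₀ (P.X ⊗ₜ[Λ] 1)) = x
      rw [hθ₀, P.lift_X, map_one, mul_one, PowerBasis.lift_gen]
    refine AlgHom.ext fun t => ?_
    induction t using TensorProduct.induction_on with
    | zero => simp
    | add a b ha hb => simp only [map_add, ha, hb]
    | tmul r c =>
      have e : r ⊗ₜ[Λ] c = algebraMap K T c * (Algebra.TensorProduct.includeLeft : P.Ring →ₐ[Λ] T) r := by
        change _ = ((1 : P.Ring) ⊗ₜ[Λ] c) * (r ⊗ₜ[Λ] (1 : K))
        simp
      rw [e, map_mul, map_mul, AlgHom.commutes, AlgHom.commutes]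
      congr 1
      exact AlgHom.congr_fun hL r
  have h2 : θ.comp η = AlgHom.id K k := pb.algHom_ext (by
    change θ (pb.lift x hx pb.gen) = pb.gen
    rw [pb.lift_gen]
    change θ₀ (P.X ⊗ₜ[Λ] 1) = _
    rw [hθ₀, P.lift_X, map_one, mul_one])
  exact bijective_of_algEquiv Λ K T k (AlgEquiv.ofAlgHom θ η h2 h1) (bijective_baseChange Λ K P.Ring)

end Groth.Agent.H24Art.H1Sep
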