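import Groth.Agent.H24Art.Completion
import Groth.Agent.H24Adic.Basic
import Groth.Prelude.Def_W4sfdMinVersal

/-!
Quotients of coefficient rings and limits of surjective systems in `Art Λ k`.
-/

universe u v

open CategoryTheory

namespace Groth.Agent.H24Art

open ArtFun ArtFun.Art IsLocalRing

variable {Λ : Type u} {k : Type u} [CommRing Λ] [Field k] [Algebra Λ k]

theorem exists_quotient_cring (S : CRing Λ k) (I : Ideal S.carrier)
    (hI : I ≤ maximalIdeal S.carrier) :
    ∃ (R : CRing Λ k) (π : S.carrier →ₐ[Λ] R.carrier), R.res.comp π = S.res ∧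
      Function.Surjective π ∧ RingHom.ker π = I := by
  haveI : Nontrivial (S.carrier ⧸ I) := Ideal.Quotient.nontrivial_iff.mpr fun h =>
    (IsLocalRing.maximalIdeal.isMaximal S.carrier).ne_top (top_le_iff.mp (h ▸ hI))
  haveI : IsLocalRing (S.carrier ⧸ I) :=
    IsLocalRing.of_surjective' (Ideal.Quotient.mk I) Ideal.Quotient.mk_surjective
  let res : S.carrier ⧸ I →ₐ[Λ] k :=
    Ideal.Quotient.liftₐ I S.res fun a ha => (S.mem_maximalIdeal_iff a).mp (hI ha)
  let R : CRing Λ k :=
    { carrier := S.carrier ⧸ I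
      res := res
      res_surjective := fun c => by
        obtain ⟨a, ha⟩ := S.res_surjective c
        exact ⟨Ideal.Quotient.mk I a, ha⟩
      isAdicComplete := by
        haveI := S.isAdicComplete
        haveI : IsAdicComplete (maximalIdeal S.carrier) (S.carrier ⧸ I) :=
          H24Adic.isAdicComplete_of_finite _
        have hm : maximalIdeal (S.carrier ⧸ I) =
            (maximalIdeal S.carrier).map (algebraMap S.carrier (S.carrier ⧸ I)) := by
          refine le_antisymm (fun x hx => ?_) ?_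
          · obtain ⟨a, rfl⟩ := Ideal.Quotient.mk_surjective x
            refine Ideal.mem_map_of_mem _ ?_
            rw [IsLocalRing.mem_maximalIdeal] at hx ⊢
            exact fun hu => hx (hu.map (Ideal.Quotient.mk I))
          · refine Ideal.map_le_iff_le_comap.mpr fun a ha => ?_
            rw [Ideal.mem_comap]
            refine (IsLocalRing.mem_maximalIdeal _).mpr fun hu => ?_
            obtain ⟨b, hb⟩ := Ideal.Quotient.mk_surjective (↑hu.unit⁻¹ : S.carrier ⧸ I)
            have h1 : Ideal.Quotient.mk I (a * b) = Ideal.Quotient.mk I 1 := by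
              rw [map_mul, hb, map_one]
              exact hu.mul_val_inv
            have h2 := (maximalIdeal S.carrier).sub_mem (Ideal.mul_mem_right b _ ha)
              (hI (Ideal.Quotient.eq.mp h1))
            rw [sub_sub_cancel] at h2
            exact (IsLocalRing.mem_maximalIdeal _).mp h2 isUnit_one
        rw [hm]
        exact (IsAdicComplete.map_algebraMap_iff _ _).mpr inferInstance }
  exact ⟨R, Ideal.Quotient.mkₐ Λ I, Ideal.Quotient.liftₐ_comp _ _ _, Ideal.Quotient.mk_surjective,
    Ideal.Quotient.mkₐ_ker Λ I⟩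

section System

variable (A : ℕ → Art Λ k) (f : ∀ n, A (n + 1) ⟶ A n)

/-- A limit of a system of objects. -/
structure IsLim (R : CRing Λ k) (π : ∀ n, HomSet R.carrier R.res (A n)) : Prop where
  compat : ∀ n, HomSet.map (f n) (π (n + 1)) = π n
  surjective : ∀ n, Function.Surjective (π n).1
  existsUnique : ∀ a : ∀ n, A n, (∀ n, f n (a (n + 1)) = a n) → ∃! s : R.carrier, ∀ n, (π n).1 s = a n
  cofinal : ∀ N, ∃ n, RingHom.ker (π n).1 ≤ maximalIdeal R.carrier ^ N

variable {A f}

theorem ker_antitone {R : Type u} [CommRing R] [Algebra Λ R] {res : R →ₐ[Λ] k}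
    {q : ∀ n, HomSet R res (A n)} (hq : ∀ n, HomSet.map (f n) (q (n + 1)) = q n) :
    Antitone fun n => RingHom.ker (q n).1 := by
  refine antitone_nat_of_succ_le fun n x hx => ?_
  rw [RingHom.mem_ker] at hx ⊢
  rw [← hq n]
  change f n ((q (n + 1)).1 x) = 0
  rw [hx, map_zero]

theorem exists_limit (S : CRing Λ k) (q : ∀ n, HomSet S.carrier S.res (A n))
    (hq : ∀ n, HomSet.map (f n) (q (n + 1)) = q n) (hs : ∀ n, Function.Surjective (q n).1) :
    ∃ (R : CRing Λ k) (p : S.carrier →ₐ[Λ] R.carrier) (π : ∀ n, HomSet R.carrier R.res (A n)),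
      R.res.comp p = S.res ∧ Function.Surjective p ∧ IsLim A f R π ∧
        ∀ n, (π n).1.comp p = (q n).1 := by
  classical
  haveI := S.isAdicComplete
  set m := maximalIdeal S.carrier
  set K : ℕ → Ideal S.carrier := fun n => RingHom.ker (q n).1 with hK
  have hanti : Antitone K := ker_antitone hq
  -- the images modulo each power stabilise
  have hstab : ∀ N, ∃ n, ∀ i, n ≤ i → K n ⊔ m ^ N ≤ K i ⊔ m ^ N := by
    intro N
    rcases N with _ | N
    · exact ⟨0, fun i _ => by simp⟩
    haveI := CRing.isArtinianRing_quot_mpow S N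
    obtain ⟨n, hn⟩ := IsArtinian.monotone_stabilizes (R := S.carrier ⧸ S.mpow N)
      (⟨fun i => OrderDual.toDual ((K i).map (Ideal.Quotient.mk (S.mpow N))),
        fun _ _ h => Ideal.map_mono (hanti h)⟩ : ℕ →o (Ideal (S.carrier ⧸ S.mpow N))ᵒᵈ)
    refine ⟨n, fun i hi => le_of_eq ?_⟩
    have := congrArg (Ideal.comap (Ideal.Quotient.mk (S.mpow N))) (OrderDual.toDual.injective (hn i hi))
    rwa [Ideal.comap_map_of_surjective' _ Ideal.Quotient.mk_surjective,
      Ideal.comap_map_of_surjective' _ Ideal.Quotient.mk_surjective, Ideal.mk_ker] at this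
  choose N₀ hN₀ using hstab
  set I : Ideal S.carrier := ⨅ n, K n with hIdef
  have hchev : ∀ N, K (N₀ N) ≤ I ⊔ m ^ N := by
    intro N x hx
    let T : ℕ → Type u := fun j =>
      {y : S.carrier // ∀ i, y ∈ K i ⊔ m ^ (N + j)}
    have h0 : ∀ i, x ∈ K i ⊔ m ^ (N + 0) := fun i => by
      rcases le_total (N₀ N) i with h | h
      · exact hN₀ N i h (Ideal.mem_sup_left hx)
      · exact Ideal.mem_sup_left (hanti h hx)
    have step : ∀ j (y : T j), ∃ y' : T (j + 1), y'.1 - y.1 ∈ m ^ (N + j) := by
      rintro j ⟨y, hy⟩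
      obtain ⟨a, ha, b, hb, rfl⟩ := Submodule.mem_sup.mp (hy (N₀ (N + (j + 1))))
      refine ⟨⟨a, fun i => ?_⟩, ?_⟩
      · rcases le_total (N₀ (N + (j + 1))) i with h | h
        · exact hN₀ _ i h (Ideal.mem_sup_left ha)
        · exact Ideal.mem_sup_left (hanti h ha)
      · simpa using hb
    choose st hst using step
    let y : ∀ j, T j := Nat.rec (motive := T) ⟨x, h0⟩ (fun j z => st j z)
    have hd : ∀ {i j}, i ≤ j → (y j).1 - (y i).1 ∈ m ^ (N + i) := by
      intro i j h
      induction j, h using Nat.le_induction with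
      | base => simp
      | succ j hij ih =>
        have e : (y (j + 1)).1 - (y i).1 = ((st j (y j)).1 - (y j).1) + ((y j).1 - (y i).1) := by
          change (st j (y j)).1 - (y i).1 = _
          ring
        rw [e]
        exact add_mem (Ideal.pow_le_pow_right (by omega) (hst j (y j))) ih
    obtain ⟨L, hL⟩ := IsPrecomplete.prec (I := m) inferInstance (f := fun j => (y j).1)
      (fun {i j} h => by
        rw [SModEq.sub_mem, smul_eq_mul, Ideal.mul_top, ← neg_mem_iff, neg_sub]
        exact Ideal.pow_le_pow_right (by omega) (hd h))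
    simp only [SModEq.sub_mem, smul_eq_mul, Ideal.mul_top] at hL
    have hLI : L ∈ I := by
      refine (Submodule.mem_iInf _).mpr fun i => ?_
      obtain ⟨c, hc⟩ := mpow_le_ker (q i)
      obtain ⟨a, ha, b, hb, hab⟩ := Submodule.mem_sup.mp ((y (c + 1)).2 i)
      have hb' : b ∈ K i := hc (Ideal.pow_le_pow_right (by omega) hb)
      have : L = (a + b) - ((y (c + 1)).1 - L) := by rw [hab]; ring
      rw [this]
      exact (K i).sub_mem (add_mem ha hb') (hc (hL (c + 1)))
    refine Submodule.mem_sup.mpr ⟨L, hLI, x - L, ?_, by ring⟩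
    have e : x - L = -((y N).1 - x) + ((y N).1 - L) := by ring
    rw [e]
    exact add_mem (neg_mem (by
      have h := hd (Nat.zero_le N)
      exact h)) (hL N)
  have hIm : I ≤ m := (iInf_le K 0).trans fun a ha => by
    rw [CRing.mem_maximalIdeal_iff]
    have := congrArg (fun t : _ →ₐ[Λ] k => t a) (q 0).2
    rw [← this]
    change (A 0).res ((q 0).1 a) = 0
    rw [RingHom.mem_ker.mp ha, map_zero]
  obtain ⟨R, p, hp, hps, hpk⟩ := exists_quotient_cring S I hIm
  have hle : ∀ n, RingHom.ker p ≤ RingHom.ker (q n).1 := fun n => hpk ▸ iInf_le K n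
  let π₀ : ∀ n, R.carrier →ₐ[Λ] A n := fun n => AlgHom.liftOfSurjective p hps (q n).1 (hle n)
  have hπ₀ : ∀ n x, π₀ n (p x) = (q n).1 x := fun n x =>
    AlgHom.liftOfSurjective_apply p hps (q n).1 (hle n) x
  let π : ∀ n, HomSet R.carrier R.res (A n) := fun n => ⟨π₀ n, AlgHom.ext fun r => by
    obtain ⟨x, rfl⟩ := hps r
    change (A n).res (π₀ n (p x)) = R.res (p x)
    rw [hπ₀]
    exact (congrArg (fun t : _ →ₐ[Λ] k => t x) (q n).2).trans
      (congrArg (fun t : _ →ₐ[Λ] k => t x) hp).symm⟩
  have hmap : m.map p = maximalIdeal R.carrier :=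
    le_antisymm (Ideal.map_le_iff_le_comap.mpr (CRing.maximalIdeal_le_comap p hp)) fun r hr => by
      obtain ⟨x, rfl⟩ := hps r
      refine Ideal.mem_map_of_mem _ ?_
      rw [CRing.mem_maximalIdeal_iff, ← congrArg (fun t : _ →ₐ[Λ] k => t x) hp]
      exact (R.mem_maximalIdeal_iff _).mp hr
  have hcof : ∀ N, RingHom.ker (π (N₀ N)).1 ≤ maximalIdeal R.carrier ^ N := by
    intro N r hr
    obtain ⟨x, rfl⟩ := hps r
    have hx : x ∈ K (N₀ N) := by rw [hK, RingHom.mem_ker, ← hπ₀]; exact hr
    obtain ⟨a, ha, b, hb, rfl⟩ := Submodule.mem_sup.mp (hchev N hx)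
    rw [← hpk] at ha
    rw [map_add, RingHom.mem_ker.mp ha, zero_add, ← hmap, ← Ideal.map_pow]
    exact Ideal.mem_map_of_mem _ hb
  have hcompat : ∀ n, HomSet.map (f n) (π (n + 1)) = π n := fun n =>
    Subtype.ext (AlgHom.ext fun r => by
      obtain ⟨x, rfl⟩ := hps r
      change f n (π₀ (n + 1) (p x)) = π₀ n (p x)
      rw [hπ₀, hπ₀, ← hq n]
      rfl)
  have hπsurj : ∀ n, Function.Surjective (π n).1 := fun n b => by
    obtain ⟨x, rfl⟩ := hs n b
    exact ⟨p x, hπ₀ n x⟩
  refine ⟨R, p, π, hp, hps, ⟨hcompat, hπsurj, fun a ha => ?_, fun N => ⟨_, hcof N⟩⟩,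
    fun n => AlgHom.ext (hπ₀ n)⟩
  haveI := R.isAdicComplete
  let n' : ℕ → ℕ := fun N => max ((Finset.range (N + 1)).sup N₀) N
  have hn' : Monotone n' := fun i j h => max_le_max (Finset.sup_mono (Finset.range_mono (by omega))) h
  have hge : ∀ N, N₀ N ≤ n' N := fun N =>
    (Finset.le_sup (Finset.self_mem_range_succ N)).trans (le_max_left _ _)
  choose s hsn using fun N => hπsurj (n' N) (a (n' N))
  have hval : ∀ {i N}, i ≤ n' N → (π i).1 (s N) = a i := by
    intro i N h
    have key : ∀ d i, (π (i + d)).1 (s N) = a (i + d) → (π i).1 (s N) = a i := by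
      intro d
      induction d with
      | zero => exact fun i h => h
      | succ d ih =>
        intro i h
        refine ih i ?_
        rw [← ha (i + d), ← hcompat (i + d)]
        exact congrArg (f (i + d)) h
    obtain ⟨d, hd⟩ := Nat.exists_eq_add_of_le h
    exact key d i (hd ▸ hsn N)
  obtain ⟨L, hL⟩ := IsPrecomplete.prec (I := maximalIdeal R.carrier) inferInstance (f := s)
    (fun {i j} h => by
      rw [SModEq.sub_mem, smul_eq_mul, Ideal.mul_top]
      refine hcof i ?_
      rw [RingHom.mem_ker, map_sub, hval (hge i), hval ((hge i).trans (hn' h)), sub_self])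
  simp only [SModEq.sub_mem, smul_eq_mul, Ideal.mul_top] at hL
  refine ⟨L, fun n => ?_, fun L' hL' => ?_⟩
  · obtain ⟨c, hc⟩ := mpow_le_ker (π n)
    let M := max (c + 1) n
    rw [← hval (N := M) ((le_max_right _ _).trans (le_max_right _ _)), eq_comm, ← sub_eq_zero, ← map_sub]
    exact hc (Ideal.pow_le_pow_right (le_max_left _ _) (hL M))
  · refine sub_eq_zero.mp (IsHausdorff.haus (I := maximalIdeal R.carrier) inferInstance _ fun N => ?_)
    rw [SModEq.sub_mem, sub_zero, smul_eq_mul, Ideal.mul_top]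
    have e1 : L' - L = (L' - s N) + (s N - L) := by ring
    rw [e1]
    refine add_mem (hcof N ?_) (hL N)
    rw [RingHom.mem_ker, map_sub, hL', hval (hge N), sub_self]

variable {F : Art Λ k ⥤ Type v}

theorem cofinal_ker {R : CRing Λ k} {π : ∀ n, HomSet R.carrier R.res (A n)} (hπ : IsLim A f R π)
    {B : Art Λ k} (φ : HomSet R.carrier R.res B) : ∃ n, RingHom.ker (π n).1 ≤ RingHom.ker φ.1 := by
  obtain ⟨c, hc⟩ := mpow_le_ker φ
  obtain ⟨n, hn⟩ := hπ.cofinal (c + 1)
  exact ⟨n, hn.trans hc⟩

theorem exists_factor {R : CRing Λ k} {π : ∀ n, HomSet R.carrier R.res (A n)}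
    (hπ : IsLim A f R π) {B : Art Λ k} (φ : HomSet R.carrier R.res B) {n : ℕ}
    (hn : RingHom.ker (π n).1 ≤ RingHom.ker φ.1) : ∃ g : A n ⟶ B, HomSet.map g (π n) = φ := by
  refine ⟨⟨AlgHom.liftOfSurjective (π n).1 (hπ.surjective n) φ.1 hn, AlgHom.ext fun x => ?_⟩,
    Subtype.ext (AlgHom.ext fun r => AlgHom.liftOfSurjective_apply (π n).1 (hπ.surjective n) φ.1 hn r)⟩
  obtain ⟨r, rfl⟩ := hπ.surjective n x
  rw [AlgHom.comp_apply, AlgHom.liftOfSurjective_apply]
  exact (congrArg (fun t : _ →ₐ[Λ] k => t r) φ.2).trans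
    (congrArg (fun t : _ →ₐ[Λ] k => t r) (π n).2).symm

theorem homSet_map_injective {R : CRing Λ k} {B C : Art Λ k} {ψ : HomSet R.carrier R.res B}
    (hψ : Function.Surjective ψ.1) {g g' : B ⟶ C} (h : HomSet.map g ψ = HomSet.map g' ψ) :
    g = g' := by
  refine Art.hom_ext (AlgHom.ext fun x => ?_)
  obtain ⟨r, rfl⟩ := hψ x
  exact congrArg (fun t => t.1 r) h

theorem exists_family_system {R : CRing Λ k} {π : ∀ n, HomSet R.carrier R.res (A n)}
    (hπ : IsLim A f R π) (η : ∀ n, F.obj (A n)) (hη : ∀ n, F.map (f n) (η (n + 1)) = η n) :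
    ∃ ξ : Family R.carrier R.res F, ∀ n, ξ.app _ (π n) = η n := by
  classical
  have indep : ∀ {B : Art Λ k} (i j : ℕ), i ≤ j → ∀ (g : A i ⟶ B) (g' : A j ⟶ B),
      HomSet.map g (π i) = HomSet.map g' (π j) → F.map g (η i) = F.map g' (η j) := by
    intro B i j h
    induction j, h using Nat.le_induction with
    | base => exact fun g g' e => by rw [homSet_map_injective (hπ.surjective i) e]
    | succ j hij ih =>
      intro g g' e
      have hker : RingHom.ker (π j).1 ≤ RingHom.ker (HomSet.map g (π i)).1 := fun r hr => by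
        have h0 : (π i).1 r = 0 := (ker_antitone hπ.compat hij hr : _)
        change g ((π i).1 r) = 0
        rw [h0, map_zero]
      obtain ⟨g'', hg''⟩ := exists_factor hπ _ hker
      rw [ih g g'' hg''.symm, ← hη j, ← map_comp_apply',
        homSet_map_injective (hπ.surjective (j + 1)) (g := f j ≫ g'') (g' := g') ?_]
      rw [← e, ← hg'']
      exact Subtype.ext (AlgHom.ext fun r => congrArg g'' (congrArg (fun t => t.1 r) (hπ.compat j)))
  have indep' : ∀ {B : Art Λ k} (i j : ℕ) (g : A i ⟶ B) (g' : A j ⟶ B),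
      HomSet.map g (π i) = HomSet.map g' (π j) → F.map g (η i) = F.map g' (η j) := by
    intro B i j g g' e
    rcases le_total i j with h | h
    · exact indep i j h g g' e
    · exact (indep j i h g' g e.symm).symm
  choose N hN using fun (B : Art Λ k) (φ : HomSet R.carrier R.res B) => cofinal_ker hπ φ
  choose g hg using fun (B : Art Λ k) (φ : HomSet R.carrier R.res B) =>
    exists_factor hπ φ (hN B φ)
  refine ⟨⟨fun B φ => F.map (g B φ) (η _), fun {B C} h φ => ?_⟩, fun n => ?_⟩
  · rw [← map_comp_apply']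
    refine indep' _ _ _ _ ?_
    rw [hg]
    exact Subtype.ext (AlgHom.ext fun r => congrArg h (congrArg (fun t => t.1 r) (hg B φ)).symm)
  · change F.map (g _ (π n)) (η _) = η n
    rw [indep' _ n (g _ (π n)) (𝟙 _) ((hg _ _).trans (Subtype.ext (AlgHom.ext fun _ => rfl))),
      map_id_apply']

end System

end Groth.Agent.H24Art
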