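import Groth.Agent.H24Art.AdicSmooth
import Groth.Agent.H24Art.Prorep
import Groth.Agent.H24Obs.Presentation
import Groth.Agent.H05EGA4.Completion
import Groth.Agent.H02CA.CompletionFlat
import Groth.Agent.H05EGA4.Regular
import Mathlib.RingTheory.AdicCompletion.LocalRing
import Mathlib.RingTheory.RegularLocalRing.Defs

/-!
# Functors pro-represented by Noetherian local algebras which need not be complete
-/

set_option autoImplicit false
set_option linter.style.haveILetI false
universe u v
open CategoryTheory ArtFun ArtFun.Art IsLocalRing

namespace Groth.Agent.H24Art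

variable {k : Type u} [Field k]

/-- The derivations into the residue field have the dimension of the cotangent space. -/
theorem finrank_derivation {R : Type u} [CommRing R] [IsLocalRing R] [IsNoetherianRing R] [Algebra k R]
    [Algebra R k] [IsScalarTower k R k] (hR : Function.Surjective (algebraMap R k)) :
    Module.finrank k (Derivation k R k) = Module.finrank (ResidueField R) (CotangentSpace R) := by
  classical
  let b := Module.finBasis (ResidueField R) (CotangentSpace R)
  choose v hv using fun i => (maximalIdeal R).toCotangent_surjective (b i)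
  have hker : RingHom.ker (algebraMap R k) = maximalIdeal R :=
    IsLocalRing.eq_maximalIdeal (RingHom.ker_isMaximal_of_surjective (algebraMap R k) hR)
  let θ : ResidueField R →+* k := Ideal.Quotient.lift (maximalIdeal R) (algebraMap R k) fun a ha => by
    rw [← hker] at ha; exact ha
  have hθ : ∀ a, θ (residue R a) = algebraMap R k a := fun a => rfl
  let c : R → k := algebraMap R k
  have hc : ∀ r : R, r - algebraMap k R (c r) ∈ maximalIdeal R := fun r => by
    rw [← hker, RingHom.mem_ker, map_sub, ← IsScalarTower.algebraMap_apply k R k, Algebra.algebraMap_self,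
      RingHom.id_apply, sub_self]
  let cls : R → CotangentSpace R := fun r => (maximalIdeal R).toCotangent ⟨_, hc r⟩
  let ev : Derivation k R k →ₗ[k] (Fin (Module.finrank (ResidueField R) (CotangentSpace R)) → k) :=
    { toFun := fun D i => D (v i)
      map_add' := fun _ _ => rfl
      map_smul' := fun _ _ => rfl }
  have hinj : Function.Injective ev := by
    rw [injective_iff_map_eq_zero]
    intro D hD
    have hm : ∀ m : maximalIdeal R, D m = 0 := fun m => by
      have h2 : ∀ z ∈ maximalIdeal R ^ 2, D z = 0 := fun z hz => by
        rw [pow_two] at hz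
        refine Submodule.mul_induction_on hz (fun a ha b hb => ?_) fun a b ha hb => by rw [map_add, ha, hb, add_zero]
        rw [← hker, RingHom.mem_ker] at ha hb
        rw [Derivation.leibniz, Algebra.smul_def, Algebra.smul_def, ha, hb, zero_mul, zero_mul, add_zero]
      have hsum := b.sum_repr ((maximalIdeal R).toCotangent m)
      choose a ha using fun i => residue_surjective (b.repr ((maximalIdeal R).toCotangent m) i)
      have h3 : (maximalIdeal R).toCotangent (m - ∑ i, a i • v i) = 0 := by
        rw [map_sub, map_sum, sub_eq_zero, ← hsum]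
        exact Finset.sum_congr rfl fun i _ => by
          rw [map_smul, hv, ← ha, ← IsLocalRing.ResidueField.algebraMap_eq, algebraMap_smul]
      have h4 := h2 _ ((Ideal.toCotangent_eq_zero _ _).1 h3)
      rw [AddSubgroupClass.coe_sub, map_sub, sub_eq_zero] at h4
      rw [h4, AddSubmonoidClass.coe_finsetSum, map_sum]
      refine Finset.sum_eq_zero fun i _ => ?_
      show D (a i * (v i : R)) = 0
      have hvi : algebraMap R k (v i : R) = 0 := by rw [← RingHom.mem_ker, hker]; exact (v i).2
      rw [Derivation.leibniz, show D (v i : R) = 0 from congrFun hD i, smul_zero, zero_add, Algebra.smul_def, hvi,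
        zero_mul]
    refine Derivation.ext fun r => ?_
    have h := hm ⟨_, hc r⟩
    rw [map_sub, Derivation.map_algebraMap, sub_zero] at h
    exact h
  have hsurj : Function.Surjective ev := by
    intro w
    let l : CotangentSpace R → k := fun z => ∑ i, w i * θ (b.repr z i)
    have hladd : ∀ z z', l (z + z') = l z + l z' := fun z z' => by
      simp [l, mul_add, Finset.sum_add_distrib]
    have hlsmul : ∀ (r : R) z, l (r • z) = algebraMap R k r * l z := fun r z => by
      simp only [l]
      rw [← algebraMap_smul (ResidueField R) r z, map_smul, Finset.mul_sum]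
      refine Finset.sum_congr rfl fun i _ => ?_
      rw [Finsupp.smul_apply, smul_eq_mul, map_mul, IsLocalRing.ResidueField.algebraMap_eq, hθ]
      ring
    have hcls : ∀ (r : R) (h : r ∈ maximalIdeal R), cls r = (maximalIdeal R).toCotangent ⟨r, h⟩ := fun r h => by
      refine (Ideal.toCotangent_eq _).2 ?_
      show r - algebraMap k R (c r) - r ∈ _
      rw [show c r = 0 by rw [← RingHom.mem_ker, hker]; exact h, map_zero, sub_zero, sub_self]
      exact zero_mem _
    let D : Derivation k R k := Derivation.mk'
      { toFun := fun r => l (cls r)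
        map_add' := fun r r' => by
          rw [← hladd]
          refine congrArg l ?_
          simp only [cls]
          rw [← map_add]
          congr 1
          exact Subtype.ext (by simp [c]; ring)
        map_smul' := fun e r => by
          rw [RingHom.id_apply, smul_eq_mul, show e = algebraMap R k (algebraMap k R e) from
            (IsScalarTower.algebraMap_apply k R k e), ← hlsmul, ← IsScalarTower.algebraMap_apply k R k]
          refine congrArg l ?_
          simp only [cls]
          rw [← map_smul]
          congr 1
          exact Subtype.ext (by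
            simp [c, Algebra.smul_def, ← IsScalarTower.algebraMap_apply k R k, mul_sub]) }
      fun r r' => by
        show l (cls (r * r')) = r • l (cls r') + r' • l (cls r)
        rw [Algebra.smul_def, Algebra.smul_def, ← hlsmul, ← hlsmul, ← hladd]
        refine congrArg l ?_
        simp only [cls]
        rw [← map_smul, ← map_smul, ← map_add]
        refine (Ideal.toCotangent_eq _).2 ?_
        have e : r * r' - algebraMap k R (c (r * r')) - (r * (r' - algebraMap k R (c r')) + r' * (r - algebraMap k R (c r))) =
            -((r - algebraMap k R (c r)) * (r' - algebraMap k R (c r'))) := by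
          simp [c]; ring
        show r * r' - algebraMap k R (c (r * r')) - (r * (r' - algebraMap k R (c r')) + r' * (r - algebraMap k R (c r))) ∈ _
        rw [e, pow_two, neg_mem_iff]
        exact Ideal.mul_mem_mul (hc r) (hc r')
    refine ⟨D, funext fun j => ?_⟩
    show l (cls (v j : R)) = w j
    rw [hcls _ (v j).2, Subtype.coe_eta, hv]
    simp [l, Finsupp.single_apply, apply_ite θ, mul_ite]
  rw [LinearEquiv.finrank_eq (LinearEquiv.ofBijective ev ⟨hinj, hsurj⟩), Module.finrank_fintype_fun_eq_card,
    Fintype.card_fin]

/-- A coefficient ring over a field is regular when its functor is smooth. -/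
theorem isRegularLocalRing_of_smooth (C : CRing k k) (hC : IsSmoothFunctor (hR C.carrier C.res)) :
    IsRegularLocalRing C.carrier := by
  obtain ⟨d, π, hπ, hker⟩ := H24Obs.exists_presentation C
  let P := pscr (H24Obs.fieldCRing k) d
  have hπres : C.res.comp π = P.res := H24Obs.algHom_to_k _
  obtain ⟨σ, hσ, hπσ⟩ := exists_section (C := P) π hπres hπ hC
  have hσs : Function.Surjective σ := ((tfae_cring C P σ hσ).out 1 0).mp (by
    refine le_antisymm (sup_le (Ideal.map_le_iff_le_comap.mpr
      (CRing.maximalIdeal_le_comap (R' := C) (R := P) σ hσ)) (Ideal.pow_le_self two_ne_zero)) fun z hz => ?_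
    have h1 : z - σ (π z) ∈ maximalIdeal P.carrier ^ 2 := hker (by
      show π (z - σ (π z)) = 0
      rw [map_sub, show π (σ (π z)) = π z from congrArg (fun t : _ →ₐ[k] C.carrier => t (π z)) hπσ, sub_self])
    rw [← sub_add_cancel z (σ (π z))]
    refine add_mem (Ideal.mem_sup_right h1) (Ideal.mem_sup_left (Ideal.mem_map_of_mem _ ?_))
    exact CRing.maximalIdeal_le_comap (R' := P) (R := C) π hπres hz)
  have hinj : Function.Injective π := fun a b hab => by
    obtain ⟨a, rfl⟩ := hσs a
    obtain ⟨b, rfl⟩ := hσs b
    have ha := congrArg (fun t : _ →ₐ[k] C.carrier => t a) hπσ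
    have hb := congrArg (fun t : _ →ₐ[k] C.carrier => t b) hπσ
    exact congrArg σ ((ha.symm.trans hab).trans hb)
  haveI : IsRegularLocalRing (MvPowerSeries (Fin d) k) := H02CA.PS.isRegularLocalRing_fin d
  exact IsRegularLocalRing.of_ringEquiv (RingEquiv.ofBijective π ⟨hinj, hπ⟩ : MvPowerSeries (Fin d) k ≃+* C.carrier)

variable {P : Type u} [CommRing P] [IsLocalRing P] [IsNoetherianRing P] [Algebra k P] {ρ : P →ₐ[k] k}
  {F : Art k k ⥤ Type v} (ξ : Family P ρ F) (hρ : Function.Surjective ρ) (hξ : IsUniversal ξ)

include hρ hξ

/-- The completion pro-represents the same functor. -/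
theorem exists_proRep_completion : ∃ R : ProRep F,
    Nonempty (AdicCompletion (maximalIdeal P) P ≃+* R.ring.carrier) := by
  obtain ⟨R, ι, hι, he⟩ := exists_isCompl_adic (ρ := ρ) hρ (IsNoetherian.noetherian _)
  have hker : RingHom.ker ρ = maximalIdeal P :=
    IsLocalRing.eq_maximalIdeal (RingHom.ker_isMaximal_of_surjective (ρ : P →+* k) hρ)
  refine ⟨⟨R, ξ.along ι hι.res_comp, fun A => (hξ A).comp (hι.bijective A)⟩, ?_⟩
  rw [← hker]
  exact he

/-- Unobstructedness gives regularity. -/
theorem isRegularLocalRing_of_isSmoothFunctor (hF : IsSmoothFunctor F) : IsRegularLocalRing P := by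
  obtain ⟨R, ⟨e⟩⟩ := exists_proRep_completion ξ hρ hξ
  haveI := isRegularLocalRing_of_smooth R.ring ((isSmoothFunctor_iff_of_isVersal
    (h0_of_isUniversal R.family R.universal) R.family (isVersal_of_isUniversal R.family R.universal)).1 hF)
  haveI := H05EGA4.isNoetherianRing_adicCompletion P (maximalIdeal P)
  haveI : IsRegularLocalRing (AdicCompletion (maximalIdeal P) P) := IsRegularLocalRing.of_ringEquiv e.symm
  haveI : Module.Flat P (AdicCompletion (maximalIdeal P) P) := AdicCompletion.flat_of_isNoetherian _
  exact H05EGA4.isRegularLocalRing_of_flat (B := AdicCompletion (maximalIdeal P) P)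

/-- The cotangent space has the dimension of the tangent space of the functor. -/
theorem finrank_cotangentSpace_eq_tangent [TangentStr F] :
    Module.finrank (ResidueField P) (CotangentSpace P) = Module.finrank k (TangentSpace F) := by
  obtain ⟨R, ⟨e⟩⟩ := exists_proRep_completion ξ hρ hξ
  letI := algK R.ring
  have h1 : Module.finrank k (Derivation k R.ring.carrier k) = Module.finrank k (TangentSpace F) :=
    LinearEquiv.finrank_eq (LinearEquiv.ofBijective (tangentLinear R.family)
      ⟨fun D D' h => homOfDer_injective ((R.universal _).1 h), fun θ => by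
        obtain ⟨φ, hφ⟩ := (R.universal _).2 θ
        exact ⟨derOfHom φ, (congrArg (R.family.app _) (homOfDer_derOfHom φ)).trans hφ⟩⟩)
  rw [← h1, finrank_derivation (R := R.ring.carrier) R.ring.res_surjective,
    ← spanFinrank_maximalIdeal_eq_finrank_cotangentSpace, ← spanFinrank_maximalIdeal_eq_finrank_cotangentSpace,
    ← AdicCompletion.spanFinrank_maximalIdeal_eq (R := P)]
  haveI : IsLocalHom (e : AdicCompletion (maximalIdeal P) P →+* R.ring.carrier) := inferInstance
  rw [← Ideal.spanFinrank_map_eq_of_ringEquiv e (maximalIdeal _)]
  congr 1
  exact IsLocalRing.map_maximalIdeal_of_surjective (e : AdicCompletion (maximalIdeal P) P →+* R.ring.carrier) e.surjective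

end Groth.Agent.H24Art
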