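import Groth.Agent.H24Art.Cover
import Groth.Agent.S12728
import Groth.Agent.S12729

/-!
Construction of versal families (Schlessinger's theorem).
-/

universe u v

open CategoryTheory

namespace Groth.Agent.H24Art

open ArtFun ArtFun.Art IsLocalRing

variable {Λ : Type u} {k : Type u} [CommRing Λ] [Field k] [Algebra Λ k]

section Coord

variable (Λ k) in
/-- `k ⊕ k^d`. -/
noncomputable def dualN (d : ℕ) : Art Λ k :=
  { carrier := TrivSqZeroExt k (Fin d → k)
    isLocalRing := isLocalRing_tsze k (Fin d → k)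
    isArtinianRing := isArtinianRing_tsze k (Fin d → k)
    res := TrivSqZeroExt.fstHom Λ k (Fin d → k)
    res_surjective := fun a => ⟨TrivSqZeroExt.inl a, rfl⟩ }

noncomputable def tmN1 {d : ℕ} (f : (Fin d → k) →ₗ[k] k) : dualN Λ k d ⟶ dual Λ k :=
  ⟨tszeMap f, AlgHom.ext fun _ => rfl⟩

noncomputable def tmN2 {d : ℕ} (f : (Fin d → k) →ₗ[k] k × k) : dualN Λ k d ⟶ dual2 Λ k :=
  ⟨tszeMap f, AlgHom.ext fun _ => rfl⟩

noncomputable def tmNN {d e : ℕ} (f : (Fin d → k) →ₗ[k] (Fin e → k)) :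
    dualN Λ k d ⟶ dualN Λ k e :=
  ⟨tszeMap f, AlgHom.ext fun _ => rfl⟩

theorem isFibreProd_dualN (d : ℕ) :
    IsFibreProd (tmNN (LinearMap.funLeft k k Fin.succ) : dualN Λ k (d + 1) ⟶ dualN Λ k d)
      (tmN1 (LinearMap.proj 0)) (toBase (dualN Λ k d)) (toBase (dual Λ k)) where
  w := (eq_toBase _).trans (eq_toBase _).symm
  inj b b' h₁ h₂ := by
    have e₁ : b.fst = b'.fst := by have e := congrArg TrivSqZeroExt.fst h₁; exact e
    have e₂ : ∀ i : Fin d, b.snd i.succ = b'.snd i.succ := fun i => by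
      have e := congrArg (fun w : TrivSqZeroExt k (Fin d → k) => TrivSqZeroExt.snd w i) h₁; exact e
    have e₃ : b.snd 0 = b'.snd 0 := by have e := congrArg TrivSqZeroExt.snd h₂; exact e
    exact TrivSqZeroExt.ext e₁ (funext fun i => Fin.cases e₃ e₂ i)
  surj a' a'' h := by
    have h' : a'.fst = a''.fst := h
    exact ⟨(a'.fst, Fin.cons a''.snd a'.snd), TrivSqZeroExt.ext rfl (funext fun i => rfl),
      TrivSqZeroExt.ext h' rfl⟩

variable {F : Art Λ k ⥤ Type v}

theorem exists_coord (h0 : H0 F) (h2 : Heps F) :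
    ∀ {d : ℕ} (θ : Fin d → F.obj (dual Λ k)),
      ∃ η : F.obj (dualN Λ k d), ∀ j, F.map (tmN1 (LinearMap.proj j)) η = θ j
  | 0, _ => by
    haveI : IsIso (toBase (dualN Λ k 0)) := isIso_of_bijective _
      ⟨fun a b h => TrivSqZeroExt.ext h (funext fun i => i.elim0), (dualN Λ k 0).res_surjective⟩
    obtain ⟨x₀⟩ := h0.1
    exact ⟨F.map (inv (toBase (dualN Λ k 0))) x₀, fun j => j.elim0⟩
  | d + 1, θ => by
    obtain ⟨η', hη'⟩ := exists_coord h0 h2 (fun j : Fin d => θ j.succ)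
    obtain ⟨η, hη⟩ := (h2 _ _ (isFibreProd_dualN (Λ := Λ) (k := k) d)).surjective
      ⟨(η', θ 0), h0.2.elim _ _⟩
    have e₁ : F.map (tmNN (LinearMap.funLeft k k Fin.succ)) η = η' :=
      congrArg (fun w => w.1.1) hη
    have e₂ : F.map (tmN1 (LinearMap.proj 0)) η = θ 0 := congrArg (fun w => w.1.2) hη
    refine ⟨η, fun j => Fin.cases e₂ (fun i => ?_) j⟩
    rw [← hη' i, ← e₁, ← map_comp_apply']
    rfl

/-- The linear map `(k^d)^* → t_F` attached to an element over `k ⊕ k^d`. -/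
noncomputable def coordMap [TangentStr F] {d : ℕ} (η : F.obj (dualN Λ k d)) :
    ((Fin d → k) →ₗ[k] k) →ₗ[k] TangentSpace F where
  toFun a := TangentSpace.mk (F.map (tmN1 a) η)
  map_add' a b := by
    have i₁ : tmN2 (LinearMap.prod a b) ≫ pr₁ = (tmN1 a : dualN Λ k d ⟶ _) :=
      Art.hom_ext (AlgHom.ext fun _ => rfl)
    have i₂ : tmN2 (LinearMap.prod a b) ≫ pr₂ = (tmN1 b : dualN Λ k d ⟶ _) :=
      Art.hom_ext (AlgHom.ext fun _ => rfl)
    have i₃ : tmN2 (LinearMap.prod a b) ≫ plus = (tmN1 (a + b) : dualN Λ k d ⟶ _) :=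
      Art.hom_ext (AlgHom.ext fun _ => rfl)
    rw [← i₁, ← i₂, ← i₃, map_comp_apply', map_comp_apply', map_comp_apply']
    exact (TangentStr.add_eq _).symm
  map_smul' c a := by
    have i : tmN1 a ≫ scale c = (tmN1 (c • a) : dualN Λ k d ⟶ _) :=
      Art.hom_ext (AlgHom.ext fun _ => rfl)
    rw [← i, map_comp_apply']
    exact (TangentStr.smul_eq c _).symm

theorem coordMap_surjective [TangentStr F] {d : ℕ} {η : F.obj (dualN Λ k d)}
    {θ : Fin d → TangentSpace F} (hθ : Submodule.span k (Set.range θ) = ⊤)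
    (hη : ∀ j, F.map (tmN1 (LinearMap.proj j)) η = θ j) : Function.Surjective (coordMap η) := by
  rw [← LinearMap.range_eq_top, eq_top_iff, ← hθ, Submodule.span_le]
  rintro _ ⟨j, rfl⟩
  exact ⟨LinearMap.proj j, hη j⟩

end Coord

section Versal

variable {F : Art Λ k ⥤ Type v} [IsNoetherianRing Λ] [Module.Finite Λ k]

/-- The data of one step of the construction. -/
structure Stage (S : CRing Λ k) (F : Art Λ k ⥤ Type v) where
  A : Art Λ k
  q : HomSet S.carrier S.res A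
  hq : Function.Surjective q.1
  η : F.obj A

theorem exists_step (h1 : S1 F) {S : CRing Λ k} (s : Stage S F) :
    ∃ (s' : Stage S F) (f : s'.A ⟶ s.A), Function.Surjective f ∧ HomSet.map f s'.q = s.q ∧
      F.map f s'.η = s.η ∧
      ∀ (P : Art Λ k) (p : P ⟶ s.A) (χ : HomSet S.carrier S.res P) (z : F.obj P),
        IsSmallExt p → Function.Surjective χ.1 → HomSet.map p χ = s.q → F.map p z = s.η →
          ∃ r : s'.A ⟶ P, HomSet.map r s'.q = χ := by
  classical
  set m := maximalIdeal S.carrier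
  set K := RingHom.ker s.q.1 with hKdef
  set L : Ideal S.carrier := m * K with hLdef
  obtain ⟨c, hc⟩ := mpow_le_ker s.q
  have hcL : m ^ (c + 2) ≤ L := by
    rw [pow_succ']; exact Ideal.mul_mono_right hc
  have hLm : L ≤ m := Ideal.mul_le_left.trans le_rfl
  -- the Artinian ring `S ⧸ L`
  haveI : Nontrivial (S.carrier ⧸ L) := Ideal.Quotient.nontrivial_iff.mpr fun h =>
    (IsLocalRing.maximalIdeal.isMaximal S.carrier).ne_top (top_le_iff.mp (h ▸ hLm))
  haveI : IsLocalRing (S.carrier ⧸ L) :=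
    IsLocalRing.of_surjective' (Ideal.Quotient.mk L) Ideal.Quotient.mk_surjective
  haveI := CRing.isArtinianRing_quot_mpow S (c + 1)
  haveI : IsArtinianRing (S.carrier ⧸ L) :=
    (Ideal.Quotient.factor_surjective (S := S.mpow (c + 1)) (T := L) hcL).isArtinianRing
  let B : Art Λ k :=
    { carrier := S.carrier ⧸ L
      res := Ideal.Quotient.liftₐ L S.res fun a ha => (S.mem_maximalIdeal_iff a).mp (hLm ha)
      res_surjective := fun x => by
        obtain ⟨a, ha⟩ := S.res_surjective x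
        exact ⟨Ideal.Quotient.mk L a, ha⟩ }
  let qB : HomSet S.carrier S.res B := ⟨Ideal.Quotient.mkₐ Λ L, Ideal.Quotient.liftₐ_comp _ _ _⟩
  have hqB : Function.Surjective qB.1 := Ideal.Quotient.mk_surjective
  have factor : ∀ {P : Art Λ k} (χ : HomSet S.carrier S.res P), L ≤ RingHom.ker χ.1 →
      ∃ r : B ⟶ P, HomSet.map r qB = χ := fun {P} χ hχ =>
    ⟨⟨Ideal.Quotient.liftₐ L χ.1 fun a ha => RingHom.mem_ker.mp (hχ ha), AlgHom.ext fun x => by
      obtain ⟨a, rfl⟩ := Ideal.Quotient.mk_surjective x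
      exact congrArg (fun t : _ →ₐ[Λ] k => t a) χ.2⟩, Subtype.ext (AlgHom.ext fun _ => rfl)⟩
  obtain ⟨p₀, hp₀⟩ := factor s.q Ideal.mul_le_right
  have hp₀s : Function.Surjective p₀ := fun a => by
    obtain ⟨x, rfl⟩ := s.hq a
    exact ⟨qB.1 x, congrArg (fun t => t.1 x) hp₀⟩
  have hp₀semi : IsSemismallExt p₀ := by
    refine ⟨hp₀s, ?_⟩
    rw [eq_bot_iff, Ideal.mul_le]
    intro a ha b hb
    obtain ⟨a, rfl⟩ := hqB a
    obtain ⟨b, rfl⟩ := hqB b
    have ha' : a ∈ m := by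
      rw [CRing.mem_maximalIdeal_iff, ← congrArg (fun t : _ →ₐ[Λ] k => t a) qB.2]
      exact (B.mem_maximalIdeal_iff _).mp ha
    have hb' : b ∈ K := by
      rw [hKdef, RingHom.mem_ker, ← congrArg (fun t => t.1 b) hp₀]
      exact hb
    rw [Ideal.mem_bot, ← map_mul]
    exact Ideal.Quotient.eq_zero_iff_mem.mpr (Ideal.mul_mem_mul ha' hb')
  obtain ⟨J₀, hJ, hJm, ⟨y, hy⟩, hleast⟩ := Groth.Agent.S12729.result h1 p₀ hp₀semi s.η
  refine ⟨⟨quot B J₀ hJm, HomSet.map (quotMk B J₀ hJm) qB, (quotMk_surjective _ _ _).comp hqB, y⟩,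
    quotFactor hJm p₀ hJ, fun a => ?_, ?_, hy, fun P p χ z hp hχ hpχ hz => ?_⟩
  · obtain ⟨b, rfl⟩ := hp₀s a
    exact ⟨quotMk B J₀ hJm b, rfl⟩
  · rw [← hp₀]; exact Subtype.ext (AlgHom.ext fun _ => rfl)
  · have hLχ : L ≤ RingHom.ker χ.1 := by
      rw [hLdef, Ideal.mul_le]
      intro a ha b hb
      have e : p (χ.1 b) = 0 :=
        (congrArg (fun t : HomSet S.carrier S.res s.A => t.1 b) hpχ).trans (RingHom.mem_ker.mp hb)
      have : χ.1 a * χ.1 b ∈ (⊥ : Ideal P) := by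
        rw [← hp.2.2.2]
        refine Ideal.mul_mem_mul ?_ (RingHom.mem_ker.mpr e)
        rw [mem_maximalIdeal_iff]
        exact (congrArg (fun t : _ →ₐ[Λ] k => t a) χ.2).trans ((S.mem_maximalIdeal_iff a).mp ha)
      rw [RingHom.mem_ker, map_mul]
      exact Ideal.mem_bot.mp this
    obtain ⟨r, hr⟩ := factor χ hLχ
    have hrp : r ≫ p = p₀ := homSet_map_injective hqB (by
      rw [hp₀, ← hpχ, ← hr]; rfl)
    have hrs : Function.Surjective r := fun a => by
      obtain ⟨x, rfl⟩ := hχ a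
      exact ⟨qB.1 x, congrArg (fun t => t.1 x) hr⟩
    have hkJ : RingHom.ker r.toAlgHom ≤ RingHom.ker p₀.toAlgHom := fun b hb => by
      rw [RingHom.mem_ker, ← hrp]
      change p (r b) = 0
      rw [RingHom.mem_ker.mp hb, map_zero]
    have hkm := ker_le_maximalIdeal r
    haveI : IsIso (quotFactor hkm r le_rfl) := isIso_of_bijective _
      ⟨fun a b h => by
        obtain ⟨a, rfl⟩ := Ideal.Quotient.mk_surjective a
        obtain ⟨b, rfl⟩ := Ideal.Quotient.mk_surjective b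
        refine Ideal.Quotient.eq.mpr ?_
        rw [RingHom.mem_ker, map_sub, sub_eq_zero]
        exact h,
      fun a => by
        obtain ⟨b, rfl⟩ := hrs a
        exact ⟨quotMk B _ hkm b, rfl⟩⟩
    have hle : J₀ ≤ RingHom.ker r.toAlgHom := by
      refine hleast _ hkJ hkm ⟨F.map (inv (quotFactor hkm r le_rfl)) z, ?_⟩
      have e : quotFactor hkm p₀ hkJ = quotFactor hkm r le_rfl ≫ p :=
        Art.hom_ext (AlgHom.ext fun x => by
          obtain ⟨a, rfl⟩ := Ideal.Quotient.mk_surjective x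
          exact (congrArg (fun g : B ⟶ s.A => g a) hrp).symm)
      rw [e, map_comp_apply', ← map_comp_apply' F (inv _), IsIso.inv_hom_id, map_id_apply', hz]
    exact ⟨quotFactor hJm r hle, by rw [← hr]; exact Subtype.ext (AlgHom.ext fun _ => rfl)⟩

/-- The dichotomy for lifts to small extensions. -/
theorem surjective_or_factor {S : CRing Λ k} {A P : Art Λ k} {q : HomSet S.carrier S.res A}
    (hq : Function.Surjective q.1) {p : P ⟶ A} (hp : IsSmallExt p)
    {χ : HomSet S.carrier S.res P} (hχ : HomSet.map p χ = q) :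
    Function.Surjective χ.1 ∨ RingHom.ker q.1 ≤ RingHom.ker χ.1 := by
  classical
  by_cases h : RingHom.ker q.1 ≤ RingHom.ker χ.1
  · exact Or.inr h
  left
  obtain ⟨x, hx, hx'⟩ := SetLike.not_le_iff_exists.mp h
  have hxk : p (χ.1 x) = 0 :=
    (congrArg (fun t : HomSet S.carrier S.res A => t.1 x) hχ).trans (RingHom.mem_ker.mp hx)
  obtain ⟨t, ht⟩ := exists_gen hp
  have hmem : χ.1 x ∈ Ideal.span {t} := by rw [← ht]; exact hxk
  obtain ⟨c, hc⟩ := Ideal.mem_span_singleton'.mp hmem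
  have hu : IsUnit c := by
    by_contra hn
    apply hx'
    rw [RingHom.mem_ker, ← hc, mul_eq_zero_iff_res hp ht, ← mem_maximalIdeal_iff]
    exact (IsLocalRing.mem_maximalIdeal c).mpr hn
  intro y
  obtain ⟨s₁, hs₁⟩ := hq (p y)
  have hd : y - χ.1 s₁ ∈ Ideal.span {t} := by
    rw [← ht, RingHom.mem_ker, map_sub, sub_eq_zero, ← hs₁, ← hχ]
    rfl
  obtain ⟨e, he⟩ := Ideal.mem_span_singleton'.mp hd
  obtain ⟨s₂, hs₂⟩ := S.res_surjective (P.res (e * ↑hu.unit⁻¹))
  refine ⟨s₁ + s₂ * x, ?_⟩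
  rw [map_add, map_mul, ← hc]
  have h0 : (χ.1 s₂ * c - e) * t = 0 := by
    rw [mul_eq_zero_iff_res hp ht, map_sub, map_mul,
      show P.res (χ.1 s₂) = S.res s₂ from congrArg (fun t : _ →ₐ[Λ] k => t s₂) χ.2, hs₂,
      ← map_mul, mul_assoc, hu.val_inv_mul, mul_one, sub_self]
  linear_combination h0 + he

theorem exists_versal (h0 : H0 F) (h1 : S1 F) (h2 : Heps F) (S : CRing Λ k)
    (hS : IsSmoothFunctor (hR S.carrier S.res)) (A₁ : Art Λ k) (q₁ : HomSet S.carrier S.res A₁)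
    (hq₁ : Function.Surjective q₁.1) (η₁ : F.obj A₁)
    (htan : ∀ θ : F.obj (dual Λ k), ∃ g : A₁ ⟶ dual Λ k, F.map g η₁ = θ) :
    ∃ (R : CRing Λ k) (p : S.carrier →ₐ[Λ] R.carrier) (π₁ : HomSet R.carrier R.res A₁)
      (ξ : Family R.carrier R.res F), R.res.comp p = S.res ∧ Function.Surjective p ∧
      π₁.1.comp p = q₁.1 ∧ ξ.app A₁ π₁ = η₁ ∧ IsVersal ξ := by
  classical
  choose next f hfs hfq hfη hlift using fun s : Stage S F => exists_step h1 s
  let st : ℕ → Stage S F := Nat.rec ⟨A₁, q₁, hq₁, η₁⟩ (fun _ s => next s)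
  obtain ⟨R, p, π, hp, hps, hπ, hπp⟩ := exists_limit (A := fun n => (st n).A)
    (f := fun n => f (st n)) S (fun n => (st n).q) (fun n => hfq (st n)) (fun n => (st n).hq)
  obtain ⟨ξ, hξ⟩ := exists_family_system hπ (fun n => (st n).η) (fun n => hfη (st n))
  refine ⟨R, p, π 0, ξ, hp, hps, hπp 0, hξ 0, ?_⟩
  refine (Groth.Agent.S12728.result h0 h1 h2 R ξ).mpr ⟨fun θ => ?_, fun B A μ hμ φ y hy => ?_⟩
  · obtain ⟨g, hg⟩ := htan θ
    refine ⟨HomSet.map g (π 0), ?_⟩
    change ξ.app _ (HomSet.map g (π 0)) = θ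
    rw [ξ.natural]
    exact (congrArg (F.map g) (hξ 0)).trans hg
  · obtain ⟨n, hn⟩ := cofinal_ker hπ φ
    obtain ⟨g, hg⟩ := exists_factor hπ φ hn
    obtain ⟨P, p₁, p₂, hP⟩ := exists_fibre_of_surjective g μ hμ.1
    have hsmall := isSmallExt_fst hP hμ
    obtain ⟨χ, hχ⟩ := hS p₁ hsmall.1 ((st n).q : HomSet S.carrier S.res _)
    have hχ : HomSet.map p₁ χ = (st n).q := hχ
    obtain ⟨z, hz⟩ := h1 p₁ p₂ g μ hP hμ.1 ⟨((st n).η, y), by
      rw [← hξ n, ← ξ.natural, hg, hy]⟩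
    have hz₁ : F.map p₁ z = (st n).η := congrArg (fun w => w.1.1) hz
    rcases surjective_or_factor (st n).hq hsmall hχ with hs | hk
    · obtain ⟨r, hr⟩ := hlift (st n) P p₁ χ z hsmall hs hχ hz₁
      refine ⟨HomSet.map (r ≫ p₂) (π (n + 1)), Subtype.ext (AlgHom.ext fun x => ?_)⟩
      obtain ⟨x, rfl⟩ := hps x
      have e1 : r ((π (n + 1)).1 (p x)) = χ.1 x := by
        rw [show (π (n + 1)).1 (p x) = (st (n + 1)).q.1 x from
          congrArg (fun t : _ →ₐ[Λ] (st (n + 1)).A => t x) (hπp (n + 1))]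
        exact congrArg (fun t => t.1 x) hr
      change μ (p₂ (r ((π (n + 1)).1 (p x)))) = φ.1 (p x)
      rw [e1, ← hP.w_apply, ← hg,
        show p₁ (χ.1 x) = (st n).q.1 x from congrArg (fun t => t.1 x) hχ,
        show (st n).q.1 x = (π n).1 (p x) from
          (congrArg (fun t : _ →ₐ[Λ] (st n).A => t x) (hπp n)).symm]
      rfl
    · have hk' : RingHom.ker (st n).q.1 ≤ RingHom.ker χ.1 := hk
      let sA : (st n).A →ₐ[Λ] P := AlgHom.liftOfSurjective (st n).q.1 (st n).hq χ.1 hk'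
      have hsA : ∀ x, sA ((st n).q.1 x) = χ.1 x :=
        AlgHom.liftOfSurjective_apply (st n).q.1 (st n).hq χ.1 hk'
      let ψ : R.carrier →ₐ[Λ] B := (p₂.toAlgHom.comp sA).comp (π n).1
      have hψ : ∀ x, ψ (p x) = p₂ (χ.1 x) := fun x => by
        change p₂ (sA ((π n).1 (p x))) = _
        rw [show (π n).1 (p x) = (st n).q.1 x from
          congrArg (fun t : _ →ₐ[Λ] (st n).A => t x) (hπp n), hsA]
      refine ⟨⟨ψ, AlgHom.ext fun r => ?_⟩, Subtype.ext (AlgHom.ext fun r => ?_)⟩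
      · obtain ⟨x, rfl⟩ := hps r
        change B.res (ψ (p x)) = R.res (p x)
        rw [hψ, res_app]
        exact (congrArg (fun t : _ →ₐ[Λ] k => t x) χ.2).trans
          (congrArg (fun t : _ →ₐ[Λ] k => t x) hp).symm
      · obtain ⟨x, rfl⟩ := hps r
        change μ (ψ (p x)) = φ.1 (p x)
        rw [hψ, ← hP.w_apply, ← hg,
          show p₁ (χ.1 x) = (st n).q.1 x from congrArg (fun t => t.1 x) hχ,
          show (st n).q.1 x = (π n).1 (p x) from
            (congrArg (fun t : _ →ₐ[Λ] (st n).A => t x) (hπp n)).symm]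
        rfl

/-- A smooth coefficient ring mapping onto `k ⊕ k^d`. -/
theorem exists_smooth_onto_dualN (d : ℕ) :
    ∃ (S : CRing Λ k) (q : HomSet S.carrier S.res (dualN Λ k d)),
      IsSmoothFunctor (hR S.carrier S.res) ∧ Function.Surjective q.1 :=
  exists_smooth_cover _

theorem hasVersal [TangentStr F] (h0 : H0 F) (h1 : S1 F) (h2 : Heps F) (h3 : Hfin F) :
    HasVersal F := by
  haveI : Module.Finite k (TangentSpace F) := h3
  obtain ⟨d, θ, hθ⟩ := Module.Finite.exists_fin (R := k) (M := TangentSpace F)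
  obtain ⟨η, hη⟩ := exists_coord h0 h2 θ
  obtain ⟨S, q, hS, hq⟩ := exists_smooth_onto_dualN (Λ := Λ) (k := k) d
  obtain ⟨R, p, π₁, ξ, -, -, -, -, hξ⟩ := exists_versal h0 h1 h2 S hS _ q hq η fun x => by
    obtain ⟨a, ha⟩ := coordMap_surjective hθ hη x
    exact ⟨tmN1 a, ha⟩
  exact ⟨⟨R, ξ, hξ⟩⟩

end Versal

end Groth.Agent.H24Art
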