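import Groth.Agent.H24Art.Minimal
import Groth.Agent.H24Art.AdicSmooth
import Mathlib.RingTheory.MvPowerSeries.Derivative
import Mathlib.Algebra.TrivSqZeroExt.Basic
import Mathlib.RingTheory.Nilpotent.Lemmas

/-! A complete local algebra in characteristic zero is a power series ring iff maps to trivial square zero
extensions lift along surjections of modules. -/

set_option autoImplicit false
set_option linter.style.haveILetI false

universe u

open CategoryTheory

namespace Groth.Agent.H24Art

open ArtFun ArtFun.Art IsLocalRing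

variable {k : Type u} [Field k]

local notation "PS" d:max => MvPowerSeries (Fin d) k

/-- `k⟦x_1, …, x_d⟧` as a coefficient ring over `k`. -/
theorem exists_psRing (d : ℕ) : ∃ (res : PS d →ₐ[k] k),
    (∀ g, g ∈ maximalIdeal (PS d) ↔ res g = 0) ∧
      IsAdicComplete (maximalIdeal (PS d)) (PS d) ∧
        ∀ (T : CRing k k) (y : Fin d → T.carrier), (∀ i, y i ∈ maximalIdeal T.carrier) →
          ∃ Φ : PS d →ₐ[k] T.carrier, T.res.comp Φ = res ∧ ∀ i, Φ (MvPowerSeries.X i) = y i := by
  haveI hc : IsAdicComplete (maximalIdeal k) k := by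
    rw [IsLocalRing.maximalIdeal_eq_bot]
    infer_instance
  have hk : Function.Surjective (algebraMap k k) := fun x => ⟨x, rfl⟩
  let Rk := baseRing (Λ := k) (k := k) hk
  let T₀ := pscr Rk d
  refine ⟨T₀.res, fun g => T₀.mem_maximalIdeal_iff g, T₀.isAdicComplete, fun T y hy => ?_⟩
  obtain ⟨Φ, hΦ, -, hX⟩ := ps_exists_hom (R := Rk) T (Algebra.ofId k T.carrier) (baseRing_comp hk T) y
    fun i => (T.mem_maximalIdeal_iff _).mp (hy i)
  exact ⟨Φ, hΦ, hX⟩

section Tsze

variable {A : Art k k} {M : Type u} [AddCommGroup M] [Module A M] [Module Aᵐᵒᵖ M] [IsCentralScalar A M]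
  [Module k M] [IsScalarTower k A M] [IsScalarTower k Aᵐᵒᵖ M]

theorem fst_mem_maximalIdeal {T : Type u} [CommRing T] [Algebra k T] [IsLocalRing T] {res : T →ₐ[k] k}
    (hres : ∀ g, g ∈ maximalIdeal T ↔ res g = 0) (f : T →ₐ[k] TrivSqZeroExt A M) {x : T}
    (hx : x ∈ maximalIdeal T) : (f x).fst ∈ maximalIdeal A := by
  let χ : T →ₐ[k] k := A.res.comp ((TrivSqZeroExt.fstHom k (A : Type u) M).comp f)
  have hχ : χ x = 0 := by
    by_contra hne
    have h1 : x - algebraMap k T (χ x) ∈ RingHom.ker χ := by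
      rw [RingHom.mem_ker, map_sub, AlgHom.commutes, Algebra.algebraMap_self_apply, sub_self]
    have h2 : RingHom.ker χ ≤ maximalIdeal T :=
      IsLocalRing.le_maximalIdeal (RingHom.ker_ne_top _)
    have h3 := sub_mem hx (h2 h1)
    rw [sub_sub_cancel, hres, AlgHom.commutes, Algebra.algebraMap_self_apply] at h3
    exact hne h3
  exact (A.mem_maximalIdeal_iff _).mpr hχ

theorem isNilpotent_of_fst_mem {x : TrivSqZeroExt A M} (hx : x.fst ∈ maximalIdeal A) : IsNilpotent x := by
  obtain ⟨c, hc⟩ := isNilpotent_maximalIdeal A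
  have h : x.fst ^ c = 0 := by
    have := Ideal.pow_mem_pow hx c
    rwa [hc, Ideal.zero_eq_bot, Ideal.mem_bot] at this
  refine ⟨c * 2, ?_⟩
  have h0 : (x ^ c).fst = 0 := by rw [TrivSqZeroExt.fst_pow, h]
  rw [pow_mul, sq]
  ext
  · rw [TrivSqZeroExt.fst_mul, h0, zero_mul, TrivSqZeroExt.fst_zero]
  · rw [TrivSqZeroExt.snd_mul, h0, MulOpposite.op_zero, zero_smul, zero_smul, add_zero, TrivSqZeroExt.snd_zero]

theorem exists_pow_le_ker {T : Type u} [CommRing T] [Algebra k T] [IsLocalRing T] [IsNoetherianRing T]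
    {res : T →ₐ[k] k} (hres : ∀ g, g ∈ maximalIdeal T ↔ res g = 0) (f : T →ₐ[k] TrivSqZeroExt A M) :
    ∃ N : ℕ, ∀ n, N ≤ n → maximalIdeal T ^ n ≤ RingHom.ker f := by
  have h0 : (maximalIdeal T).FG := IsNoetherian.noetherian _
  have hfg : ((maximalIdeal T).map (f : T →+* TrivSqZeroExt A M)).FG := h0.map _
  have hle : (maximalIdeal T).map (f : T →+* TrivSqZeroExt A M) ≤ nilradical (TrivSqZeroExt A M) :=
    Ideal.map_le_iff_le_comap.mpr fun x hx =>
      mem_nilradical.mpr (isNilpotent_of_fst_mem (fst_mem_maximalIdeal hres f hx))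
  obtain ⟨N, hN⟩ := hfg.isNilpotent_iff_le_nilradical.mpr hle
  refine ⟨N, fun n hn x hx => RingHom.mem_ker.mpr ?_⟩
  have h := Ideal.mem_map_of_mem (f : T →+* TrivSqZeroExt A M) (Ideal.pow_le_pow_right hn hx)
  rwa [Ideal.map_pow, hN, Ideal.zero_eq_bot, Ideal.mem_bot] at h

theorem psHom_ext {d : ℕ} {f f' : PS d →ₐ[k] TrivSqZeroExt A M}
    (h : ∀ i, f (MvPowerSeries.X i) = f' (MvPowerSeries.X i)) : f = f' := by
  obtain ⟨res, hres, -, -⟩ := exists_psRing (k := k) d
  obtain ⟨N, hN⟩ := exists_pow_le_ker hres f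
  obtain ⟨N', hN'⟩ := exists_pow_le_ker hres f'
  let ι : MvPolynomial (Fin d) k →ₐ[k] PS d :=
    { MvPolynomial.coeToMvPowerSeries.ringHom with commutes' := fun r => MvPolynomial.coe_C r }
  have hι : f.comp ι = f'.comp ι := MvPolynomial.algHom_ext fun i => by
    show f ((MvPolynomial.X i : MvPolynomial (Fin d) k) : PS d) = f' _
    rw [MvPolynomial.coe_X]
    exact h i |>.trans (congrArg f' (MvPolynomial.coe_X i)).symm
  refine AlgHom.ext fun g => ?_
  have hd := sub_truncTotal_mem g (max N N')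
  have h1 := hN _ (le_max_left N N') hd
  have h2 := hN' _ (le_max_right N N') hd
  rw [RingHom.mem_ker, map_sub, sub_eq_zero] at h1 h2
  exact h1.trans ((DFunLike.congr_fun hι (MvPowerSeries.truncTotal (max N N') g)).trans h2.symm)

end Tsze

theorem exists_eval_nilpotent {d : ℕ} {S : Type u} [CommRing S] [Algebra k S] (s : Fin d → S)
    (hs : ∀ i, IsNilpotent (s i)) : ∃ f : PS d →ₐ[k] S, ∀ i, f (MvPowerSeries.X i) = s i := by
  let g : MvPolynomial (Fin d) k →ₐ[k] S := MvPolynomial.aeval s
  have hfg : ((MvPolynomial.idealOfVars (Fin d) k).map g).FG :=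
    Ideal.FG.map (MvPolynomial.idealOfVars_fg (Fin d) k) (g : MvPolynomial (Fin d) k →+* S)
  have hle : (MvPolynomial.idealOfVars (Fin d) k).map g ≤ nilradical S := by
    rw [Ideal.map_le_iff_le_comap]
    refine Ideal.span_le.mpr ?_
    rintro _ ⟨i, rfl⟩
    simpa [g, mem_nilradical] using hs i
  obtain ⟨c, hc⟩ := hfg.isNilpotent_iff_le_nilradical.mpr hle
  have hI : ∀ p ∈ MvPolynomial.idealOfVars (Fin d) k ^ (c + 2), g p = 0 := fun p hp => by
    have h := Ideal.mem_map_of_mem g (Ideal.pow_le_pow_right (show c ≤ c + 2 by omega) hp)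
    rwa [Ideal.map_pow, hc, Ideal.zero_eq_bot, Ideal.mem_bot] at h
  let f : PS d →ₐ[k] S := (Ideal.Quotient.liftₐ _ g hI).comp ((MvPowerSeries.truncTotalAlgHom (Fin d) k (c + 2)).restrictScalars k)
  refine ⟨f, fun i => ?_⟩
  show g (MvPowerSeries.truncTotal (c + 2) (MvPowerSeries.X i)) = s i
  refine Eq.trans ?_ (MvPolynomial.aeval_X (R := k) s i)
  rw [← sub_eq_zero, ← map_sub]
  refine hI _ ((MvPolynomial.mem_pow_idealOfVars_iff' _ _).mpr fun x hx => ?_)
  rw [MvPolynomial.coeff_sub, MvPowerSeries.coeff_truncTotal _ hx, ← MvPolynomial.coe_X, MvPolynomial.coeff_coe,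
    sub_self]

theorem exists_lift_of_algEquiv {R : CRing k k} {d : ℕ} (e : R.carrier ≃ₐ[k] PS d) (A : Art k k) (M M' : Type u)
    [AddCommGroup M] [Module A M] [Module Aᵐᵒᵖ M] [IsCentralScalar A M] [Module k M] [IsScalarTower k A M]
    [IsScalarTower k Aᵐᵒᵖ M] [AddCommGroup M'] [Module A M'] [Module Aᵐᵒᵖ M'] [IsCentralScalar A M'] [Module k M']
    [IsScalarTower k A M'] [IsScalarTower k Aᵐᵒᵖ M'] (f : M' →ₗ[A] M) (hf : Function.Surjective f)
    (φ : R.carrier →ₐ[k] TrivSqZeroExt A M) :
    ∃ ψ : R.carrier →ₐ[k] TrivSqZeroExt A M',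
      ∀ r : R.carrier, (ψ r).fst = (φ r).fst ∧ f (ψ r).snd = (φ r).snd := by
  obtain ⟨res, hres, -, -⟩ := exists_psRing (k := k) d
  let φ' : PS d →ₐ[k] TrivSqZeroExt A M := φ.comp e.symm.toAlgHom
  choose m hm using fun i => hf (φ' (MvPowerSeries.X i)).snd
  have hX : ∀ i, MvPowerSeries.X i ∈ maximalIdeal (PS d) := fun i => by
    rw [mem_maximalIdeal_mvPowerSeries, MvPowerSeries.constantCoeff_X]
    exact zero_mem _
  obtain ⟨ψ', hψ'⟩ := exists_eval_nilpotent (k := k) (S := TrivSqZeroExt A M')
    (fun i => TrivSqZeroExt.inl (φ' (MvPowerSeries.X i)).fst + TrivSqZeroExt.inr (m i))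
    fun i => isNilpotent_of_fst_mem (by simpa using fst_mem_maximalIdeal hres φ' (hX i))
  let F : TrivSqZeroExt A M' →ₐ[k] TrivSqZeroExt A M :=
    (TrivSqZeroExt.map (R' := A) f).restrictScalars k
  have hF : ∀ x, (F x).fst = x.fst ∧ (F x).snd = f x.snd := fun x =>
    ⟨TrivSqZeroExt.fst_map f x, TrivSqZeroExt.snd_map f x⟩
  have heq : F.comp ψ' = φ' := psHom_ext fun i => by
    rw [AlgHom.comp_apply, hψ']
    refine TrivSqZeroExt.ext ?_ ?_
    · simp [(hF _).1]
    · simp [(hF _).2, hm]
  refine ⟨ψ'.comp e.toAlgHom, fun r => ?_⟩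
  have h := DFunLike.congr_fun heq (e r)
  simp only [φ', AlgHom.comp_apply, AlgEquiv.coe_toAlgHom, AlgEquiv.symm_apply_apply] at h
  exact ⟨by rw [← h]; exact ((hF _).1).symm, by rw [← h]; exact ((hF _).2).symm⟩

/-- A surjection from a power series ring with the number of variables of the embedding dimension, with kernel in the
square of the maximal ideal. -/
theorem exists_minimal_presentation (R : CRing k k) :
    ∃ Φ : PS (Module.finrank (ResidueField R.carrier) (CotangentSpace R.carrier)) →ₐ[k] R.carrier,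
      Function.Surjective Φ ∧ (∀ i, Φ (MvPowerSeries.X i) ∈ maximalIdeal R.carrier) ∧
        ∀ g, Φ g = 0 → MvPowerSeries.constantCoeff g = 0 ∧
          ∀ i, MvPowerSeries.coeff (Finsupp.single i 1) g = 0 := by
  classical
  haveI hc : IsAdicComplete (maximalIdeal k) k := by
    rw [IsLocalRing.maximalIdeal_eq_bot]
    infer_instance
  haveI := R.isAdicComplete
  have hk : Function.Surjective (algebraMap k k) := fun x => ⟨x, rfl⟩
  let d := Module.finrank (ResidueField R.carrier) (CotangentSpace R.carrier)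
  let b : Module.Basis (Fin d) (ResidueField R.carrier) (CotangentSpace R.carrier) := Module.finBasis _ _
  choose y hy using fun i => (maximalIdeal R.carrier).toCotangent_surjective (b i)
  let T₀ := pscr (baseRing (Λ := k) (k := k) hk) d
  obtain ⟨Φ, hΦ, -, hX⟩ := ps_exists_hom (R := baseRing (Λ := k) (k := k) hk) R (Algebra.ofId k R.carrier)
    (baseRing_comp hk R) (fun i => (y i : R.carrier)) fun i => (R.mem_maximalIdeal_iff _).mp (y i).2
  haveI := T₀.isAdicComplete
  have hres : ∀ c : k, R.res (algebraMap k R.carrier c) = c := fun c => R.res.commutes c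
  have hd : ∀ x : R.carrier, x - algebraMap k R.carrier (R.res x) ∈ maximalIdeal R.carrier := fun x => by
    rw [R.mem_maximalIdeal_iff, map_sub, hres, sub_self]
  have hX' : ∀ i, Φ (MvPowerSeries.X i) = (y i : R.carrier) := hX
  have hXm : ∀ i, (MvPowerSeries.X i : PS d) ∈ maximalIdeal (PS d) := fun i => by
    rw [mem_maximalIdeal_mvPowerSeries, MvPowerSeries.constantCoeff_X]
    exact zero_mem _
  have hsurj : Function.Surjective Φ := by
    refine surjective_of_cotangent (R := PS d) Φ.toRingHom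
      (fun x => ⟨algebraMap k (PS d) (R.res x), by
        rw [show Φ.toRingHom (algebraMap k (PS d) (R.res x)) = algebraMap k R.carrier (R.res x) from Φ.commutes _]
        exact hd x⟩) (le_antisymm (sup_le ?_ (Ideal.pow_le_self two_ne_zero)) fun x hx => ?_)
    · rw [Ideal.map_le_iff_le_comap]
      exact CRing.maximalIdeal_le_comap (R' := T₀) (R := R) Φ hΦ
    · obtain ⟨c, hc⟩ : ∃ c : Fin d → ResidueField R.carrier, ∑ i, c i • b i = (maximalIdeal R.carrier).toCotangent ⟨x, hx⟩ :=
        ⟨b.repr _, b.sum_repr _⟩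
      choose c' hc' using fun i => IsLocalRing.residue_surjective (c i)
      have h2 : x - ∑ i, c' i * (y i : R.carrier) ∈ maximalIdeal R.carrier ^ 2 := by
        have h3 : (maximalIdeal R.carrier).toCotangent ⟨x, hx⟩ =
            (maximalIdeal R.carrier).toCotangent (∑ i, c' i • y i) := by
          rw [map_sum, ← hc]
          refine Finset.sum_congr rfl fun i _ => ?_
          rw [map_smul, hy, ← hc']
          rfl
        rw [Ideal.toCotangent_eq] at h3
        simpa using h3
      have h4 : ∑ i, c' i * (y i : R.carrier) ∈ (maximalIdeal (PS d)).map Φ.toRingHom :=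
        sum_mem fun i _ => Ideal.mul_mem_left _ _ (hX' i ▸ Ideal.mem_map_of_mem Φ.toRingHom (hXm i))
      rw [← sub_add_cancel x (∑ i, c' i * (y i : R.carrier))]
      exact add_mem (Submodule.mem_sup_right h2) (Submodule.mem_sup_left h4)
  refine ⟨Φ, hsurj, fun i => by rw [hX']; exact (y i).2, fun g hg => ?_⟩
  have hg0 : MvPowerSeries.constantCoeff g = 0 := by
    have h := DFunLike.congr_fun hΦ g
    rw [AlgHom.comp_apply, hg, map_zero] at h
    exact h.symm
  refine ⟨hg0, ?_⟩
  let l : Fin d → k := fun i => MvPowerSeries.coeff (Finsupp.single i 1) g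
  have hgl : g - ∑ i, algebraMap k (PS d) (l i) * MvPowerSeries.X i ∈ maximalIdeal (PS d) ^ 2 := by
    refine mem_pow_of_coeff fun e he => ?_
    rw [map_sub, map_sum]
    have hterm : ∀ i, MvPowerSeries.coeff e (algebraMap k (PS d) (l i) * MvPowerSeries.X i) =
        if e = Finsupp.single i 1 then l i else 0 := fun i => by
      rw [MvPowerSeries.algebraMap_apply, Algebra.algebraMap_self_apply, MvPowerSeries.coeff_C_mul, MvPowerSeries.coeff_X]
      split <;> simp
    simp only [hterm]
    by_cases h0 : e = 0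
    · subst h0
      rw [Finset.sum_eq_zero fun i _ => if_neg fun h => one_ne_zero ((Finsupp.single_eq_zero).mp h.symm),
        MvPowerSeries.coeff_zero_eq_constantCoeff_apply, hg0, sub_zero]
      exact zero_mem _
    · obtain ⟨i, rfl⟩ : ∃ i, e = Finsupp.single i 1 := by
        obtain ⟨i, hi⟩ := Finsupp.support_nonempty_iff.mpr h0
        refine ⟨i, ?_⟩
        have hle : Finsupp.single i 1 ≤ e :=
          Finsupp.single_le_iff.mpr (Nat.one_le_iff_ne_zero.mpr (Finsupp.mem_support_iff.mp hi))
        obtain ⟨e', rfl⟩ := exists_add_of_le hle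
        rw [map_add, Finsupp.degree_single] at he
        rw [(Finsupp.degree_eq_zero_iff e').mp (by omega), add_zero]
      rw [Finset.sum_eq_single i (fun j _ hj => if_neg fun h =>
        hj (Finsupp.single_left_injective one_ne_zero h).symm) (fun h => absurd (Finset.mem_univ i) h), if_pos rfl,
        sub_self]
      exact zero_mem _
  have h5 : ∑ i, algebraMap k R.carrier (l i) • y i ∈ LinearMap.ker (maximalIdeal R.carrier).toCotangent := by
    have h := Ideal.mem_map_of_mem Φ.toRingHom hgl
    rw [Ideal.map_pow] at h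
    have h' := Ideal.pow_right_mono (Ideal.map_le_iff_le_comap.mpr
      (CRing.maximalIdeal_le_comap (R' := T₀) (R := R) Φ hΦ)) 2 h
    rw [LinearMap.mem_ker, Ideal.toCotangent_eq_zero]
    rw [map_sub, show Φ.toRingHom g = 0 from hg, zero_sub, neg_mem_iff, map_sum] at h'
    convert! h' using 1
    simp [hX', Algebra.smul_def]
  rw [LinearMap.mem_ker, map_sum] at h5
  have h6 := Fintype.linearIndependent_iff.mp b.linearIndependent
    (fun i => residue R.carrier (algebraMap k R.carrier (l i))) (by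
      rw [← h5]
      refine Finset.sum_congr rfl fun i _ => ?_
      rw [map_smul, hy]
      rfl)
  intro i
  have h7 : algebraMap k R.carrier (l i) ∈ maximalIdeal R.carrier := (residue_eq_zero_iff _).mp (h6 i)
  rwa [R.mem_maximalIdeal_iff, hres] at h7

theorem centralOp (A : Type u) [CommRing A] (M : Type u) [AddCommGroup M] [Module A M] :
    letI : Module Aᵐᵒᵖ M := Module.compHom M ((RingHom.id A).fromOpposite fun x y => Commute.all _ _)
    IsCentralScalar A M :=
  letI : Module Aᵐᵒᵖ M := Module.compHom M ((RingHom.id A).fromOpposite fun x y => Commute.all _ _)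
  ⟨fun _ _ => rfl⟩

theorem towerOp {k₀ : Type u} [CommRing k₀] (A : Type u) [CommRing A] [Algebra k₀ A] (M : Type u) [AddCommGroup M]
    [Module A M] [Module k₀ M] [IsScalarTower k₀ A M] :
    letI : Module Aᵐᵒᵖ M := Module.compHom M ((RingHom.id A).fromOpposite fun x y => Commute.all _ _)
    IsScalarTower k₀ Aᵐᵒᵖ M :=
  letI : Module Aᵐᵒᵖ M := Module.compHom M ((RingHom.id A).fromOpposite fun x y => Commute.all _ _)
  ⟨fun c a m => smul_assoc c (MulOpposite.unop a) m⟩

/-- The lifting property forces the ideal of a minimal presentation to vanish. -/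
theorem exists_algEquiv_of_lifting [CharZero k] (R : CRing k k)
    (hlift : ∀ (A : ArtFun.Art k k) (M M' : Type u) [AddCommGroup M] [Module (↥A) M] [Module (↥A)ᵐᵒᵖ M]
        [IsCentralScalar (↥A) M] [Module k M] [IsScalarTower k (↥A) M] [IsScalarTower k (↥A)ᵐᵒᵖ M]
        [AddCommGroup M'] [Module (↥A) M'] [Module (↥A)ᵐᵒᵖ M'] [IsCentralScalar (↥A) M'] [Module k M']
        [IsScalarTower k (↥A) M'] [IsScalarTower k (↥A)ᵐᵒᵖ M'] [Module.Finite A M] [Module.Finite A M']
        (f : M' →ₗ[↥A] M),
        Function.Surjective f →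
          ∀ φ : R.carrier →ₐ[k] TrivSqZeroExt (↥A) M,
            ∃ ψ : R.carrier →ₐ[k] TrivSqZeroExt (↥A) M',
              ∀ r : R.carrier, (ψ r).fst = (φ r).fst ∧ f (ψ r).snd = (φ r).snd) :
    Nonempty (R.carrier ≃ₐ[k] MvPowerSeries
        (Fin (Module.finrank (ResidueField R.carrier) (CotangentSpace R.carrier))) k) := by
  classical
  obtain ⟨Φ, hΦs, hΦX, hΦ0⟩ := exists_minimal_presentation R
  let d := Module.finrank (ResidueField R.carrier) (CotangentSpace R.carrier)
  have hder : ∀ g, Φ g = 0 → ∀ i, Φ (MvPowerSeries.pderiv k i g) = 0 := by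
    intro g hg i
    haveI := R.isAdicComplete
    refine IsHausdorff.haus (I := maximalIdeal R.carrier) inferInstance _ fun n => ?_
    rw [SModEq.zero, smul_eq_mul, Ideal.mul_top]
    obtain ⟨E, π, hπs, hπk⟩ := exists_art_quot (P := R.carrier) (ρ := R.res) R.res_surjective n
    let q : PS d →ₐ[k] E := π.1.comp Φ
    letI iM' : Module (↥E)ᵐᵒᵖ (Fin d → E) := Module.compHom _ ((RingHom.id E).fromOpposite fun x y => Commute.all _ _)
    haveI := centralOp E (Fin d → E)
    haveI := towerOp (k₀ := k) E (Fin d → E)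
    let grad : PS d → (Fin d → E) := fun s j => q (MvPowerSeries.pderiv k j s)
    let δ : PS d →ₐ[k] TrivSqZeroExt E (Fin d → E) :=
      { toFun := fun s => TrivSqZeroExt.inl (q s) + TrivSqZeroExt.inr (grad s)
        map_one' := by ext <;> simp [grad, MvPowerSeries.pderiv_one]
        map_mul' := fun s t => by
          refine TrivSqZeroExt.ext (by simp) ?_
          funext j
          simp [grad, Derivation.leibniz, op_smul_eq_smul]
        map_zero' := by ext <;> simp [grad]
        map_add' := fun s t => by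
          refine TrivSqZeroExt.ext (by simp) ?_
          funext j
          simp [grad]
        commutes' := fun c => by
          refine TrivSqZeroExt.ext ?_ ?_
          · simp [TrivSqZeroExt.algebraMap_eq_inl']
          · funext j
            simp [grad, TrivSqZeroExt.algebraMap_eq_inl', Derivation.map_algebraMap] }
    let N : Submodule E (Fin d → E) := Submodule.span E (grad '' {s | Φ s = 0})
    letI iM : Module (↥E)ᵐᵒᵖ ((Fin d → E) ⧸ N) := Module.compHom _ ((RingHom.id E).fromOpposite fun x y => Commute.all _ _)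
    haveI := centralOp E ((Fin d → E) ⧸ N)
    haveI := towerOp (k₀ := k) E ((Fin d → E) ⧸ N)
    let F : TrivSqZeroExt E (Fin d → E) →ₐ[k] TrivSqZeroExt E ((Fin d → E) ⧸ N) :=
      (TrivSqZeroExt.map (R' := E) N.mkQ).restrictScalars k
    have hF : ∀ x, (F x).fst = x.fst ∧ (F x).snd = N.mkQ x.snd := fun x =>
      ⟨TrivSqZeroExt.fst_map _ x, TrivSqZeroExt.snd_map _ x⟩
    have hδ : ∀ s, (δ s).fst = q s ∧ (δ s).snd = grad s := fun s => ⟨by simp [δ], by simp [δ]⟩
    have hker : RingHom.ker Φ ≤ RingHom.ker (F.comp δ) := fun s hs => by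
      rw [RingHom.mem_ker] at hs ⊢
      refine TrivSqZeroExt.ext ?_ ?_
      · rw [AlgHom.comp_apply, (hF _).1, (hδ _).1]
        show π.1 (Φ s) = 0
        rw [hs, map_zero]
      · rw [AlgHom.comp_apply, (hF _).2, (hδ _).2, Submodule.mkQ_apply, TrivSqZeroExt.snd_zero,
          Submodule.Quotient.mk_eq_zero]
        exact Submodule.subset_span ⟨s, hs, rfl⟩
    let φ : R.carrier →ₐ[k] TrivSqZeroExt E ((Fin d → E) ⧸ N) := AlgHom.liftOfSurjective Φ hΦs (F.comp δ) hker
    have hφ : ∀ s, φ (Φ s) = F (δ s) := fun s => DFunLike.congr_fun (AlgHom.liftOfSurjective_comp Φ hΦs (F.comp δ) hker) s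
    obtain ⟨ψ, hψ⟩ := hlift E ((Fin d → E) ⧸ N) (Fin d → E) N.mkQ N.mkQ_surjective φ
    let u : Fin d → (Fin d → E) := fun j => (ψ (Φ (MvPowerSeries.X j))).snd
    have hu : ∀ j, u j - Pi.single j 1 ∈ N := fun j => by
      rw [← Submodule.Quotient.eq]
      refine ((hψ _).2.trans ?_)
      rw [hφ, (hF _).2, (hδ _).2]
      have hgj : grad (MvPowerSeries.X j) = Pi.single j 1 := by
        funext i
        simp only [grad, MvPowerSeries.pderiv_X, Pi.single_apply]
        split_ifs <;> simp_all
      rw [hgj]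
      rfl
    let U : (Fin d → E) →ₗ[E] (Fin d → E) := Fintype.linearCombination E u
    let G : TrivSqZeroExt E (Fin d → E) →ₐ[k] TrivSqZeroExt E (Fin d → E) :=
      (TrivSqZeroExt.map (R' := E) U).restrictScalars k
    have hG : ∀ x, (G x).fst = x.fst ∧ (G x).snd = U x.snd := fun x =>
      ⟨TrivSqZeroExt.fst_map _ x, TrivSqZeroExt.snd_map _ x⟩
    have heq : G.comp δ = ψ.comp Φ := psHom_ext fun j => by
      refine TrivSqZeroExt.ext ?_ ?_
      · rw [AlgHom.comp_apply, AlgHom.comp_apply, (hG _).1, (hψ _).1, hφ, (hF _).1]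
      · rw [AlgHom.comp_apply, AlgHom.comp_apply, (hG _).2, (hδ _).2]
        show U (grad (MvPowerSeries.X j)) = u j
        have hgj : grad (MvPowerSeries.X j) = Pi.single j 1 := by
          funext i
          simp only [grad, MvPowerSeries.pderiv_X, Pi.single_apply]
          split_ifs <;> simp_all
        rw [hgj, Fintype.linearCombination_apply_single, one_smul]
    let 𝔡 : Ideal E := Ideal.span {e | ∃ s j, Φ s = 0 ∧ grad s j = e}
    have hN : ∀ x ∈ N, ∀ j, x j ∈ 𝔡 := fun x hx j => by
      induction hx using Submodule.span_induction with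
      | mem x hx =>
        obtain ⟨s, hs, rfl⟩ := hx
        exact Ideal.subset_span ⟨s, j, hs, rfl⟩
      | zero => exact zero_mem _
      | add x y _ _ h1 h2 => exact add_mem h1 h2
      | smul a x _ h1 => exact Ideal.mul_mem_left _ a h1
    have hsq : 𝔡 ≤ 𝔡 • 𝔡 := by
      refine Ideal.span_le.mpr ?_
      rintro _ ⟨s, j, hs, rfl⟩
      have h := congrArg TrivSqZeroExt.snd (DFunLike.congr_fun heq s)
      rw [AlgHom.comp_apply, AlgHom.comp_apply, (hG _).2, (hδ _).2, hs, map_zero, TrivSqZeroExt.snd_zero,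
        Fintype.linearCombination_apply] at h
      have hj : ∑ i, grad s i * (u i j - (Pi.single i 1 : Fin d → E) j) + grad s j = 0 := by
        have hj' := congrFun h j
        rw [Finset.sum_apply] at hj'
        simp only [Pi.smul_apply, smul_eq_mul, Pi.zero_apply] at hj'
        rw [← hj']
        simp [mul_sub, Finset.sum_sub_distrib, Pi.single_apply]
      rw [SetLike.mem_coe, eq_neg_of_add_eq_zero_right hj]
      refine neg_mem (sum_mem fun i _ => ?_)
      exact Submodule.smul_mem_smul (Ideal.subset_span ⟨s, i, hs, rfl⟩) (hN _ (hu i) j)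
    have hle : 𝔡 ≤ maximalIdeal E := Ideal.span_le.mpr (by
      rintro _ ⟨s, j, hs, rfl⟩
      rw [SetLike.mem_coe, E.mem_maximalIdeal_iff]
      show E.res (π.1 (Φ (MvPowerSeries.pderiv k j s))) = 0
      rw [show E.res (π.1 (Φ (MvPowerSeries.pderiv k j s))) = R.res (Φ (MvPowerSeries.pderiv k j s)) from
        DFunLike.congr_fun π.2 _]
      obtain ⟨res, hres, -, -⟩ := exists_psRing (k := k) d
      have h1 : MvPowerSeries.pderiv k j s ∈ maximalIdeal (PS d) := by
        rw [mem_maximalIdeal_mvPowerSeries, IsLocalRing.maximalIdeal_eq_bot, Ideal.mem_bot,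
          ← MvPowerSeries.coeff_zero_eq_constantCoeff_apply, MvPowerSeries.coeff_pderiv, zero_add,
          (hΦ0 s hs).2 j, zero_mul]
      have h2 : Φ (MvPowerSeries.pderiv k j s) ∈ maximalIdeal R.carrier := by
        by_contra hne
        have h3 : IsUnit (MvPowerSeries.pderiv k j s) := by
          by_contra hnu
          apply hne
          rw [R.mem_maximalIdeal_iff]
          have h4 : R.res.comp Φ (MvPowerSeries.pderiv k j s) = 0 := by
            let χ := R.res.comp Φ
            by_contra hne'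
            have h5 : MvPowerSeries.pderiv k j s - algebraMap k (PS d) (χ (MvPowerSeries.pderiv k j s)) ∈
                RingHom.ker χ := by
              rw [RingHom.mem_ker, map_sub, AlgHom.commutes, Algebra.algebraMap_self_apply, sub_self]
            have h6 := sub_mem h1 (IsLocalRing.le_maximalIdeal (RingHom.ker_ne_top _) h5)
            rw [sub_sub_cancel, hres, AlgHom.commutes, Algebra.algebraMap_self_apply] at h6
            exact hne' h6
          exact h4
        exact (IsLocalRing.mem_maximalIdeal _).mp h1 h3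
      exact (R.mem_maximalIdeal_iff _).mp h2)
    have hbot : 𝔡 = ⊥ := Submodule.eq_bot_of_le_smul_of_le_jacobson_bot 𝔡 𝔡 (IsNoetherian.noetherian _) hsq
      (hle.trans (IsLocalRing.maximalIdeal_le_jacobson ⊥))
    have h0 : π.1 (Φ (MvPowerSeries.pderiv k i g)) = 0 :=
      Ideal.mem_bot.mp (hbot ▸ Ideal.subset_span ⟨g, i, hg, rfl⟩ : grad g i ∈ (⊥ : Ideal E))
    have h1 : Φ (MvPowerSeries.pderiv k i g) ∈ RingHom.ker π.1 := RingHom.mem_ker.mpr h0
    rw [hπk, show RingHom.ker R.res = maximalIdeal R.carrier from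
      Ideal.ext fun x => (R.mem_maximalIdeal_iff x).symm] at h1
    exact Ideal.pow_le_pow_right (Nat.le_succ n) h1
  have hzero : ∀ (m : ℕ) (g : PS d), Φ g = 0 → ∀ e : Fin d →₀ ℕ, Finsupp.degree e = m →
      MvPowerSeries.coeff e g = 0 := by
    intro m
    induction m with
    | zero =>
      intro g hg e he
      rw [(Finsupp.degree_eq_zero_iff e).mp he, MvPowerSeries.coeff_zero_eq_constantCoeff_apply]
      exact (hΦ0 g hg).1
    | succ m ih =>
      intro g hg e he
      have h0 : e ≠ 0 := fun h => by rw [h, map_zero] at he; omega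
      obtain ⟨i, hi⟩ := Finsupp.support_nonempty_iff.mpr h0
      have hle : Finsupp.single i 1 ≤ e :=
        Finsupp.single_le_iff.mpr (Nat.one_le_iff_ne_zero.mpr (Finsupp.mem_support_iff.mp hi))
      obtain ⟨c, rfl⟩ := exists_add_of_le hle
      rw [map_add, Finsupp.degree_single] at he
      have h := ih _ (hder g hg i) c (by omega)
      rw [MvPowerSeries.coeff_pderiv, mul_eq_zero, add_comm c] at h
      exact h.resolve_right (Nat.cast_add_one_ne_zero _)
  refine ⟨(AlgEquiv.ofBijective Φ ⟨(injective_iff_map_eq_zero _).mpr fun g hg => ?_, hΦs⟩).symm⟩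
  exact MvPowerSeries.ext fun e => by rw [map_zero]; exact hzero _ g hg e rfl

end Groth.Agent.H24Art
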