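import Groth.Prelude.Def_W4c5t1liftcy3defoArt
import Groth.Agent.H24Art.Functor
import Mathlib.LinearAlgebra.TensorProduct.Basic
import Mathlib.RingTheory.Flat.Basic

/-! The algebras `k[t]/(t^(n+1))` and the maps between them. -/

set_option autoImplicit false
set_option linter.style.haveILetI false

universe u

open CategoryTheory Polynomial

namespace Groth.Agent.H24Art.T1Tr

variable (k : Type u) [Field k]

open T1Lift

theorem αAlg_mk (n : ℕ) (p : k[X]) :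
    αAlg k n (AdjoinRoot.mk _ p) = AdjoinRoot.mk _ p := by
  have h : (αAlg k n).comp (AdjoinRoot.mkₐ _) = AdjoinRoot.mkₐ _ := by
    refine Polynomial.algHom_ext ?_
    change αAlg k n (AdjoinRoot.mk _ X) = AdjoinRoot.mk _ X
    rw [AdjoinRoot.mk_X, AdjoinRoot.mk_X]
    exact αAlg_t k n
  exact AlgHom.congr_fun h p

theorem αAlg_surjective (n : ℕ) : Function.Surjective (αAlg k n) := fun a => by
  obtain ⟨p, rfl⟩ := AdjoinRoot.mk_surjective a
  exact ⟨AdjoinRoot.mk _ p, αAlg_mk k n p⟩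

theorem t_pow_ne_zero (n : ℕ) : t k n ^ n ≠ 0 := by
  intro h
  replace h : AdjoinRoot.mk ((X : k[X]) ^ (n + 1)) (X ^ n) = 0 := by rw [map_pow, AdjoinRoot.mk_X]; exact h
  rw [AdjoinRoot.mk_eq_zero] at h
  have h' := (Polynomial.X_pow_dvd_iff.mp h) n (Nat.lt_succ_self n)
  rw [coeff_X_pow, if_pos rfl] at h'
  exact one_ne_zero h'

theorem mem_ker_αAlg (n : ℕ) {a : Tr k (n + 1)} (h : αAlg k n a = 0) :
    ∃ b, a = t k (n + 1) ^ (n + 1) * b := by
  obtain ⟨p, rfl⟩ := AdjoinRoot.mk_surjective a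
  rw [αAlg_mk, AdjoinRoot.mk_eq_zero] at h
  obtain ⟨q, rfl⟩ := h
  exact ⟨AdjoinRoot.mk _ q, by rw [map_mul, map_pow, AdjoinRoot.mk_X]⟩

theorem mul_eq_zero_of_ker (n : ℕ) {x a : Tr k (n + 1)} (hx : resA k (n + 1) x = 0)
    (ha : αAlg k n a = 0) : x * a = 0 := by
  obtain ⟨b, hb⟩ := eq_algebraMap_add_t_mul k (n + 1) x
  obtain ⟨c, rfl⟩ := mem_ker_αAlg k n ha
  rw [hb, hx, map_zero, zero_add, show t k (n + 1) * b * (t k (n + 1) ^ (n + 1) * c)
    = t k (n + 1) ^ (n + 1 + 1) * (b * c) by ring, t_pow, zero_mul]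

theorem α_isSemismallExt (n : ℕ) : ArtFun.Art.IsSemismallExt (α k n) := by
  refine ⟨αAlg_surjective k n, ?_⟩
  rw [eq_bot_iff, Ideal.mul_le]
  intro x hx y hy
  exact Ideal.mem_bot.mpr (mul_eq_zero_of_ker k n ((ArtFun.Art.mem_maximalIdeal_iff _ x).mp hx) hy)

theorem εAlg_injOn_ker [CharZero k] (n : ℕ) {a : Tr k (n + 1 + 1)} (ha : αAlg k (n + 1) a = 0)
    (h : εAlg k (n + 1) a = 0) : a = 0 := by
  obtain ⟨b, rfl⟩ := mem_ker_αAlg k (n + 1) ha
  obtain ⟨b', hb⟩ := eq_algebraMap_add_t_mul k (n + 1 + 1) b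
  have key : ∀ c : k, t k (n + 1 + 1) ^ (n + 1 + 1) * (algebraMap k _ c + t k (n + 1 + 1) * b')
      = algebraMap k _ c * t k (n + 1 + 1) ^ (n + 1 + 1) := fun c => by
    rw [mul_add, ← mul_assoc, ← pow_succ, t_pow, zero_mul, add_zero, mul_comm]
  rw [hb, key] at h ⊢
  rw [map_mul, map_pow, εAlg_t, AlgHom.commutes] at h
  have h2 := congrArg TrivSqZeroExt.snd h
  rw [TrivSqZeroExt.algebraMap_eq_inl', TrivSqZeroExt.inl_mul_eq_smul, TrivSqZeroExt.snd_smul,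
    TrivSqZeroExt.snd_pow, TrivSqZeroExt.snd_zero, TrivSqZeroExt.fst_add, TrivSqZeroExt.fst_inl,
    DualNumber.fst_eps, add_zero, TrivSqZeroExt.snd_add, TrivSqZeroExt.snd_inl, DualNumber.snd_eps, zero_add,
    smul_eq_mul, smul_eq_mul, mul_one, nsmul_eq_mul, Nat.pred_succ, ← mul_assoc, ← map_natCast (algebraMap k (Tr k (n + 1))),
    ← map_mul] at h2
  by_cases hc : resA k (n + 1 + 1) b = 0
  · rw [hc, map_zero, zero_mul]
  · exfalso
    refine t_pow_ne_zero k (n + 1) ((IsUnit.mul_right_eq_zero ?_).mp h2)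
    exact (Ne.isUnit (mul_ne_zero hc (Nat.cast_ne_zero.mpr (Nat.succ_ne_zero _)))).map _

theorem dual_mul_eq_zero (n : ℕ) (x y : DualNumber (Tr k (n + 1))) (hx : resA k (n + 1) x.fst = 0)
    (h1 : y.fst = 0) (h2 : αAlg k n y.snd = 0) : x * y = 0 := by
  refine TrivSqZeroExt.ext ?_ ?_
  · rw [TrivSqZeroExt.fst_mul, h1, mul_zero, TrivSqZeroExt.fst_zero]
  · rw [TrivSqZeroExt.snd_mul, h1, MulOpposite.op_zero, zero_smul, add_zero, TrivSqZeroExt.snd_zero, smul_eq_mul]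
    exact mul_eq_zero_of_ker k n hx h2

theorem ε_β (n : ℕ) : ε k n ≫ β k n = α k n := by
  refine ArtFun.Art.hom_ext (AdjoinRoot.algHom_ext ?_)
  change (εAlg k n (t k (n + 1))).fst = αAlg k n (t k (n + 1))
  rw [εAlg_t, αAlg_t, TrivSqZeroExt.fst_add, TrivSqZeroExt.fst_inl, DualNumber.fst_eps, add_zero]

theorem sq_ε (n : ℕ) : ε k (n + 1) ≫ ξ k n = α k (n + 1) ≫ ε k n := by
  refine ArtFun.Art.hom_ext (AdjoinRoot.algHom_ext ?_)
  change dualMap k (αAlg k n) (εAlg k (n + 1) (t k (n + 1 + 1))) = εAlg k n (αAlg k (n + 1) (t k (n + 1 + 1)))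
  rw [εAlg_t, αAlg_t, εAlg_t, map_add]
  refine congrArg₂ (· + ·) ?_ ?_
  · exact TrivSqZeroExt.ext (αAlg_t k n) (map_zero _)
  · exact TrivSqZeroExt.ext (map_zero _) (map_one (αAlg k n))

end Groth.Agent.H24Art.T1Tr
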