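import Groth.Agent.H24Art.T1Smooth
import Groth.Agent.H24Art.Prorep

/-! The T1-lifting criterion for unobstructedness of a deformation functor in characteristic zero. -/

set_option autoImplicit false
set_option linter.style.haveILetI false

universe u v

open CategoryTheory

namespace Groth.Agent.H24Art

open ArtFun ArtFun.Art IsLocalRing

variable {k : Type u} [Field k]

/-- The square zero extension of an object by a finite module, as an object. -/
theorem exists_tszArt (A : Art k k) (M : Type u) [AddCommGroup M] [Module A M] [Module Aᵐᵒᵖ M] [IsCentralScalar A M]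
    [Module k M] [IsScalarTower k A M] [IsScalarTower k Aᵐᵒᵖ M] [Module.Finite A M] :
    ∃ (h₁ : IsLocalRing (TrivSqZeroExt A M)) (h₂ : IsArtinianRing (TrivSqZeroExt A M)),
      Function.Surjective (A.res.comp (TrivSqZeroExt.fstHom k (A : Type u) M)) := by
  haveI : Module.Finite k A := moduleFinite A
  haveI : Module.Finite k M := Module.Finite.trans (R := k) A M
  haveI : Module.Finite k (TrivSqZeroExt A M) := inferInstanceAs (Module.Finite k (A × M))
  refine ⟨IsLocalRing.of_isUnit_or_isUnit_one_sub_self fun x => ?_, IsArtinianRing.of_finite k _, fun c => ?_⟩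
  · rw [TrivSqZeroExt.isUnit_iff_isUnit_fst, TrivSqZeroExt.isUnit_iff_isUnit_fst, TrivSqZeroExt.fst_sub,
      TrivSqZeroExt.fst_one]
    exact IsLocalRing.isUnit_or_isUnit_one_sub_self _
  · obtain ⟨a, ha⟩ := A.res_surjective c
    exact ⟨TrivSqZeroExt.inl a, ha⟩

/-- `A ⊕ M` as an object. -/
@[reducible] noncomputable def tszArt (A : Art k k) (M : Type u) [AddCommGroup M] [Module A M] [Module Aᵐᵒᵖ M]
    [IsCentralScalar A M] [Module k M] [IsScalarTower k A M] [IsScalarTower k Aᵐᵒᵖ M] [Module.Finite A M] : Art k k :=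
  letI := (exists_tszArt A M).choose
  letI := (exists_tszArt A M).choose_spec.choose
  { carrier := TrivSqZeroExt A M
    res := A.res.comp (TrivSqZeroExt.fstHom k (A : Type u) M)
    res_surjective := (exists_tszArt A M).choose_spec.choose_spec }

theorem isSmoothFunctor_of_t1_lifting [CharZero k] (F : ArtFun.Art k k ⥤ Type v) [ArtFun.TangentStr F]
    (h0 : ArtFun.H0 F)
    (hRS : (∀ ⦃B A A' A'' : ArtFun.Art k k⦄ (p' : B ⟶ A') (p'' : B ⟶ A'') (f' : A' ⟶ A) (f'' : A'' ⟶ A)
        (h : ArtFun.Art.IsFibreProd p' p'' f' f''), Function.Surjective f'' → Function.Bijective (ArtFun.cmp F h)))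
    (hfin : ArtFun.Hfin F)
    (hT1 : ∀ ⦃A A' A'' : ArtFun.Art k k⦄ (π' : A' ⟶ A) (i' : A ⟶ A') (π'' : A'' ⟶ A) (i'' : A ⟶ A'')
        (q : A'' ⟶ A'), i' ≫ π' = 𝟙 A → i'' ≫ π'' = 𝟙 A →
        RingHom.ker π'.toAlgHom * RingHom.ker π'.toAlgHom = ⊥ →
        RingHom.ker π''.toAlgHom * RingHom.ker π''.toAlgHom = ⊥ →
        q ≫ π' = π'' → i'' ≫ q = i' → Function.Surjective q → Function.Surjective (F.map q)) :
    ArtFun.IsSmoothFunctor F := by
  obtain ⟨⟨R, ξ, hξ⟩⟩ := hasVersal h0 (fun _ _ _ _ p' p'' f' f'' h hs => (hRS p' p'' f' f'' h hs).2)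
    (fun _ A' p' p'' h => hRS p' p'' _ _ h (dual k k).res_surjective) hfin
  have hsurjξ : ∀ (A : Art k k) (x : F.obj A), ∃ φ : HomSet R.carrier R.res A, ξ.app A φ = x := by
    intro A x
    obtain ⟨ψ, -, hψ⟩ := hξ (toBase A) A.res_surjective ⟨R.res, AlgHom.id_comp _⟩ x
      (@Subsingleton.elim _ h0.2 _ _)
    exact ⟨ψ, hψ⟩
  obtain ⟨e⟩ := exists_algEquiv_of_lifting R fun A M M' _ _ _ _ _ _ _ _ _ _ _ _ _ _ _ _ f hf φ => by
    have hsq : ∀ (N : Type u) [AddCommGroup N] [Module A N] [Module (↥A)ᵐᵒᵖ N] [IsCentralScalar A N] [Module k N]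
        [IsScalarTower k A N] [IsScalarTower k (↥A)ᵐᵒᵖ N] [Module.Finite A N]
        (π : tszArt A N ⟶ A), π.toAlgHom = TrivSqZeroExt.fstHom k (A : Type u) N →
          RingHom.ker π.toAlgHom * RingHom.ker π.toAlgHom = ⊥ := by
      intro N _ _ _ _ _ _ _ _ π hπ
      rw [eq_bot_iff, Ideal.mul_le]
      intro x hx y hy
      rw [RingHom.mem_ker, hπ] at hx hy
      rw [Ideal.mem_bot]
      refine TrivSqZeroExt.ext ?_ ?_
      · rw [TrivSqZeroExt.fst_mul, show x.fst = 0 from hx, zero_mul, TrivSqZeroExt.fst_zero]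
      · rw [TrivSqZeroExt.snd_mul, show x.fst = 0 from hx, show y.fst = 0 from hy, MulOpposite.op_zero, zero_smul,
          zero_smul, add_zero, TrivSqZeroExt.snd_zero]
    let π' : tszArt A M ⟶ A := Art.homMk (TrivSqZeroExt.fstHom k (A : Type u) M) rfl
    let π'' : tszArt A M' ⟶ A := Art.homMk (TrivSqZeroExt.fstHom k (A : Type u) M') rfl
    let i' : A ⟶ tszArt A M := Art.homMk ((TrivSqZeroExt.inlAlgHom k (A : Type u) M)) (AlgHom.ext fun a => rfl)
    let i'' : A ⟶ tszArt A M' := Art.homMk ((TrivSqZeroExt.inlAlgHom k (A : Type u) M')) (AlgHom.ext fun a => rfl)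
    let G : TrivSqZeroExt A M' →ₐ[k] TrivSqZeroExt A M := (TrivSqZeroExt.map (R' := A) f).restrictScalars k
    have hG : ∀ x, (G x).fst = x.fst ∧ (G x).snd = f x.snd := fun x =>
      ⟨TrivSqZeroExt.fst_map f x, TrivSqZeroExt.snd_map f x⟩
    let q : tszArt A M' ⟶ tszArt A M := Art.homMk G (AlgHom.ext fun x => congrArg A.res (hG x).1)
    have hqs : Function.Surjective q := fun y => by
      obtain ⟨m, hm⟩ := hf y.snd
      refine ⟨TrivSqZeroExt.inl y.fst + TrivSqZeroExt.inr m, TrivSqZeroExt.ext ?_ ?_⟩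
      · rw [show q _ = G _ from rfl, (hG _).1]; simp
      · rw [show q _ = G _ from rfl, (hG _).2]; simp [hm]
    have hF : Function.Surjective (F.map q) := hT1 π' i' π'' i'' q
      (Art.hom_ext (AlgHom.ext fun a => rfl)) (Art.hom_ext (AlgHom.ext fun a => rfl))
      (hsq M π' rfl) (hsq M' π'' rfl)
      (Art.hom_ext (AlgHom.ext fun x => (hG x).1))
      (Art.hom_ext (AlgHom.ext fun a => TrivSqZeroExt.ext ((hG _).1.trans rfl)
        ((hG _).2.trans ((congrArg f (TrivSqZeroExt.snd_inl M' a)).trans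
          ((map_zero f).trans (TrivSqZeroExt.snd_inl M a).symm))))) hqs
    let φ' : HomSet R.carrier R.res (tszArt A M) := ⟨φ, AlgHom.ext fun r => by
      have hd : r - algebraMap k R.carrier (R.res r) ∈ maximalIdeal R.carrier := by
        rw [R.mem_maximalIdeal_iff, map_sub, R.res.commutes]; exact sub_self _
      have h := (A.mem_maximalIdeal_iff _).mp (fst_mem_maximalIdeal (fun g => R.mem_maximalIdeal_iff g) φ hd)
      rw [map_sub, AlgHom.commutes, TrivSqZeroExt.fst_sub, map_sub, sub_eq_zero] at h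
      exact h.trans (A.res.commutes _)⟩
    obtain ⟨y, hy⟩ := hF (ξ.app _ φ')
    obtain ⟨ψ, hψ, -⟩ := hξ q hqs φ' y hy
    refine ⟨ψ.1, fun r => ?_⟩
    have h := congrArg (fun t : HomSet R.carrier R.res (tszArt A M) => t.1 r) hψ
    exact ⟨((hG _).1).symm.trans (congrArg TrivSqZeroExt.fst h), ((hG _).2).symm.trans (congrArg TrivSqZeroExt.snd h)⟩
  haveI : IsAdicComplete (maximalIdeal k) k := by
    rw [IsLocalRing.maximalIdeal_eq_bot]
    infer_instance
  have hsm := (isSmoothFunctor_iff_ps (Λ := k) (k := k) (fun x => ⟨x, rfl⟩) R).mpr ⟨_, ⟨e⟩⟩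
  intro B A μ hμ x
  obtain ⟨φ, rfl⟩ := hsurjξ A x
  obtain ⟨ψ, hψ⟩ := hsm μ hμ φ
  exact ⟨ξ.app B ψ, (ξ.natural μ ψ).symm.trans (congrArg (ξ.app A) hψ)⟩

end Groth.Agent.H24Art
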